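import Groth.Agent.Lib.CurveCoh17.Skyscraper
import Groth.Agent.Lib.TensorMod.Invertible
import Groth.Agent.Lib.TensorMod.Hom
import Mathlib.RingTheory.Flat.Basic
import Mathlib.LinearAlgebra.TensorProduct.RightExactness
import Mathlib.LinearAlgebra.TensorProduct.Pi

/-!
# Tensoring with a module with flat stalks is exact; stalks of such tensor products
-/

set_option linter.style.haveILetI false
set_option autoImplicit false

universe u

open CategoryTheory TopologicalSpace Opposite CategoryTheory.Limits AlgebraicGeometry TensorProduct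

namespace Groth.Agent.CurveCoh17

open Groth.Agent.M1 Groth.Agent.M2

variable {X : Scheme.{u}}

theorem exists_germ_germ {M N : X.Modules} (x : X) (a : M.presheaf.stalk x) (b : N.presheaf.stalk x) :
    ∃ (U : X.Opens) (hx : x ∈ U) (s : Γ(M, U)) (t : Γ(N, U)),
      M.presheaf.germ U x hx s = a ∧ N.presheaf.germ U x hx t = b := by
  obtain ⟨U, hU, s, rfl⟩ := M.presheaf.exists_germ_eq a
  obtain ⟨V, hV, t, rfl⟩ := N.presheaf.exists_germ_eq b
  exact ⟨U ⊓ V, ⟨hU, hV⟩, mres M inf_le_left s, mres N inf_le_right t, germ_mres M _ _ _, germ_mres N _ _ _⟩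

/-- The map on stalks, linear over the local ring. -/
noncomputable def stalkLin {M N : X.Modules} (f : M ⟶ N) (x : X) :
    M.presheaf.stalk x →ₗ[X.presheaf.stalk x] N.presheaf.stalk x where
  toFun a := (stalkAb x).map f a
  map_add' a b := map_add ((stalkAb x).map f).hom a b
  map_smul' r a := by
    obtain ⟨U, hU, c, rfl⟩ := X.presheaf.exists_germ_eq r
    obtain ⟨V, hV, s, rfl⟩ := M.presheaf.exists_germ_eq a
    have hx : x ∈ U ⊓ V := ⟨hU, hV⟩
    rw [← X.presheaf.germ_res_apply (homOfLE (inf_le_left : U ⊓ V ≤ U)) x hx c,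
      ← germ_mres M (inf_le_right : U ⊓ V ≤ V) hx s]
    have e := germ_smul M hx (ores (inf_le_left : U ⊓ V ≤ U) c) (mres M (inf_le_right : U ⊓ V ≤ V) s)
    refine (congrArg (fun z => (stalkAb x).map f z) e.symm).trans ?_
    rw [germ_naturality, Scheme.Modules.Hom.app_smul, germ_smul]
    refine congrArg (fun z : N.presheaf.stalk x => X.presheaf.germ (U ⊓ V) x hx (ores inf_le_left c) • z) ?_
    exact (germ_naturality f _ x hx _).symm

theorem stalkLin_apply {M N : X.Modules} (f : M ⟶ N) (x : X) (a : M.presheaf.stalk x) :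
    stalkLin f x a = (stalkAb x).map f a := rfl

theorem stalkEquiv_natural {M M' : X.Modules} (f : M ⟶ M') (N : X.Modules) (x : X)
    (a : (CohB1.tensorMod M N).presheaf.stalk x) :
    stalkEquiv M' N x (stalkLin (tensorMap f (𝟙 N)) x a) =
      LinearMap.rTensor (N.presheaf.stalk x) (stalkLin f x) (stalkEquiv M N x a) := by
  obtain ⟨z, rfl⟩ := (stalkEquiv M N x).symm.surjective a
  rw [LinearEquiv.apply_symm_apply]
  induction z using TensorProduct.induction_on with
  | zero => simp only [map_zero]
  | add z w hz hw => simp only [map_add, hz, hw]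
  | tmul p q =>
    obtain ⟨U, hx, s, t, rfl, rfl⟩ := exists_germ_germ x p q
    have h : (stalkEquiv M N x).symm (M.presheaf.germ U x hx s ⊗ₜ N.presheaf.germ U x hx t) =
        (CohB1.tensorMod M N).presheaf.germ U x hx (tsec M N s t) :=
      (LinearEquiv.symm_apply_eq _).2 (stalkEquiv_tsec M N x hx s t).symm
    rw [h, stalkLin_apply, germ_naturality, tensorMap_tsec, stalkEquiv_tsec, LinearMap.rTensor_tmul,
      stalkLin_apply, germ_naturality]
    rfl

/-- Tensoring with a module with flat stalks preserves short exact sequences. -/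
theorem shortExact_tensorR {S : ShortComplex X.Modules} (hS : S.ShortExact) (E : X.Modules)
    (hE : ∀ x : X, Module.Flat (X.presheaf.stalk x) (E.presheaf.stalk x)) :
    (S.map (tensorR E)).ShortExact := by
  haveI := hS.mono_f
  haveI := hS.epi_g
  have hinj : ∀ x, Function.Injective (stalkLin S.f x) := (mono_iff_stalk S.f).1 hS.mono_f
  have hsurj : ∀ x, Function.Surjective (stalkLin S.g x) := (epi_iff_stalk S.g).1 hS.epi_g
  refine { exact := ?_, mono_f := ?_, epi_g := ?_ }
  · rw [exact_iff_stalk_eq_zero]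
    intro x b hb
    have hex : Function.Exact (stalkLin S.f x) (stalkLin S.g x) := by
      intro c
      refine ⟨fun hc => (exact_iff_stalk_eq_zero S).1 hS.exact x c hc, ?_⟩
      rintro ⟨a, rfl⟩
      show ((stalkAb x).map S.f ≫ (stalkAb x).map S.g) a = 0
      rw [← Functor.map_comp, S.zero, Functor.map_zero]
      rfl
    have hex' := rTensor_exact (E.presheaf.stalk x) hex (hsurj x)
    have h0 : LinearMap.rTensor (E.presheaf.stalk x) (stalkLin S.g x) (stalkEquiv S.X₂ E x b) = 0 := by
      rw [← stalkEquiv_natural]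
      exact (congrArg _ hb).trans (map_zero _)
    obtain ⟨c, hc⟩ := (hex' _).1 h0
    obtain ⟨a, rfl⟩ := (stalkEquiv S.X₁ E x).surjective c
    refine ⟨a, (stalkEquiv S.X₂ E x).injective ?_⟩
    rw [← hc]
    exact stalkEquiv_natural S.f E x a
  · refine (mono_iff_stalk _).2 fun x a b h => (stalkEquiv S.X₁ E x).injective ?_
    haveI := hE x
    apply Module.Flat.rTensor_preserves_injective_linearMap (M := E.presheaf.stalk x) (stalkLin S.f x) (hinj x)
    rw [← stalkEquiv_natural, ← stalkEquiv_natural]
    exact congrArg _ h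
  · refine (epi_iff_stalk _).2 fun x b => ?_
    obtain ⟨c, hc⟩ := LinearMap.rTensor_surjective (E.presheaf.stalk x) (hsurj x) (stalkEquiv S.X₃ E x b)
    obtain ⟨a, rfl⟩ := (stalkEquiv S.X₂ E x).surjective c
    refine ⟨a, (stalkEquiv S.X₃ E x).injective ?_⟩
    rw [← hc]
    exact stalkEquiv_natural S.g E x a

theorem SuppIn.tensor {M : X.Modules} {S : Finset X} (h : SuppIn M S) (E : X.Modules) :
    SuppIn (CohB1.tensorMod M E) S := by
  refine ⟨h.closed, fun x hx a => (stalkEquiv M E x).injective ?_⟩
  rw [map_zero]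
  induction stalkEquiv M E x a using TensorProduct.induction_on with
  | zero => rfl
  | tmul p q => rw [h.zero x hx p, TensorProduct.zero_tmul]
  | add z w hz hw => rw [hz, hw, add_zero]

/-- `(M ⊗ E)_x ≅ M_x^n` when `E_x` is free of rank `n`. -/
noncomputable def stalkTensorPi (M E : X.Modules) (x : X) {n : ℕ}
    (e : E.presheaf.stalk x ≃ₗ[X.presheaf.stalk x] (Fin n → X.presheaf.stalk x)) :
    (CohB1.tensorMod M E).presheaf.stalk x ≃ₗ[X.presheaf.stalk x] (Fin n → M.presheaf.stalk x) :=
  (stalkEquiv M E x).trans ((LinearEquiv.lTensor (M.presheaf.stalk x) e).trans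
    (TensorProduct.piScalarRight (X.presheaf.stalk x) (X.presheaf.stalk x) (M.presheaf.stalk x) (Fin n)))

variable (A : Type u) [CommRing A] [X.Over (Spec (CommRingCat.of A))]

attribute [local instance] stalkMod

/-- The same, linear over the base ring. -/
noncomputable def stalkTensorPiA (M E : X.Modules) (x : X) {n : ℕ}
    (e : E.presheaf.stalk x ≃ₗ[X.presheaf.stalk x] (Fin n → X.presheaf.stalk x)) :
    (CohB1.tensorMod M E).presheaf.stalk x ≃ₗ[A] (Fin n → M.presheaf.stalk x) :=
  { (stalkTensorPi M E x e).toAddEquiv with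
    map_smul' := fun c a => (stalkTensorPi M E x e).map_smul (stalkRingMap A x c) a }

end Groth.Agent.CurveCoh17
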