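import Groth.Agent.Lib.CurveCoh17.Vanish
import Groth.Agent.Lib.CurveCoh17.TensorExact
import Groth.Prelude.Def_CurvBase
import Mathlib.Algebra.BigOperators.Finprod
import Mathlib.LinearAlgebra.FiniteDimensional.Basic

/-!
# Euler characteristics in dimension at most one

`Adm k M`: all cohomology finite-dimensional, vanishing in degrees `≥ 2`.
-/

set_option linter.style.haveILetI false
set_option autoImplicit false

universe u

open CategoryTheory TopologicalSpace Opposite CategoryTheory.Limits AlgebraicGeometry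

namespace Groth.Agent.CurveCoh17

open Groth.Agent.M2

variable (k : Type u) [Field k] {X : Scheme.{u}} [X.Over (Spec (CommRingCat.of k))]

/-- Finite-dimensional cohomology, concentrated in degrees `0` and `1`. -/
structure Adm (M : X.Modules) : Prop where
  fin : ∀ n, Module.Finite k (Coh.HH X M n)
  vanish : ∀ n, Subsingleton (Coh.HH X M (n + 2))

variable {k}

theorem Adm.of_iso {M N : X.Modules} (h : Adm k M) (e : M ≅ N) : Adm k N :=
  ⟨fun n => haveI := h.fin n; Module.Finite.equiv (hequiv k e n),
    fun n => haveI := h.vanish n; (hequiv k e (n + 2)).toEquiv.symm.subsingleton⟩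

theorem euler_iso {M N : X.Modules} (e : M ≅ N) : Curv2.euler k X M = Curv2.euler k X N :=
  finsum_congr fun n => by rw [(hequiv k e n).finrank_eq]

theorem Adm.euler_eq {M : X.Modules} (h : Adm k M) :
    Curv2.euler k X M = (Module.finrank k (Coh.HH X M 0) : ℤ) - Module.finrank k (Coh.HH X M 1) := by
  rw [Curv2.euler, finsum_eq_finsetSum_of_support_subset (s := Finset.range 2)]
  · simp [Finset.sum_range_succ]; ring
  · intro i hi
    simp only [Finset.coe_range, Set.mem_Iio]
    by_contra hlt
    obtain ⟨n, rfl⟩ : ∃ n, i = n + 2 := ⟨i - 2, by omega⟩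
    haveI := h.vanish n
    refine hi ?_
    simp [Module.finrank_zero_of_subsingleton]

section finrank

variable {V₁ V₂ V₃ : Type u} [AddCommGroup V₁] [Module k V₁] [AddCommGroup V₂] [Module k V₂]
  [AddCommGroup V₃] [Module k V₃]

theorem finite_of_exact [Module.Finite k V₁] [Module.Finite k V₃] (f : V₁ →ₗ[k] V₂) (g : V₂ →ₗ[k] V₃)
    (h : Function.Exact f g) : Module.Finite k V₂ := by
  haveI : Module.Finite k (LinearMap.ker g) := by
    rw [h.linearMap_ker_eq]
    infer_instance
  haveI : Module.Finite k (V₂ ⧸ LinearMap.ker g) := Module.Finite.equiv g.quotKerEquivRange.symm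
  exact Module.Finite.of_submodule_quotient (LinearMap.ker g)

theorem finrank_eq_range_add_range [Module.Finite k V₂] (f : V₁ →ₗ[k] V₂) (g : V₂ →ₗ[k] V₃)
    (h : Function.Exact f g) :
    Module.finrank k V₂ = Module.finrank k (LinearMap.range f) + Module.finrank k (LinearMap.range g) := by
  rw [← LinearMap.finrank_range_add_finrank_ker g, h.linearMap_ker_eq, add_comm]

end finrank

section SES

variable {S : ShortComplex X.Modules} (hS : S.ShortExact)

include hS

theorem adm₂ (h₁ : Adm k S.X₁) (h₃ : Adm k S.X₃) : Adm k S.X₂ := by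
  refine ⟨fun n => ?_, fun n => subsingleton_of_forall_eq 0 fun x => ?_⟩
  · haveI := h₁.fin n
    haveI := h₃.fin n
    exact finite_of_exact _ _ (exact_hmap_hmap k hS n)
  · haveI := h₁.vanish n
    haveI := h₃.vanish n
    obtain ⟨y, hy⟩ := (exact_hmap_hmap k hS (n + 2) x).1 (Subsingleton.elim _ _)
    rw [← hy, Subsingleton.elim y 0, map_zero]

theorem adm₁ (h₂ : Adm k S.X₂) (h₃ : Adm k S.X₃)
    (hv : ∀ n, Subsingleton (Coh.HH X S.X₁ (n + 2))) : Adm k S.X₁ := by
  refine ⟨fun n => ?_, hv⟩
  cases n with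
  | zero =>
    haveI := h₂.fin 0
    exact Module.Finite.of_injective (hmap k S.f 0) (hmap_f_injective k hS)
  | succ n =>
    haveI := h₃.fin n
    haveI := h₂.fin (n + 1)
    exact finite_of_exact _ _ (exact_hdelta_hmap k hS n)

theorem adm₃ (h₁ : Adm k S.X₁) (h₂ : Adm k S.X₂) : Adm k S.X₃ := by
  refine ⟨fun n => ?_, fun n => subsingleton_of_forall_eq 0 fun x => ?_⟩
  · haveI := h₂.fin n
    haveI := h₁.fin (n + 1)
    exact finite_of_exact _ _ (exact_hmap_hdelta k hS n)
  · haveI := h₁.vanish (n + 1)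
    haveI := h₂.vanish n
    obtain ⟨y, hy⟩ := (exact_hmap_hdelta k hS (n + 2) x).1 (Subsingleton.elim _ _)
    rw [← hy, Subsingleton.elim y 0, map_zero]

/-- Additivity of the Euler characteristic. -/
theorem euler_add (h₁ : Adm k S.X₁) (h₃ : Adm k S.X₃) :
    Curv2.euler k X S.X₂ = Curv2.euler k X S.X₁ + Curv2.euler k X S.X₃ := by
  have h₂ := adm₂ hS h₁ h₃
  rw [h₁.euler_eq, h₂.euler_eq, h₃.euler_eq]
  haveI := h₁.fin 1; haveI := h₂.fin 0; haveI := h₂.fin 1; haveI := h₃.fin 0; haveI := h₃.fin 1
  have a0 := LinearMap.finrank_range_of_inj (hmap_f_injective k hS)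
  have a1 := finrank_eq_range_add_range _ _ (exact_hmap_hmap k hS 0)
  have a2 := finrank_eq_range_add_range _ _ (exact_hmap_hdelta k hS 0)
  have a3 : Module.finrank k (Coh.HH X S.X₁ 1) = Module.finrank k (LinearMap.range (hdelta k hS 0)) +
      Module.finrank k (LinearMap.range (hmap k S.f 1)) :=
    finrank_eq_range_add_range _ _ (exact_hdelta_hmap k hS 0)
  have a4 := finrank_eq_range_add_range _ _ (exact_hmap_hmap k hS 1)
  have a5 : Module.finrank k (LinearMap.range (hmap k S.g 1)) = Module.finrank k (Coh.HH X S.X₃ 1) := by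
    haveI := h₁.vanish 0
    have hr : LinearMap.range (hmap k S.g 1) = ⊤ :=
      LinearMap.range_eq_top.2 fun x => (exact_hmap_hdelta k hS 1 x).1 (Subsingleton.elim _ _)
    rw [hr, finrank_top]
  omega

end SES

section Supp

variable {M N : X.Modules} {S : Finset X}

attribute [local instance] stalkMod

theorem SuppIn.euler_eq (h : SuppIn M S) (hfin : Module.Finite k (Coh.HH X M 0)) :
    Curv2.euler k X M = Module.finrank k (Coh.HH X M 0) := by
  have hA : Adm k M := ⟨fun n => match n with
      | 0 => hfin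
      | n + 1 => haveI := h.subsingleton_HH n; inferInstance, fun n => h.subsingleton_HH (n + 1)⟩
  haveI := h.subsingleton_HH 0
  rw [hA.euler_eq, Module.finrank_zero_of_subsingleton (M := Coh.HH X M 1), Nat.cast_zero, sub_zero]

theorem SuppIn.adm (h : SuppIn M S) (hfin : Module.Finite k (Coh.HH X M 0)) : Adm k M :=
  ⟨fun n => match n with
    | 0 => hfin
    | n + 1 => haveI := h.subsingleton_HH n; inferInstance, fun n => h.subsingleton_HH (n + 1)⟩

theorem SuppIn.finite_stalk (h : SuppIn M S) (hfin : Module.Finite k (Coh.HH X M 0)) (x : S) :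
    Module.Finite k (M.presheaf.stalk (x : X)) :=
  letI : ∀ i : S, Module k (M.presheaf.stalk (i : X)) := fun i => stalkMod k M (i : X)
  let p : Coh.HH X M 0 →ₗ[k] M.presheaf.stalk (x : X) :=
    (LinearMap.proj (R := k) (φ := fun i : S => (M.presheaf.stalk (i : X) : Type u)) x).comp
      (h.h0Equiv k).toLinearMap
  Module.Finite.of_surjective p fun a => by
    classical
    obtain ⟨z, hz⟩ := (h.h0Equiv k).surjective (Pi.single x a)
    refine ⟨z, ?_⟩
    show (h.h0Equiv k z) x = a
    rw [hz, Pi.single_eq_same]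

theorem SuppIn.finite_tensor (h : SuppIn M S) (hfin : Module.Finite k (Coh.HH X M 0)) (E : X.Modules) {r : ℕ}
    (e : ∀ x : X, Nonempty (E.presheaf.stalk x ≃ₗ[X.presheaf.stalk x] (Fin r → X.presheaf.stalk x))) :
    Module.Finite k (Coh.HH X (CohB1.tensorMod M E) 0) := by
  haveI : ∀ x : S, Module.Finite k ((CohB1.tensorMod M E).presheaf.stalk (x : X)) := fun x =>
    haveI := h.finite_stalk hfin x
    Module.Finite.equiv (stalkTensorPiA k M E x (e x).some).symm
  exact Module.Finite.equiv ((h.tensor E).h0Equiv k).symm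

theorem SuppIn.finrank_tensor (h : SuppIn M S) (hfin : Module.Finite k (Coh.HH X M 0)) (E : X.Modules) {r : ℕ}
    (e : ∀ x : X, Nonempty (E.presheaf.stalk x ≃ₗ[X.presheaf.stalk x] (Fin r → X.presheaf.stalk x))) :
    Module.finrank k (Coh.HH X (CohB1.tensorMod M E) 0) = r * Module.finrank k (Coh.HH X M 0) := by
  haveI : ∀ x : S, Module.Finite k (M.presheaf.stalk (x : X)) := h.finite_stalk hfin
  haveI : ∀ x : S, Module.Finite k ((CohB1.tensorMod M E).presheaf.stalk (x : X)) := fun x =>
    Module.Finite.equiv (stalkTensorPiA k M E x (e x).some).symm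
  rw [((h.tensor E).h0Equiv k).finrank_eq, (h.h0Equiv k).finrank_eq, Module.finrank_pi_fintype,
    Module.finrank_pi_fintype, Finset.mul_sum]
  refine Finset.sum_congr rfl fun x _ => ?_
  rw [(stalkTensorPiA k M E x (e x).some).finrank_eq, Module.finrank_pi_fintype, Finset.sum_const,
    Finset.card_univ, Fintype.card_fin, smul_eq_mul]

end Supp

section Zigzag

variable {M N : X.Modules} (φ : M ⟶ N) {S : Finset X}

/-- An isomorphism outside finitely many closed points changes `χ` by the lengths of kernel and cokernel. -/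
theorem euler_sub (hM : Adm k M) (hN : Adm k N) (hK : SuppIn (kernel φ) S) (hC : SuppIn (cokernel φ) S) :
    Module.Finite k (Coh.HH X (kernel φ) 0) ∧ Module.Finite k (Coh.HH X (cokernel φ) 0) ∧
      Curv2.euler k X N - Curv2.euler k X M =
        (Module.finrank k (Coh.HH X (cokernel φ) 0) : ℤ) - Module.finrank k (Coh.HH X (kernel φ) 0) := by
  have hk : Module.Finite k (Coh.HH X (kernel φ) 0) :=
    haveI := hM.fin 0
    Module.Finite.of_injective (hmap k (kerSC φ).f 0) (hmap_f_injective k (kerSC_shortExact φ))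
  have aK := hK.adm hk
  have aI : Adm k (Abelian.image φ) := adm₃ (kerSC_shortExact φ) aK hM
  have aC : Adm k (cokernel φ) := adm₃ (cokerSC_shortExact φ) aI hN
  refine ⟨hk, aC.fin 0, ?_⟩
  have e1 := euler_add (kerSC_shortExact φ) aK aI
  have e2 := euler_add (cokerSC_shortExact φ) aI aC
  rw [← hK.euler_eq hk, ← hC.euler_eq (aC.fin 0)]
  linarith

/-- Tensoring scales this change by the rank. -/
theorem euler_sub_tensor (hM : Adm k M) (hN : Adm k N) (hK : SuppIn (kernel φ) S) (hC : SuppIn (cokernel φ) S)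
    (E : X.Modules) {r : ℕ}
    (e : ∀ x : X, Nonempty (E.presheaf.stalk x ≃ₗ[X.presheaf.stalk x] (Fin r → X.presheaf.stalk x)))
    (hME : Adm k (CohB1.tensorMod M E)) :
    Curv2.euler k X (CohB1.tensorMod N E) - Curv2.euler k X (CohB1.tensorMod M E) =
      r * (Curv2.euler k X N - Curv2.euler k X M) := by
  have hflat : ∀ x : X, Module.Flat (X.presheaf.stalk x) (E.presheaf.stalk x) := fun x =>
    Module.Flat.of_linearEquiv (e x).some
  obtain ⟨hk, hc, h0⟩ := euler_sub φ hM hN hK hC
  have s1 := shortExact_tensorR (kerSC_shortExact φ) E hflat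
  have s2 := shortExact_tensorR (cokerSC_shortExact φ) E hflat
  have aK := (hK.tensor E).adm (hK.finite_tensor hk E e)
  have aC := (hC.tensor E).adm (hC.finite_tensor hc E e)
  have aI : Adm k (CohB1.tensorMod (Abelian.image φ) E) := adm₃ s1 aK hME
  have e1 := euler_add s1 aK aI
  have e2 := euler_add s2 aI aC
  have ek : Curv2.euler k X (CohB1.tensorMod (kernel φ) E) = r * (Module.finrank k (Coh.HH X (kernel φ) 0) : ℤ) := by
    rw [(hK.tensor E).euler_eq (hK.finite_tensor hk E e), hK.finrank_tensor hk E e]; push_cast; ring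
  have ec : Curv2.euler k X (CohB1.tensorMod (cokernel φ) E) = r * (Module.finrank k (Coh.HH X (cokernel φ) 0) : ℤ) := by
    rw [(hC.tensor E).euler_eq (hC.finite_tensor hc E e), hC.finrank_tensor hc E e]; push_cast; ring
  change Curv2.euler k X (CohB1.tensorMod M E) =
    Curv2.euler k X (CohB1.tensorMod (kernel φ) E) + Curv2.euler k X (CohB1.tensorMod (Abelian.image φ) E) at e1
  change Curv2.euler k X (CohB1.tensorMod N E) =
    Curv2.euler k X (CohB1.tensorMod (Abelian.image φ) E) + Curv2.euler k X (CohB1.tensorMod (cokernel φ) E) at e2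
  rw [h0, mul_sub]
  linarith [e1, e2, ek, ec]

end Zigzag

end Groth.Agent.CurveCoh17
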