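import Groth.Agent.Lib.CurveCoh17.Bases
import Groth.Agent.Lib.CurveCoh17.Euler
import Groth.Agent.Lib.TensorMod.QCohTensor

/-!
# Degrees of locally free modules in dimension at most one

Over a field `k`, for a Noetherian separated `k`-scheme of dimension at most one whose coherent
cohomology is finite-dimensional (`CurveLike`): `deg(E ⊗ F) = s·deg E + r·deg F` and additivity.
-/

set_option linter.style.haveILetI false
set_option autoImplicit false

universe u

open CategoryTheory TopologicalSpace Opposite CategoryTheory.Limits AlgebraicGeometry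

namespace Groth.Agent.CurveCoh17

open Groth.Agent.M1 Groth.Agent.M2

/-- Noetherian separated of dimension at most one, with finite-dimensional coherent cohomology. -/
structure CurveLike (k : Type u) [Field k] (X : Scheme.{u}) [X.Over (Spec (CommRingCat.of k))] : Prop where
  noetherian : IsNoetherian X
  separated : X.IsSeparated
  dim : topologicalKrullDim X ≤ 1
  fin : ∀ M : X.Modules, Coh.IsCoh M → ∀ n, Module.Finite k (Coh.HH X M n)

variable {k : Type u} [Field k] {X : Scheme.{u}} [X.Over (Spec (CommRingCat.of k))]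

theorem CurveLike.adm (hX : CurveLike k X) {M : X.Modules} (hM : Coh.IsCoh M) : Adm k M :=
  haveI := hX.noetherian; haveI := hX.separated
  ⟨hX.fin M hM, subsingleton_HH_of_dim hX.dim M hM.1⟩

theorem isCoh_of_ofRank {r : ℕ} {E : X.Modules} (hE : FlatMod.IsFinLocFreeOfRank r E) : Coh.IsCoh E :=
  have h := M1.isFP_of_isFinLocFree (isFinLocFree_of_ofRank hE)
  ⟨isFP_isQCoh h, isFP_isFT h⟩

theorem isCoh_structureModule : Coh.IsCoh (Coh.structureModule X) :=
  isCoh_of_ofRank (isFinLocFreeOfRank_of_iso (freeModOneIso X) (isFinLocFreeOfRank_freeMod X 1))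

theorem isCoh_tensor {M N : X.Modules} (hM : Coh.IsCoh M) (hN : Coh.IsCoh N) :
    Coh.IsCoh (CohB1.tensorMod M N) :=
  ⟨isQCoh_tensor hM.1 hN.1, isFT_tensor hM.1 hN.1 hM.2 hN.2⟩

/-- `O^n → O^(n+1) → O`. -/
noncomputable abbrev freeSC (X : Scheme.{u}) (n : ℕ) : ShortComplex X.Modules :=
  ShortComplex.mk
    (Sigma.desc fun i : Fin n => Sigma.ι (fun _ : Fin (n + 1) => Coh.structureModule X) i.castSucc)
    (P1Split.proj (fun _ : Fin (n + 1) => Coh.structureModule X) (Fin.last n))
    (Sigma.hom_ext _ _ fun i => by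
      rw [Sigma.ι_desc_assoc, comp_zero, P1Split.ι_proj_ne _ (Fin.castSucc_ne_last i)])

theorem freeSC_shortExact (n : ℕ) : (freeSC X n).ShortExact :=
  ShortComplex.Splitting.shortExact
    { r := Sigma.desc fun j : Fin (n + 1) => Fin.lastCases (motive := fun _ => Coh.structureModule X ⟶
        FlatMod.freeMod X n) 0 (fun i => Sigma.ι (fun _ : Fin n => Coh.structureModule X) i) j
      s := Sigma.ι (fun _ : Fin (n + 1) => Coh.structureModule X) (Fin.last n)
      f_r := Sigma.hom_ext _ _ fun i => by simp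
      s_g := P1Split.ι_proj_self _ _
      id := Sigma.hom_ext _ _ fun j => by
        refine Fin.lastCases ?_ (fun i => ?_) j
        · simp [Preadditive.comp_add, P1Split.proj]
        · simp [Preadditive.comp_add, P1Split.proj, Fin.castSucc_ne_last] }

theorem CurveLike.euler_freeMod (hX : CurveLike k X) (n : ℕ) :
    Curv2.euler k X (FlatMod.freeMod X n) = n * Curv2.euler k X (Coh.structureModule X) := by
  induction n with
  | zero =>
    have hz : ∀ x : X, ∀ a : (FlatMod.freeMod X 0).presheaf.stalk x, a = 0 := fun x a => by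
      obtain ⟨e⟩ := nonempty_stalk_equiv (isFinLocFreeOfRank_freeMod X 0) x
      exact e.injective (Subsingleton.elim _ _)
    have hs : SuppIn (FlatMod.freeMod X 0) (∅ : Finset X) := ⟨by simp, fun x _ => hz x⟩
    have hsub : Subsingleton (Coh.HH X (FlatMod.freeMod X 0) 0) :=
      ⟨fun a b => (hs.h0Equiv k).injective (funext fun x => absurd x.2 (Finset.notMem_empty _))⟩
    rw [hs.euler_eq (inferInstance), Module.finrank_zero_of_subsingleton]
    simp
  | succ n ih =>
    have h := euler_add (freeSC_shortExact (X := X) n) (hX.adm (isCoh_of_ofRank (isFinLocFreeOfRank_freeMod X n)))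
      (hX.adm isCoh_structureModule)
    change Curv2.euler k X (FlatMod.freeMod X (n + 1)) =
      Curv2.euler k X (FlatMod.freeMod X n) + Curv2.euler k X (Coh.structureModule X) at h
    rw [h, ih]; push_cast; ring

/-- Comparison of `E` with the free module after tensoring by `F`. -/
theorem CurveLike.euler_tensor_sub (hX : CurveLike k X) {r s : ℕ} {E F : X.Modules}
    (hE : FlatMod.IsFinLocFreeOfRank r E) (hF : FlatMod.IsFinLocFreeOfRank s F) :
    Curv2.euler k X (CohB1.tensorMod E F) - Curv2.euler k X (CohB1.tensorMod (FlatMod.freeMod X r) F) =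
      s * (Curv2.euler k X E - Curv2.euler k X (FlatMod.freeMod X r)) := by
  haveI := hX.noetherian; haveI := hX.separated
  obtain ⟨W, φ, ψ, S, hW, h1, h2, h3, h4⟩ := exists_zigzag hX.dim hE
  have e := nonempty_stalk_equiv hF
  have a1 := euler_sub_tensor φ (hX.adm hW) (hX.adm (isCoh_of_ofRank hE)) h1 h2 F e
    (hX.adm (isCoh_tensor hW (isCoh_of_ofRank hF)))
  have a2 := euler_sub_tensor ψ (hX.adm hW) (hX.adm (isCoh_of_ofRank (isFinLocFreeOfRank_freeMod X r))) h3 h4 F e
    (hX.adm (isCoh_tensor hW (isCoh_of_ofRank hF)))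
  linear_combination a1 - a2

/-- `χ(E ⊗ F) = s χ(E) + r χ(F) - r s χ(O)`. -/
theorem CurveLike.euler_tensor (hX : CurveLike k X) {r s : ℕ} {E F : X.Modules}
    (hE : FlatMod.IsFinLocFreeOfRank r E) (hF : FlatMod.IsFinLocFreeOfRank s F) :
    Curv2.euler k X (CohB1.tensorMod E F) = s * Curv2.euler k X E + r * Curv2.euler k X F -
      r * s * Curv2.euler k X (Coh.structureModule X) := by
  have h1 := hX.euler_tensor_sub hE hF
  have h2 := hX.euler_tensor_sub hF (isFinLocFreeOfRank_freeMod X r)
  rw [euler_iso (tensorComm F (FlatMod.freeMod X r)), euler_iso (freeModMulIso X s r), hX.euler_freeMod,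
    hX.euler_freeMod] at h2
  rw [hX.euler_freeMod] at h1
  push_cast at h2
  linear_combination h1 + h2

theorem CurveLike.deg_tensor (hX : CurveLike k X) {r s : ℕ} {E F : X.Modules}
    (hE : FlatMod.IsFinLocFreeOfRank r E) (hF : FlatMod.IsFinLocFreeOfRank s F) :
    Curv2.deg k X (CohB1.tensorMod E F) (r * s) = s * Curv2.deg k X E r + r * Curv2.deg k X F s := by
  rw [Curv2.deg, Curv2.deg, Curv2.deg, hX.euler_tensor hE hF]
  push_cast
  ring

theorem deg_iso {r : ℕ} {E F : X.Modules} (e : E ≅ F) : Curv2.deg k X E r = Curv2.deg k X F r := by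
  rw [Curv2.deg, Curv2.deg, euler_iso e]

theorem deg_structureModule : Curv2.deg k X (Coh.structureModule X) 1 = 0 := by
  rw [Curv2.deg, Nat.cast_one, one_mul, sub_self]

theorem CurveLike.deg_shortExact (hX : CurveLike k X) {S : ShortComplex X.Modules} (hS : S.ShortExact) {r₁ r₃ : ℕ}
    (h₁ : FlatMod.IsFinLocFreeOfRank r₁ S.X₁) (h₃ : FlatMod.IsFinLocFreeOfRank r₃ S.X₃) :
    Curv2.deg k X S.X₂ (r₁ + r₃) = Curv2.deg k X S.X₁ r₁ + Curv2.deg k X S.X₃ r₃ := by
  rw [Curv2.deg, Curv2.deg, Curv2.deg,
    euler_add hS (hX.adm (isCoh_of_ofRank h₁)) (hX.adm (isCoh_of_ofRank h₃))]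
  push_cast
  ring

theorem CurveLike.deg_tensor_invertible (hX : CurveLike k X) {L M : X.Modules} (hL : PicF.IsInvertible L)
    (hM : PicF.IsInvertible M) :
    Curv2.deg k X (CohB1.tensorMod L M) 1 = Curv2.deg k X L 1 + Curv2.deg k X M 1 := by
  have := hX.deg_tensor ((isInvertible_iff_isFinLocFreeOfRank_one L).1 hL)
    ((isInvertible_iff_isFinLocFreeOfRank_one M).1 hM)
  simpa using this

theorem CurveLike.deg_tensorPow (hX : CurveLike k X) {L : X.Modules} (hL : PicF.IsInvertible L) (n : ℕ) :
    Curv2.deg k X (CohB1.tensorPow L n) 1 = n * Curv2.deg k X L 1 := by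
  induction n with
  | zero =>
    rw [Nat.cast_zero, zero_mul]
    exact deg_structureModule
  | succ n ih =>
    show Curv2.deg k X (CohB1.tensorMod (CohB1.tensorPow L n) L) 1 = _
    rw [hX.deg_tensor_invertible (isInvertible_tensorPow hL n) hL, ih]
    push_cast; ring

theorem CurveLike.deg_of_tensor_iso (hX : CurveLike k X) {L M : X.Modules} (hL : PicF.IsInvertible L)
    (hM : PicF.IsInvertible M) (e : CohB1.tensorMod L M ≅ Coh.structureModule X) :
    Curv2.deg k X M 1 = -Curv2.deg k X L 1 := by
  have h := hX.deg_tensor_invertible hL hM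
  rw [deg_iso e, deg_structureModule] at h
  linarith

end Groth.Agent.CurveCoh17
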