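import Groth.Agent.Lib.CurveCoh17.Degree
import Groth.Agent.Lib.ModM1.Ann
import Groth.Agent.Lib.ModM1.Coh
import Mathlib.AlgebraicGeometry.FunctionField

/-!
# Generic behaviour of maps of modules on integral schemes of dimension at most one
-/

set_option linter.style.haveILetI false
set_option autoImplicit false

universe u

open CategoryTheory TopologicalSpace Opposite CategoryTheory.Limits AlgebraicGeometry

namespace Groth.Agent.CurveCoh17

open Groth.Agent.M1 Groth.Agent.M2 Groth.Agent.P1Split

variable {X : Scheme.{u}}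

theorem stalk_eq_zero_of_notMem_support {M : X.Modules} {x : X} (h : x ∉ CohB1.support M)
    (a : M.presheaf.stalk x) : a = 0 :=
  haveI : Subsingleton (M.presheaf.stalk x) := not_not.1 h
  Subsingleton.elim _ _

/-- Coherent modules vanishing at every maximal point are supported at finitely many closed points. -/
theorem exists_suppIn_of_maximal [IsNoetherian X] (hd : topologicalKrullDim X ≤ 1) {M : X.Modules}
    (hM : Coh.IsCoh M) (h : ∀ g : X, (∀ y, y ⤳ g → y = g) → ∀ a : M.presheaf.stalk g, a = 0) :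
    ∃ S : Finset X, SuppIn M S := by
  have hcl : IsClosed (CohB1.support M) := by
    rw [← support_annSheaf hM.1 hM.2]
    exact (annSheaf hM.1 hM.2).support.isClosed
  obtain ⟨S, hS, hScl⟩ := exists_finset_closedPoints hd hcl fun g hg hgM =>
    hgM ⟨fun a b => (h g hg a).trans (h g hg b).symm⟩
  exact ⟨S, hScl, fun x hx => stalk_eq_zero_of_notMem_support fun hx' => hx (Finset.mem_coe.1 (hS ▸ hx'))⟩

theorem eq_genericPoint_of_maximal [IrreducibleSpace X] {g : X} (h : ∀ y, y ⤳ g → y = g) :
    g = genericPoint X :=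
  (h _ (genericPoint_specializes g)).symm

theorem isCoh_kernel [IsLocallyNoetherian X] {M N : X.Modules} (hM : Coh.IsCoh M) (hN : Coh.IsQCoh N)
    (φ : M ⟶ N) : Coh.IsCoh (kernel φ) :=
  isCoh_of_mono (kernel.ι φ) hM (isQCoh_kernel hM.1 hN φ)

theorem stalkLin_comp {M N P : X.Modules} (φ : M ⟶ N) (ψ : N ⟶ P) (x : X) (a : M.presheaf.stalk x) :
    stalkLin (φ ≫ ψ) x a = stalkLin ψ x (stalkLin φ x a) := by
  show (stalkAb x).map (φ ≫ ψ) a = _
  rw [Functor.map_comp]
  rfl

theorem eq_zero_stalk_kernel {M N : X.Modules} (φ : M ⟶ N) (x : X) (h : Function.Injective (stalkLin φ x))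
    (a : (kernel φ).presheaf.stalk x) : a = 0 := by
  have hinj : Function.Injective (stalkLin (kernel.ι φ) x) := (mono_iff_stalk _).1 inferInstance x
  apply hinj
  apply h
  rw [map_zero, map_zero, ← stalkLin_comp, kernel.condition]
  show (stalkAb x).map (0 : kernel φ ⟶ N) a = 0
  rw [Functor.map_zero]
  rfl

theorem eq_zero_stalk_cokernel {M N : X.Modules} (φ : M ⟶ N) (x : X) (h : Function.Surjective (stalkLin φ x))
    (a : (cokernel φ).presheaf.stalk x) : a = 0 := by
  obtain ⟨b, hb⟩ := (epi_iff_stalk (cokernel.π φ)).1 inferInstance x a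
  obtain ⟨c, rfl⟩ := h b
  rw [← hb]
  show stalkLin (cokernel.π φ) x (stalkLin φ x c) = 0
  rw [← stalkLin_comp, cokernel.condition]
  show (stalkAb x).map (0 : M ⟶ cokernel φ) c = 0
  rw [Functor.map_zero]
  rfl

/-- A section of a locally free module on an integral scheme with vanishing germ somewhere is zero. -/
theorem eq_zero_of_germ_eq_zero [IsIntegral X] {r : ℕ} {E : X.Modules} (hE : FlatMod.IsFinLocFreeOfRank r E)
    (s : Γ(E, (⊤ : X.Opens))) {x : X} (hx : E.presheaf.germ ⊤ x trivial s = 0) : s = 0 := by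
  have key : ∀ (y : X) (D : X.Opens) (e : Fin r → Γ(E, D)), IsBas E D e → y ∈ D →
      ∀ (W : X.Opens), Nonempty W → W ≤ D → mres E (le_top : W ≤ ⊤) s = 0 → mres E (le_top : D ≤ ⊤) s = 0 := by
    intro y D e he hy W hW hWD h0
    haveI := hW
    obtain ⟨c, hc⟩ := (he D le_rfl).2 (mres E (le_top : D ≤ ⊤) s)
    dsimp only at hc
    have hc' := congrArg (mres E hWD) hc
    rw [mres_sum_smul, mres_mres, h0] at hc'
    simp only [mres_mres] at hc'
    have hz : (fun i => ores hWD (c i)) = 0 := (he W hWD).1 (hc'.trans (by simp))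
    have hcz : c = 0 := funext fun i => by
      have hi : ores hWD (c i) = 0 := congrFun hz i
      exact map_injective_of_isIntegral X (homOfLE hWD) (hi.trans (map_zero _).symm)
    rw [← hc, hcz]
    simp
  have zgerm : ∀ (y : X) (D : X.Opens) (hy : y ∈ D), mres E (le_top : D ≤ ⊤) s = 0 →
      E.presheaf.germ ⊤ y trivial s = 0 := fun y D hy h => by
    rw [← germ_mres E (le_top : D ≤ ⊤) hy, h, map_zero]
  obtain ⟨W, hxW, i₁, i₂, he⟩ := E.presheaf.germ_eq x (U := ⊤) (V := ⊤) trivial trivial s 0 (hx.trans (map_zero _).symm)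
  have hW0 : mres E (le_top : W ≤ ⊤) s = 0 := he.trans (map_zero _)
  refine M1.section_ext _ _ fun y _ => ?_
  rw [map_zero]
  obtain ⟨D, e, hyD, heD⟩ := exists_isBas_nhd hE y
  obtain ⟨z, hz⟩ := nonempty_preirreducible_inter W.isOpen D.isOpen ⟨x, hxW⟩ ⟨y, hyD⟩
  exact zgerm y D hyD (key y D e heD hyD (W ⊓ D) ⟨⟨z, hz⟩⟩ inf_le_right
    (by rw [← mres_mres E (le_top : W ≤ ⊤) (inf_le_left : W ⊓ D ≤ W), hW0, map_zero]))

theorem stalkLin_secHom {M : X.Modules} (s : Γ(M, (⊤ : X.Opens))) (x : X)
    (a : (Coh.structureModule X).presheaf.stalk x) :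
    ∃ c : X.presheaf.stalk x,
      a = c • ((Coh.structureModule X).presheaf.germ ⊤ x trivial (one ⊤) : (Coh.structureModule X).presheaf.stalk x) ∧
      stalkLin (secHom s) x a = c • (M.presheaf.germ ⊤ x trivial s : M.presheaf.stalk x) := by
  obtain ⟨U, hU, t, rfl⟩ := (Coh.structureModule X).presheaf.exists_germ_eq a
  let c : Γ(X, U) := t
  have ht : t = c • mres (Coh.structureModule X) (le_top : U ≤ ⊤) (one ⊤) := by
    rw [mres_one]
    exact (mul_one c).symm
  refine ⟨X.presheaf.germ U x hU c, ?_, ?_⟩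
  · conv_lhs => rw [ht]
    rw [germ_smul, germ_mres]
  · show (stalkAb x).map (secHom s) ((Coh.structureModule X).presheaf.germ U x hU t) = _
    rw [germ_naturality]
    show M.presheaf.germ U x hU ((secHom s).app U c) = _
    rw [Twist.secHom_app, germ_smul, germ_mres]

/-- A nonzero section of a locally free module on an integral scheme is a monomorphism. -/
theorem injective_stalk_secHom [IsIntegral X] {r : ℕ} {E : X.Modules} (hE : FlatMod.IsFinLocFreeOfRank r E)
    {s : Γ(E, (⊤ : X.Opens))} (hs : s ≠ 0) (x : X) : Function.Injective (stalkLin (secHom s) x) := by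
  rw [injective_iff_map_eq_zero]
  intro a₀ ha
  obtain ⟨a, ha₀, hsa⟩ := stalkLin_secHom s x a₀
  rw [hsa] at ha
  obtain ⟨e⟩ := nonempty_stalk_equiv hE x
  have hne : e (E.presheaf.germ ⊤ x trivial s) ≠ 0 := fun h =>
    hs (eq_zero_of_germ_eq_zero hE s (e.injective (h.trans (map_zero e).symm)))
  obtain ⟨i, hi⟩ := Function.ne_iff.1 hne
  have := congrFun (congrArg e ha) i
  rw [map_smul, map_zero] at this
  rw [ha₀, show a = 0 from (mul_eq_zero.1 this).resolve_right hi, zero_smul]

/-- At the generic point an injective map between free stalks of equal rank is surjective. -/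
theorem surjective_stalkLin_genericPoint [IsIntegral X] {M N : X.Modules} {r : ℕ}
    (hM : Nonempty (M.presheaf.stalk (genericPoint X) ≃ₗ[X.presheaf.stalk (genericPoint X)]
      (Fin r → X.presheaf.stalk (genericPoint X))))
    (hN : Nonempty (N.presheaf.stalk (genericPoint X) ≃ₗ[X.presheaf.stalk (genericPoint X)]
      (Fin r → X.presheaf.stalk (genericPoint X))))
    (φ : M ⟶ N) (h : Function.Injective (stalkLin φ (genericPoint X))) :
    Function.Surjective (stalkLin φ (genericPoint X)) := by
  obtain ⟨e⟩ := hM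
  obtain ⟨e'⟩ := hN
  let f : (Fin r → X.functionField) →ₗ[X.functionField] (Fin r → X.functionField) :=
    e'.toLinearMap.comp ((stalkLin φ (genericPoint X)).comp e.symm.toLinearMap)
  have hf : Function.Surjective f :=
    LinearMap.injective_iff_surjective.1 (e'.injective.comp (h.comp e.symm.injective))
  intro b
  obtain ⟨v, hv⟩ := hf (e' b)
  exact ⟨e.symm v, e'.injective hv⟩

theorem nonempty_stalk_equiv_structureModule (x : X) :
    Nonempty ((Coh.structureModule X).presheaf.stalk x ≃ₗ[X.presheaf.stalk x] (Fin 1 → X.presheaf.stalk x)) :=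
  nonempty_stalk_equiv (isFinLocFreeOfRank_of_iso (freeModOneIso X) (isFinLocFreeOfRank_freeMod X 1)) x

end Groth.Agent.CurveCoh17
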