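import Groth.Agent.Lib.CohFound.HHBridge
import Groth.Agent.Lib.CohFound.ModAb

/-!
# The long exact cohomology sequence of `Coh.HH` with its module structures

`hmap`, `hdelta` are `Γ(X, O_X)`-linear, hence linear over any ring `A` with `X` over `Spec A`.
-/

set_option linter.style.haveILetI false
set_option autoImplicit false

universe u

open CategoryTheory TopologicalSpace Opposite CategoryTheory.Limits AlgebraicGeometry

namespace Groth.Agent.CurveCoh17

open Groth.Agent.CohFound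

variable {X : Scheme.{u}}

/-- Functoriality of `Coh.HH`. -/
noncomputable def hmap₀ {M N : X.Modules} (φ : M ⟶ N) (n : ℕ) : Coh.HH X M n →+ Coh.HH X N n :=
  Sheaf.H.map ((abF X).map φ) n

theorem hhExt_hmap₀ {M N : X.Modules} (φ : M ⟶ N) (n : ℕ) (x : Coh.HH X M n) :
    hhExt N n (hmap₀ φ n x) = mp ((abF X).map φ) n ⊤ (hhExt M n x) :=
  hExt_map _ _ _

/-- `Coh.smulAb`, as an endomorphism of the underlying abelian sheaf. -/
noncomputable def smulF (M : X.Modules) (r : Coh.Γtop X) : (abF X).obj M ⟶ (abF X).obj M :=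
  Coh.smulAb M r

theorem smulF_natural {M N : X.Modules} (φ : M ⟶ N) (r : Coh.Γtop X) :
    smulF M r ≫ (abF X).map φ = (abF X).map φ ≫ smulF N r := by
  ext U m
  exact Scheme.Modules.Hom.app_smul φ (Coh.resTop X U r) m

theorem hhExt_smul {M : X.Modules} (n : ℕ) (r : Coh.Γtop X) (x : Coh.HH X M n) :
    hhExt M n (r • x) = mp (smulF M r) n ⊤ (hhExt M n x) :=
  hExt_map _ _ _

theorem hmap₀_smul {M N : X.Modules} (φ : M ⟶ N) (n : ℕ) (r : Coh.Γtop X) (x : Coh.HH X M n) :
    hmap₀ φ n (r • x) = r • hmap₀ φ n x := by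
  apply (hhExt N n).injective
  rw [hhExt_hmap₀, hhExt_smul, hhExt_smul, hhExt_hmap₀]
  rw [← mp_comp, ← mp_comp, smulF_natural]

variable (A : Type u) [CommRing A] [X.Over (Spec (CommRingCat.of A))]

/-- Functoriality of `Coh.HH`, linear over the base ring. -/
noncomputable def hmap {M N : X.Modules} (φ : M ⟶ N) (n : ℕ) : Coh.HH X M n →ₗ[A] Coh.HH X N n where
  toFun := hmap₀ φ n
  map_add' := map_add _
  map_smul' _ x := hmap₀_smul φ n _ x

theorem hhExt_hmap {M N : X.Modules} (φ : M ⟶ N) (n : ℕ) (x : Coh.HH X M n) :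
    hhExt N n (hmap A φ n x) = mp ((abF X).map φ) n ⊤ (hhExt M n x) :=
  hhExt_hmap₀ φ n x

theorem hmap_id (M : X.Modules) (n : ℕ) (x : Coh.HH X M n) : hmap A (𝟙 M) n x = x := by
  apply (hhExt M n).injective
  rw [hhExt_hmap, CategoryTheory.Functor.map_id, mp_id]

theorem hmap_comp {M N P : X.Modules} (φ : M ⟶ N) (ψ : N ⟶ P) (n : ℕ) (x : Coh.HH X M n) :
    hmap A (φ ≫ ψ) n x = hmap A ψ n (hmap A φ n x) := by
  apply (hhExt P n).injective
  rw [hhExt_hmap, hhExt_hmap, hhExt_hmap, Functor.map_comp, mp_comp]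

theorem hmap_zero {M N : X.Modules} (n : ℕ) (x : Coh.HH X M n) :
    hmap A (0 : M ⟶ N) n x = 0 := by
  apply (hhExt N n).injective
  rw [hhExt_hmap, Functor.map_zero, mp_zero, map_zero]

/-- An isomorphism of modules gives linearly isomorphic cohomology. -/
noncomputable def hequiv {M N : X.Modules} (e : M ≅ N) (n : ℕ) : Coh.HH X M n ≃ₗ[A] Coh.HH X N n :=
  { hmap A e.hom n with
    invFun := hmap A e.inv n
    left_inv := fun x => by
      show hmap A e.inv n (hmap A e.hom n x) = x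
      rw [← hmap_comp, e.hom_inv_id, hmap_id]
    right_inv := fun x => by
      show hmap A e.hom n (hmap A e.inv n x) = x
      rw [← hmap_comp, e.inv_hom_id, hmap_id] }

section SES

variable {S : ShortComplex X.Modules} (hS : S.ShortExact)

/-- The connecting map. -/
noncomputable def hdelta₀ (n : ℕ) : Coh.HH X S.X₃ n →+ Coh.HH X S.X₁ (n + 1) :=
  ((hhExt S.X₁ (n + 1)).symm.toAddMonoidHom.comp (delta (shortExact_abF hS) n ⊤)).comp
    (hhExt S.X₃ n).toAddMonoidHom

theorem hhExt_hdelta₀ (n : ℕ) (x : Coh.HH X S.X₃ n) :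
    hhExt S.X₁ (n + 1) (hdelta₀ hS n x) = delta (shortExact_abF hS) n ⊤ (hhExt S.X₃ n x) :=
  (hhExt S.X₁ (n + 1)).apply_symm_apply _

theorem hdelta₀_smul (n : ℕ) (r : Coh.Γtop X) (x : Coh.HH X S.X₃ n) :
    hdelta₀ hS n (r • x) = r • hdelta₀ hS n x := by
  apply (hhExt S.X₁ (n + 1)).injective
  rw [hhExt_hdelta₀, hhExt_smul, hhExt_smul, hhExt_hdelta₀]
  let f : S.map (abF X) ⟶ S.map (abF X) :=
    { τ₁ := smulF S.X₁ r
      τ₂ := smulF S.X₂ r
      τ₃ := smulF S.X₃ r
      comm₁₂ := smulF_natural S.f r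
      comm₂₃ := smulF_natural S.g r }
  exact (delta_natural (shortExact_abF hS) (shortExact_abF hS) f n ⊤ _).symm

/-- The connecting map, linear over the base ring. -/
noncomputable def hdelta (n : ℕ) : Coh.HH X S.X₃ n →ₗ[A] Coh.HH X S.X₁ (n + 1) where
  toFun := hdelta₀ hS n
  map_add' := map_add _
  map_smul' _ x := hdelta₀_smul hS n _ x

theorem hhExt_hdelta (n : ℕ) (x : Coh.HH X S.X₃ n) :
    hhExt S.X₁ (n + 1) (hdelta A hS n x) = delta (shortExact_abF hS) n ⊤ (hhExt S.X₃ n x) :=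
  hhExt_hdelta₀ hS n x

include hS in
theorem hmap_f_injective : Function.Injective (hmap A S.f 0) := fun x y h => by
  apply (hhExt S.X₁ 0).injective
  have h' := congrArg (hhExt S.X₂ 0) h
  rw [hhExt_hmap, hhExt_hmap] at h'
  exact mp_f_injective (shortExact_abF hS) ⊤ h'

include hS in
theorem exact_hmap_hmap (n : ℕ) : Function.Exact (hmap A S.f n) (hmap A S.g n) := fun x => by
  constructor
  · intro hx
    have hx' := congrArg (hhExt S.X₃ n) hx
    rw [hhExt_hmap, map_zero] at hx'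
    obtain ⟨y, hy⟩ := exact₂ (shortExact_abF hS) n ⊤ _ hx'
    refine ⟨(hhExt S.X₁ n).symm y, (hhExt S.X₂ n).injective ?_⟩
    rw [hhExt_hmap, AddEquiv.apply_symm_apply]
    exact hy
  · rintro ⟨y, rfl⟩
    rw [← hmap_comp, S.zero, hmap_zero]

theorem exact_hmap_hdelta (n : ℕ) : Function.Exact (hmap A S.g n) (hdelta A hS n) := fun x => by
  constructor
  · intro hx
    have hx' := congrArg (hhExt S.X₁ (n + 1)) hx
    rw [hhExt_hdelta, map_zero] at hx'
    obtain ⟨y, hy⟩ := exact₃ (shortExact_abF hS) n ⊤ _ hx'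
    refine ⟨(hhExt S.X₂ n).symm y, (hhExt S.X₃ n).injective ?_⟩
    rw [hhExt_hmap, AddEquiv.apply_symm_apply]
    exact hy
  · rintro ⟨y, rfl⟩
    apply (hhExt S.X₁ (n + 1)).injective
    rw [hhExt_hdelta, hhExt_hmap, map_zero]
    exact delta_mp (shortExact_abF hS) n ⊤ _

theorem exact_hdelta_hmap (n : ℕ) : Function.Exact (hdelta A hS n) (hmap A S.f (n + 1)) := fun x => by
  constructor
  · intro hx
    have hx' := congrArg (hhExt S.X₂ (n + 1)) hx
    rw [hhExt_hmap, map_zero] at hx'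
    obtain ⟨y, hy⟩ := exact₁ (shortExact_abF hS) n ⊤ _ hx'
    refine ⟨(hhExt S.X₃ n).symm y, (hhExt S.X₁ (n + 1)).injective ?_⟩
    rw [hhExt_hdelta, AddEquiv.apply_symm_apply]
    exact hy
  · rintro ⟨y, rfl⟩
    apply (hhExt S.X₂ (n + 1)).injective
    rw [hhExt_hmap, hhExt_hdelta, map_zero]
    exact mp_delta (shortExact_abF hS) n ⊤ _

end SES

end Groth.Agent.CurveCoh17
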