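import Groth.Agent.Lib.CurveCoh17.Integral

/-!
# Sections of rank one modules on integral curves: Riemann's inequality without duality

For a coherent rank one torsion-free `F` (`RkOne F`: nonzero sections are injective with finite cokernel) on
an integral `CurveLike` scheme: `H¹(F) ≠ 0 ⇒ h⁰(F) ≤ g`, `deg ≥ 0` for invertible modules with a section, and
the consequences of Riemann–Roch.
-/

set_option linter.style.haveILetI false
set_option autoImplicit false

universe u

open CategoryTheory TopologicalSpace Opposite CategoryTheory.Limits AlgebraicGeometry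

namespace Groth.Agent.CurveCoh17

open Groth.Agent.M1 Groth.Agent.M2 Groth.Agent.CohFound

variable {k : Type u} [Field k] {X : Scheme.{u}} [X.Over (Spec (CommRingCat.of k))]

/-- Nonzero sections are injective with cokernel supported at finitely many closed points. -/
structure RkOne (F : X.Modules) : Prop where
  coh : Coh.IsCoh F
  sec : ∀ s : Γ(F, (⊤ : X.Opens)), s ≠ 0 → Mono (secHom s) ∧ ∃ S : Finset X, SuppIn (cokernel (secHom s)) S

theorem exists_suppIn_cokernel_secHom [IsIntegral X] [IsNoetherian X] (hd : topologicalKrullDim X ≤ 1)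
    {F : X.Modules} (hF : Coh.IsCoh F) (s : Γ(F, (⊤ : X.Opens)))
    (h : Function.Surjective (stalkLin (secHom s) (genericPoint X))) :
    ∃ S : Finset X, SuppIn (cokernel (secHom s)) S :=
  exists_suppIn_of_maximal hd (isCoh_cokernel (isCoh_structureModule (X := X)).1 hF (secHom s)) fun g hg =>
    eq_genericPoint_of_maximal hg ▸ eq_zero_stalk_cokernel _ _ h

theorem rkOne_of_invertible [IsIntegral X] [IsNoetherian X] (hd : topologicalKrullDim X ≤ 1) {L : X.Modules}
    (hL : PicF.IsInvertible L) : RkOne L := by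
  have h1 := (isInvertible_iff_isFinLocFreeOfRank_one L).1 hL
  refine ⟨isCoh_of_ofRank h1, fun s hs => ⟨(mono_iff_stalk _).2 (injective_stalk_secHom h1 hs),
    exists_suppIn_cokernel_secHom hd (isCoh_of_ofRank h1) s
      (surjective_stalkLin_genericPoint (nonempty_stalk_equiv_structureModule _) (nonempty_stalk_equiv h1 _) _
        (injective_stalk_secHom h1 hs _))⟩⟩

theorem secHom_comp {F G : X.Modules} (s : Γ(F, (⊤ : X.Opens))) (φ : F ⟶ G) :
    secHom s ≫ φ = secHom (φ.app ⊤ s) := by
  refine unit_hom_ext ?_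
  rw [Scheme.Modules.Hom.comp_app, CategoryTheory.comp_apply, secHom_app_one, secHom_app_one]

/-- A coherent submodule of an invertible module on an integral curve is of rank one. -/
theorem rkOne_of_mono [IsIntegral X] [IsNoetherian X] (hd : topologicalKrullDim X ≤ 1) {F L : X.Modules}
    (hF : Coh.IsCoh F) (hL : PicF.IsInvertible L) (φ : F ⟶ L) [Mono φ] : RkOne F := by
  have h1 := (isInvertible_iff_isFinLocFreeOfRank_one L).1 hL
  refine ⟨hF, fun s hs => ?_⟩
  have hφs : φ.app ⊤ s ≠ 0 := fun h => hs (M1.app_injective φ ⊤ (h.trans (map_zero _).symm))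
  have hinj : ∀ x, Function.Injective (stalkLin (secHom s) x) := fun x a b hab => by
    apply injective_stalk_secHom h1 hφs x
    rw [← secHom_comp, stalkLin_comp, stalkLin_comp, hab]
  refine ⟨(mono_iff_stalk _).2 hinj, exists_suppIn_cokernel_secHom hd hF s fun b => ?_⟩
  obtain ⟨a, ha⟩ := surjective_stalkLin_genericPoint (nonempty_stalk_equiv_structureModule _)
    (nonempty_stalk_equiv h1 _) _ (injective_stalk_secHom h1 hφs (genericPoint X)) (stalkLin φ _ b)
  refine ⟨a, ((mono_iff_stalk φ).1 inferInstance _) ?_⟩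
  show stalkLin φ _ (stalkLin (secHom s) _ a) = stalkLin φ _ b
  rw [← stalkLin_comp, secHom_comp, ha]

variable {F : X.Modules}

/-- `0 → O → F → F/sO → 0`. -/
noncomputable abbrev secSC (s : Γ(F, (⊤ : X.Opens))) : ShortComplex X.Modules :=
  ShortComplex.mk (secHom s) (cokernel.π (secHom s)) (cokernel.condition _)

theorem secSC_shortExact (s : Γ(F, (⊤ : X.Opens))) [Mono (secHom s)] : (secSC s).ShortExact where
  exact := ShortComplex.exact_of_g_is_cokernel _ (cokernelIsCokernel _)

/-- The numerical consequences of the sequence `0 → O → F → T → 0` of a nonzero section. -/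
theorem CurveLike.section_numerics (hX : CurveLike k X) (hF : RkOne F) {s : Γ(F, (⊤ : X.Opens))} (hs : s ≠ 0) :
    ∃ t : ℕ, t = Module.finrank k (Coh.HH X (cokernel (secHom s)) 0) ∧
      Curv2.euler k X F = Curv2.euler k X (Coh.structureModule X) + t ∧
      Module.finrank k (Coh.HH X F 0) ≤ Module.finrank k (Coh.HH X (Coh.structureModule X) 0) + t ∧
      Module.finrank k (Coh.HH X F 1) ≤ Curv2.genus k X ∧
      Function.Surjective (hmap k (secHom s) 1) ∧ (t = 0 → IsIso (secHom s)) := by
  obtain ⟨hm, S, hS⟩ := hF.sec s hs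
  haveI := hm
  have hT := secSC_shortExact s
  have aO := hX.adm (isCoh_structureModule (X := X))
  have aF := hX.adm hF.coh
  have aT : Adm k (cokernel (secHom s)) := adm₃ hT aO aF
  haveI := hS.subsingleton_HH 0
  have hsurj : Function.Surjective (hmap k (secHom s) 1) := fun x =>
    (exact_hmap_hmap k hT 1 x).1 (Subsingleton.elim _ _)
  refine ⟨_, rfl, ?_, ?_, ?_, hsurj, fun h0 => ?_⟩
  · have := euler_add hT aO aT
    rw [← hS.euler_eq (aT.fin 0)]
    exact this
  · haveI := aO.fin 0; haveI := aF.fin 0; haveI := aT.fin 0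
    calc Module.finrank k (Coh.HH X F 0) = _ := finrank_eq_range_add_range _ _ (exact_hmap_hmap k hT 0)
      _ ≤ _ := Nat.add_le_add (LinearMap.finrank_range_le _) (Submodule.finrank_le _)
  · haveI := aO.fin 1
    exact LinearMap.finrank_le_finrank_of_surjective (f := hmap k (secHom s) 1) hsurj
  · classical
    haveI : Epi (secHom s) := by
      haveI := aT.fin 0
      haveI : Subsingleton (Coh.HH X (cokernel (secHom s)) 0) := Module.finrank_zero_iff.1 h0
      refine (epi_iff_stalk _).2 fun x b => ?_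
      have hb : (stalkAb x).map (cokernel.π (secHom s)) b = 0 := by
        by_cases hxS : x ∈ S
        · obtain ⟨z, hz⟩ := (hS.h0Equiv k).surjective fun y : S =>
            if h : (y : X) = x then h.symm ▸ ((stalkAb x).map (cokernel.π (secHom s)) b) else 0
          have h2 := congrFun hz ⟨x, hxS⟩
          rw [dif_pos rfl, Subsingleton.elim z 0, map_zero] at h2
          exact h2.symm
        · exact hS.zero x hxS _
      exact (exact_iff_stalk_eq_zero (secSC s)).1 hT.exact x b hb
    exact isIso_of_mono_of_epi _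

theorem hh0_ne_zero {z : Coh.HH X F 0} (hz : z ≠ 0) : hh0 F z ≠ 0 :=
  fun h => hz ((hh0 F).injective (h.trans (map_zero _).symm))

theorem hmap₀_add {M N : X.Modules} (φ ψ : M ⟶ N) (n : ℕ) (x : Coh.HH X M n) :
    hmap₀ (φ + ψ) n x = hmap₀ φ n x + hmap₀ ψ n x := by
  apply (hhExt N n).injective
  rw [map_add, hhExt_hmap₀, hhExt_hmap₀, hhExt_hmap₀, Functor.map_add, mp_add]

theorem secHom_add {M : X.Modules} (s t : Γ(M, (⊤ : X.Opens))) : secHom (s + t) = secHom s + secHom t := by
  refine unit_hom_ext ?_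
  rw [Scheme.Modules.Hom.add_app, secHom_app_one]
  show s + t = (secHom s).app ⊤ (one ⊤) + (secHom t).app ⊤ (one ⊤)
  rw [secHom_app_one, secHom_app_one]

theorem hmap₀_secHom_smul (r : Coh.Γtop X) (s : Γ(F, (⊤ : X.Opens))) (n : ℕ)
    (x : Coh.HH X (Coh.structureModule X) n) :
    hmap₀ (secHom ((show Γ(X, ⊤) from r) • s)) n x = r • hmap₀ (secHom s) n x := by
  have key : (abF X).map (secHom ((show Γ(X, ⊤) from r) • s)) = (abF X).map (secHom s) ≫ smulF F r := by
    ext U c
    show (secHom ((show Γ(X, ⊤) from r) • s)).app U.unop (show Γ(X, U.unop) from c) =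
      (show Γ(X, U.unop) from Coh.resTop X U r) • (secHom s).app U.unop (show Γ(X, U.unop) from c)
    rw [Twist.secHom_app, Twist.secHom_app, mres_smul, smul_comm]
    rfl
  apply (hhExt F n).injective
  rw [hhExt_hmap₀, hhExt_smul, hhExt_hmap₀, key, mp_comp]

/-- Multiplication of sections with classes in `H¹(O)`. -/
noncomputable def cupH1 (k : Type u) [Field k] [X.Over (Spec (CommRingCat.of k))] (F : X.Modules) :
    Coh.HH X F 0 →ₗ[k] Coh.HH X (Coh.structureModule X) 1 →ₗ[k] Coh.HH X F 1 where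
  toFun z := hmap k (secHom (hh0 F z)) 1
  map_add' z w := LinearMap.ext fun x => by
    show hmap₀ (secHom (hh0 F (z + w))) 1 x = hmap₀ _ 1 x + hmap₀ _ 1 x
    rw [map_add, secHom_add, hmap₀_add]
  map_smul' c z := LinearMap.ext fun x => by
    show hmap₀ (secHom (hh0 F (Coh.toGlobal (X ↘ Spec (CommRingCat.of k)) c • z))) 1 x =
      Coh.toGlobal (X ↘ Spec (CommRingCat.of k)) c • hmap₀ (secHom (hh0 F z)) 1 x
    rw [hh0_smul, hmap₀_secHom_smul]

/-- Riemann: if `H¹(F) ≠ 0` then `h⁰(F) ≤ g`. -/
theorem CurveLike.h0_le_genus_of_h1 (hX : CurveLike k X) (hF : RkOne F) (h1 : Nontrivial (Coh.HH X F 1)) :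
    Module.finrank k (Coh.HH X F 0) ≤ Curv2.genus k X := by
  haveI := hX.fin _ (isCoh_structureModule (X := X)) 1
  obtain ⟨η, hη⟩ := exists_ne (0 : Coh.HH X F 1)
  haveI : Module.Free k (Coh.HH X F 1) := Module.Free.of_divisionRing k _
  haveI : Module.Projective k (Coh.HH X F 1) := Module.Projective.of_free
  obtain ⟨μ, hμ⟩ := Module.Projective.exists_dual_ne_zero k hη
  let Φ : Coh.HH X F 0 →ₗ[k] Module.Dual k (Coh.HH X (Coh.structureModule X) 1) :=
    (LinearMap.compRight k μ).comp (cupH1 k F)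
  have hΦ : Function.Injective Φ := by
    rw [injective_iff_map_eq_zero]
    intro z hz
    by_contra hne
    obtain ⟨t, -, -, -, -, hsurj, -⟩ := hX.section_numerics hF (hh0_ne_zero hne)
    obtain ⟨x, hx⟩ := hsurj η
    refine hμ ?_
    rw [← hx]
    exact LinearMap.congr_fun hz x
  calc Module.finrank k (Coh.HH X F 0) ≤ Module.finrank k (Module.Dual k (Coh.HH X (Coh.structureModule X) 1)) :=
        LinearMap.finrank_le_finrank_of_injective hΦ
    _ = Curv2.genus k X := Subspace.dual_finrank_eq

theorem CurveLike.euler_structureModule (hX : CurveLike k X) :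
    Curv2.euler k X (Coh.structureModule X) =
      (Module.finrank k (Coh.HH X (Coh.structureModule X) 0) : ℤ) - Curv2.genus k X :=
  (hX.adm isCoh_structureModule).euler_eq

/-- Riemann–Roch with the correction `h¹`. -/
theorem CurveLike.rr (hX : CurveLike k X) (hF : Coh.IsCoh F) :
    (Module.finrank k (Coh.HH X F 0) : ℤ) - Module.finrank k (Coh.HH X F 1) =
      Curv2.deg k X F 1 + Module.finrank k (Coh.HH X (Coh.structureModule X) 0) - Curv2.genus k X := by
  rw [Curv2.deg, hX.euler_structureModule, (hX.adm hF).euler_eq]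
  push_cast
  ring

theorem CurveLike.deg_nonneg (hX : CurveLike k X) (hF : RkOne F) (hs : Nontrivial (Coh.HH X F 0)) :
    0 ≤ Curv2.deg k X F 1 ∧ (Curv2.deg k X F 1 = 0 → Nonempty (F ≅ Coh.structureModule X)) := by
  obtain ⟨z, hz⟩ := exists_ne (0 : Coh.HH X F 0)
  obtain ⟨t, -, he, -, -, -, hiso⟩ := hX.section_numerics hF (hh0_ne_zero hz)
  refine ⟨by rw [Curv2.deg, he]; push_cast; omega, fun h => ?_⟩
  haveI := hiso (by rw [Curv2.deg, he] at h; push_cast at h; omega)
  exact ⟨(asIso (secHom (hh0 F z))).symm⟩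

theorem CurveLike.h0_le_deg_add (hX : CurveLike k X) (hF : RkOne F) (hs : Nontrivial (Coh.HH X F 0)) :
    (Module.finrank k (Coh.HH X F 0) : ℤ) ≤
      Curv2.deg k X F 1 + Module.finrank k (Coh.HH X (Coh.structureModule X) 0) := by
  obtain ⟨z, hz⟩ := exists_ne (0 : Coh.HH X F 0)
  obtain ⟨t, -, he, hle, -, -, -⟩ := hX.section_numerics hF (hh0_ne_zero hz)
  rw [Curv2.deg, he]
  push_cast
  omega

/-- `H¹(F) ≠ 0 ⇒ deg F ≤ 2g - 2` (when `h⁰(O) = 1`). -/
theorem CurveLike.deg_le_of_h1 (hX : CurveLike k X) (hF : RkOne F)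
    (h0 : Module.finrank k (Coh.HH X (Coh.structureModule X) 0) = 1) (h1 : Nontrivial (Coh.HH X F 1)) :
    Curv2.deg k X F 1 ≤ 2 * (Curv2.genus k X : ℤ) - 2 := by
  have hle := hX.h0_le_genus_of_h1 hF h1
  have hrr := hX.rr hF.coh
  haveI := hX.fin F hF.coh 1
  have hpos : 0 < Module.finrank k (Coh.HH X F 1) := Module.finrank_pos
  have hg := hpos
  by_cases hs : Nontrivial (Coh.HH X F 0)
  · obtain ⟨z, hz⟩ := exists_ne (0 : Coh.HH X F 0)
    obtain ⟨t, -, -, -, h1le, -, -⟩ := hX.section_numerics hF (hh0_ne_zero hz)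
    rw [h0] at hrr
    omega
  · rw [not_nontrivial_iff_subsingleton] at hs
    rw [h0, Module.finrank_zero_of_subsingleton (M := Coh.HH X F 0)] at hrr
    omega

theorem CurveLike.h1_subsingleton_of_deg (hX : CurveLike k X) (hF : RkOne F)
    (h0 : Module.finrank k (Coh.HH X (Coh.structureModule X) 0) = 1)
    (hdeg : 2 * (Curv2.genus k X : ℤ) - 2 < Curv2.deg k X F 1) : Subsingleton (Coh.HH X F 1) := by
  by_contra h
  exact absurd (hX.deg_le_of_h1 hF h0 (not_subsingleton_iff_nontrivial.1 h)) (not_le.2 hdeg)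

end Groth.Agent.CurveCoh17
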