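import Groth.Agent.Lib.CurveCoh17.TensorExact
import Groth.Agent.Lib.P1Split17.Basis
import Groth.Agent.Lib.PushFin12.Basic
import Groth.Agent.Lib.FlatH4.PullChart
import Groth.Agent.Lib.TensorMod.QCohTensor
import Mathlib.Algebra.Category.Ring.Constructions

/-!
# `f_* O ⊗ f_* O = h_* O` for `h : X ×_Y X ⟶ Y`
-/

set_option linter.style.haveILetI false
set_option autoImplicit false

universe u

open CategoryTheory TopologicalSpace Opposite CategoryTheory.Limits AlgebraicGeometry TensorProduct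

namespace Groth.Agent.CurveCoh17

open Groth.Agent.M1 Groth.Agent.M2 Groth.Agent.P1Split

theorem appLE_eq_of_eq {X Y : Scheme.{u}} {g g' : X ⟶ Y} (h : g = g') (U : Y.Opens) (V : X.Opens)
    (e : V ≤ g ⁻¹ᵁ U) : g.appLE U V e = g'.appLE U V (h ▸ e) := by
  subst h; rfl

/-- Bases of a pushout of rings from bases of the two factors. -/
theorem bijective_of_isPushout {A B B' C : CommRingCat.{u}} {i : A ⟶ B} {i' : A ⟶ B'} {j : B ⟶ C}
    {j' : B' ⟶ C} (h : IsPushout i i' j j') {n m : ℕ} {e : Fin n → B} {e' : Fin m → B'}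
    (he : Function.Bijective fun c : Fin n → A => ∑ l, i (c l) * e l)
    (he' : Function.Bijective fun c : Fin m → A => ∑ l, i' (c l) * e' l) :
    Function.Bijective fun c : Fin n × Fin m → A => ∑ l, j (i (c l)) * (j (e l.1) * j' (e' l.2)) := by
  algebraize [i.hom, i'.hom, j.hom, j'.hom, (j.hom.comp i.hom)]
  haveI : IsScalarTower A B' C := IsScalarTower.of_algebraMap_eq' (congrArg CommRingCat.Hom.hom h.w)
  haveI : Algebra.IsPushout A B B' C := CommRingCat.isPushout_iff_isPushout.1 h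
  let b : Module.Basis (Fin n) A B := .ofEquivFun (LinearEquiv.ofBijective
    (Fintype.linearCombination A e) (by
      convert he using 1; funext c; simp [Fintype.linearCombination_apply, Algebra.smul_def]; rfl)).symm
  let b' : Module.Basis (Fin m) A B' := .ofEquivFun (LinearEquiv.ofBijective
    (Fintype.linearCombination A e') (by
      convert he' using 1; funext c; simp [Fintype.linearCombination_apply, Algebra.smul_def]; rfl)).symm
  let bb := (b.tensorProduct b').map ((Algebra.IsPushout.equiv A B B' C).toLinearEquiv.restrictScalars A)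
  have hbb : ∀ l, bb l = j (e l.1) * j' (e' l.2) := fun l => by
    have hb : b l.1 = e l.1 := by
      rw [Module.Basis.coe_ofEquivFun]
      simp
    have hb' : b' l.2 = e' l.2 := by
      rw [Module.Basis.coe_ofEquivFun]
      simp
    rw [Module.Basis.map_apply, Module.Basis.tensorProduct_apply', hb, hb']
    exact Algebra.IsPushout.equiv_tmul (R := A) (S := B) (R' := B') (S' := C) _ _
  convert bb.equivFun.symm.bijective using 1
  funext c
  rw [Module.Basis.equivFun_symm_apply]
  refine Finset.sum_congr rfl fun l _ => ?_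
  rw [hbb, Algebra.smul_def]
  rfl

variable {X Y : Scheme.{u}} (f : X ⟶ Y)

/-- The direct image of the structure sheaf. -/
noncomputable abbrev pushO {A B : Scheme.{u}} (g : A ⟶ B) : B.Modules :=
  (Scheme.Modules.pushforward g).obj (Coh.structureModule A)

theorem le_snd (U : Y.Opens) : (pullback.fst f f ≫ f) ⁻¹ᵁ U ≤ pullback.snd f f ⁻¹ᵁ (f ⁻¹ᵁ U) := fun z hz => by
  show (pullback.snd f f ≫ f) z ∈ U
  rw [← pullback.condition]
  exact hz

theorem snd_appLE (U : Y.Opens) (r : Γ(Y, U)) :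
    (pullback.snd f f).appLE (f ⁻¹ᵁ U) ((pullback.fst f f ≫ f) ⁻¹ᵁ U) (le_snd f U) (f.app U r) = ((pullback.fst f f ≫ f)).app U r := by
  rw [← CommRingCat.comp_apply, ← Scheme.Hom.comp_appLE, appLE_eq_of_eq pullback.condition.symm,
    ← Scheme.Hom.app_eq_appLE]

/-- `pr₁^*` on sections. -/
noncomputable def fstA (U : Y.Opens) : Γ(X, f ⁻¹ᵁ U) →+* Γ(pullback f f, (pullback.fst f f ≫ f) ⁻¹ᵁ U) :=
  ((pullback.fst f f).app (f ⁻¹ᵁ U)).hom

/-- `pr₂^*` on sections. -/
noncomputable def sndA (U : Y.Opens) : Γ(X, f ⁻¹ᵁ U) →+* Γ(pullback f f, (pullback.fst f f ≫ f) ⁻¹ᵁ U) :=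
  ((pullback.snd f f).appLE (f ⁻¹ᵁ U) ((pullback.fst f f ≫ f) ⁻¹ᵁ U) (le_snd f U)).hom

theorem fstA_res {U V : Y.Opens} (h : V ≤ U) (s : Γ(X, f ⁻¹ᵁ U)) :
    fstA f V (X.presheaf.map (homOfLE (f.preimage_mono h)).op s) =
      (pullback f f).presheaf.map (homOfLE (Scheme.Hom.preimage_mono _ h)).op (fstA f U s) :=
  congr($((pullback.fst f f).naturality (homOfLE (f.preimage_mono h)).op) s)

theorem sndA_res {U V : Y.Opens} (h : V ≤ U) (s : Γ(X, f ⁻¹ᵁ U)) :
    sndA f V (X.presheaf.map (homOfLE (f.preimage_mono h)).op s) =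
      (pullback f f).presheaf.map (homOfLE (Scheme.Hom.preimage_mono _ h)).op (sndA f U s) := by
  simp only [sndA]
  rw [← CommRingCat.comp_apply, ← CommRingCat.comp_apply, Scheme.Hom.map_appLE, Scheme.Hom.appLE_map]

theorem sndA_app (U : Y.Opens) (r : Γ(Y, U)) : sndA f U (f.app U r) = (pullback.fst f f ≫ f).app U r := snd_appLE f U r

theorem fstA_app (U : Y.Opens) (r : Γ(Y, U)) : fstA f U (f.app U r) = (pullback.fst f f ≫ f).app U r := rfl

/-- `(s, t) ↦ pr₁^* s · pr₂^* t`. -/
noncomputable def selfBiMap : BiMap (pushO f) (pushO f) (pushO (pullback.fst f f ≫ f)) where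
  f U s t := (fstA f U s * sndA f U t : Γ(pullback f f, (pullback.fst f f ≫ f) ⁻¹ᵁ U))
  add_left U s s' t := by
    show fstA f U ((show Γ(X, f ⁻¹ᵁ U) from s) + (show Γ(X, f ⁻¹ᵁ U) from s')) * _ = _
    rw [map_add, add_mul]; rfl
  add_right U s t t' := by
    show _ * sndA f U ((show Γ(X, f ⁻¹ᵁ U) from t) + (show Γ(X, f ⁻¹ᵁ U) from t')) = _
    rw [map_add, mul_add]; rfl
  smul_left U r s t := by
    show fstA f U ((f.app U r : Γ(X, f ⁻¹ᵁ U)) * (show Γ(X, f ⁻¹ᵁ U) from s)) * _ = _
    rw [map_mul, fstA_app, mul_assoc]; rfl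
  smul_right U r s t := by
    show _ * sndA f U ((f.app U r : Γ(X, f ⁻¹ᵁ U)) * (show Γ(X, f ⁻¹ᵁ U) from t)) = _
    rw [map_mul, sndA_app, mul_left_comm]; rfl
  compat {U V} h s t := by
    show fstA f V (X.presheaf.map (homOfLE (f.preimage_mono h)).op s) *
      sndA f V (X.presheaf.map (homOfLE (f.preimage_mono h)).op t) =
      (pullback f f).presheaf.map (homOfLE (Scheme.Hom.preimage_mono _ h)).op
        (fstA f U s * sndA f U t)
    rw [map_mul, fstA_res f h, sndA_res f h]

/-- The comparison map. -/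
noncomputable def selfTensor : CohB1.tensorMod (pushO f) (pushO f) ⟶ (pushO (pullback.fst f f ≫ f)) := mkHom (selfBiMap f)

theorem isIso_selfTensor [IsAffineHom f] {n : ℕ} (hE : FlatMod.IsFinLocFreeOfRank n (pushO f)) :
    IsIso (selfTensor f) := by
  have hQ : Coh.IsQCoh (pushO (pullback.fst f f ≫ f)) := M1.isQCoh_push _ (M1.isQCoh_structureModule _)
  rw [M1.isIso_iff_stalk]
  intro y
  obtain ⟨D, e, hyD, he⟩ := exists_isBas_nhd hE y
  obtain ⟨U, hU, hyU, hle⟩ := exists_isAffineOpen_mem_and_subset hyD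
  replace he := he.mres (show U ≤ D from hle)
  generalize hε : (fun i => M1.mres (pushO f) (show U ≤ D from hle) (e i)) = ε at he
  have hεU : Function.Bijective fun c : Fin n → Γ(Y, U) =>
      ∑ i, (f.app U (c i) : Γ(X, f ⁻¹ᵁ U)) * (show Γ(X, f ⁻¹ᵁ U) from ε i) := by
    have := he U le_rfl
    simp only [mres_id] at this
    exact this
  have hpo : IsPushout (f.app U) (f.app U) ((pullback.fst f f).app (f ⁻¹ᵁ U))
      ((pullback.snd f f).appLE (f ⁻¹ᵁ U) ((pullback.fst f f ≫ f) ⁻¹ᵁ U) (le_snd f U)) := by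
    have := FlatH4.isPushout_sections (g := pullback.fst f f) (iY := pullback.snd f f) (iX := f) (f := f)
      (IsPullback.of_hasPullback f f) (UT := f ⁻¹ᵁ U) (UY := (pullback.fst f f ≫ f) ⁻¹ᵁ U) (le_refl (f ⁻¹ᵁ U)) (le_refl (f ⁻¹ᵁ U))
      (le_antisymm (le_inf le_rfl (le_snd f U)) inf_le_left) hU (hU.preimage f) (hU.preimage f)
    rw [← Scheme.Hom.app_eq_appLE] at this
    rw [show (pullback.fst f f).appLE (f ⁻¹ᵁ U) ((pullback.fst f f ≫ f) ⁻¹ᵁ U) _ = (pullback.fst f f).app (f ⁻¹ᵁ U)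
      from (Scheme.Hom.app_eq_appLE _).symm] at this
    exact this
  have hw := bijective_of_isPushout hpo hεU hεU
  let w : Fin n × Fin n → Γ((pushO (pullback.fst f f ≫ f)), U) := fun l => (selfBiMap f).f U (ε l.1) (ε l.2)
  let L : (Fin n × Fin n → Γ(Y, U)) ≃ₗ[Γ(Y, U)] Γ((pushO (pullback.fst f f ≫ f)), U) :=
    LinearEquiv.ofBijective (Fintype.linearCombination Γ(Y, U) w) (by
      rw [show ⇑(Fintype.linearCombination Γ(Y, U) w) = fun c => ∑ l, c l • w l from
        funext fun c => Fintype.linearCombination_apply Γ(Y, U) w c]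
      exact hw)
  let b : Module.Basis (Fin n × Fin n) Γ(Y, U) Γ((pushO (pullback.fst f f ≫ f)), U) := .ofEquivFun L.symm
  have hb : ∀ l, b l = w l := fun l => by
    refine (congrFun (Module.Basis.coe_ofEquivFun L.symm) l).trans ?_
    show Fintype.linearCombination Γ(Y, U) w (Pi.single l 1) = w l
    rw [Fintype.linearCombination_apply_single, one_smul]
  haveI := hQ
  letI := M1.stalkModule (pushO (pullback.fst f f ≫ f)) hyU
  haveI := M1.isLocalizedModule_germ (pushO (pullback.fst f f ≫ f)) hU hyU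
  letI := TopCat.Presheaf.algebra_section_stalk Y.presheaf (⟨y, hyU⟩ : U)
  haveI := hU.isLocalization_stalk ⟨y, hyU⟩
  haveI : IsScalarTower Γ(Y, U) (Y.presheaf.stalk y) (((pushO (pullback.fst f f ≫ f))).presheaf.stalk y) :=
    IsScalarTower.of_algebraMap_smul fun _ _ => rfl
  let bT := b.ofIsLocalizedModule (Y.presheaf.stalk y) (hU.primeIdealOf ⟨y, hyU⟩).asIdeal.primeCompl
    (M1.germₗ (pushO (pullback.fst f f ≫ f)) hyU)
  let bE : Module.Basis (Fin n) (Y.presheaf.stalk y) (((pushO f)).presheaf.stalk y) := .ofEquivFun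
    (LinearEquiv.ofBijective (Fintype.linearCombination (Y.presheaf.stalk y)
      fun i => (((pushO f)).presheaf.germ U y hyU (ε i) : ((pushO f)).presheaf.stalk y)) (he.stalk hyU)).symm
  have hbE : ∀ i, bE i = ((pushO f)).presheaf.germ U y hyU (ε i) := fun i => by
    rw [Module.Basis.coe_ofEquivFun]
    simp [Fintype.linearCombination_apply]
  let bS := (bE.tensorProduct bE).map (stalkEquiv (pushO f) (pushO f) y).symm
  have key : stalkLin (selfTensor f) y = (bS.equiv bT (Equiv.refl _)).toLinearMap := by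
    refine bS.ext fun l => ?_
    rw [LinearEquiv.coe_coe, Module.Basis.equiv_apply, Equiv.refl_apply,
      Module.Basis.ofIsLocalizedModule_apply, hb, Module.Basis.map_apply, Module.Basis.tensorProduct_apply', hbE, hbE,
      ← stalkEquiv_tsec (pushO f) (pushO f) y hyU, LinearEquiv.symm_apply_apply]
    refine (M1.germ_naturality (selfTensor f) U y hyU _).trans ?_
    rw [selfTensor, mkHom_tsec]
    rfl
  have : Function.Bijective (stalkLin (selfTensor f) y) := by
    rw [key]; exact (bS.equiv bT (Equiv.refl _)).bijective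
  exact this

end Groth.Agent.CurveCoh17
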