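import Groth.Agent.Lib.CurveCoh17.Clopen
import Groth.Agent.Lib.CurveCoh17.SelfTensor
import Groth.Agent.Lib.VB17.Sub
import Groth.Agent.Lib.VB17.Setup
import Groth.Agent.Lib.PullBC11.AffineBC
import Groth.Agent.Lib.Twist.Pullback
import Groth.Agent.Lib.RankFree12.Scheme
import Groth.Agent.Lib.AlgSpDecent.DimMor
import Mathlib.AlgebraicGeometry.Morphisms.Etale
import Mathlib.AlgebraicGeometry.Morphisms.FormallyUnramified
import Mathlib.AlgebraicGeometry.Morphisms.Finite
import Mathlib.LinearAlgebra.Dimension.Constructions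

/-!
# The Euler characteristic is multiplicative along finite étale morphisms of curves
-/

set_option linter.style.haveILetI false
set_option autoImplicit false

universe u

open CategoryTheory TopologicalSpace Opposite CategoryTheory.Limits AlgebraicGeometry

namespace Groth.Agent.CurveCoh17

open Groth.Agent.M1 Groth.Agent.M2

variable {k : Type u} [Field k]

theorem euler_pushO {X Y : Scheme.{u}} [X.Over (Spec (CommRingCat.of k))] [Y.Over (Spec (CommRingCat.of k))]
    (f : X ⟶ Y) [IsAffineHom f] (hf : f ≫ (Y ↘ Spec (CommRingCat.of k)) = X ↘ Spec (CommRingCat.of k)) :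
    Curv2.euler k Y (pushO f) = Curv2.euler k X (Coh.structureModule X) :=
  haveI : (Coh.structureModule X).IsQuasicoherent := M1.isQCoh_structureModule X
  finsum_congr fun n => by
    obtain ⟨e⟩ := nonempty_hequiv_push k f hf (Coh.structureModule X) n
    rw [e.finrank_eq]

theorem isFinLocFree_pushO {X Y : Scheme.{u}} (f : X ⟶ Y) [IsFinite f] [Flat f]
    [LocallyOfFinitePresentation f] : FlatMod.IsFinLocFree (pushO f) :=
  ((PushFin12.finLocFree_iff f).2 ⟨inferInstance, inferInstance, inferInstance⟩).2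

theorem curveLike_of_finite {X Y : Scheme.{u}} [X.Over (Spec (CommRingCat.of k))]
    [Y.Over (Spec (CommRingCat.of k))] (hY : CurveLike k Y) (f : X ⟶ Y) [IsFinite f] [LocallyQuasiFinite f]
    (hf : f ≫ (Y ↘ Spec (CommRingCat.of k)) = X ↘ Spec (CommRingCat.of k)) : CurveLike k X := by
  haveI := hY.noetherian
  haveI := hY.separated
  haveI : IsLocallyNoetherian X := LocallyOfFiniteType.isLocallyNoetherian f
  haveI : CompactSpace X := QuasiCompact.compactSpace_of_compactSpace f
  refine ⟨{}, (X.isSeparated_iff).2 ?_, (AlgSpDecent.topologicalKrullDim_le_of_lqf f).trans hY.dim, ?_⟩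
  · rw [← terminal.comp_from f]; infer_instance
  · intro M hM n
    haveI := hM.1
    obtain ⟨e⟩ := nonempty_hequiv_push k f hf M n
    haveI := hY.fin _ ⟨M1.isQCoh_push f hM.1, (PushFin12.isFT_iff f M hM.1).1 hM.2⟩ n
    exact Module.Finite.equiv e

theorem rk_eq_finrank {X : Scheme.{u}} {M : X.Modules} (h : FlatMod.IsFinLocFree M) (x : X) :
    RankFree12.rk M x = Module.finrank (X.presheaf.stalk x) (M.presheaf.stalk x) := by
  haveI := ((M1.isFinLocFree_iff M).1 h).2 x
  exact Module.finrank_baseChange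

theorem finrank_stalk_of_splitting {X : Scheme.{u}} {S : ShortComplex X.Modules} (hS : S.ShortExact)
    (h₁ : FlatMod.IsFinLocFree S.X₁) (h₃ : FlatMod.IsFinLocFree S.X₃) (x : X) :
    Module.finrank (X.presheaf.stalk x) (S.X₂.presheaf.stalk x) =
      Module.finrank (X.presheaf.stalk x) (S.X₁.presheaf.stalk x) +
        Module.finrank (X.presheaf.stalk x) (S.X₃.presheaf.stalk x) := by
  haveI := hS.mono_f
  haveI := hS.epi_g
  obtain ⟨hfp₁, hfr₁⟩ := (M1.isFinLocFree_iff _).1 h₁
  obtain ⟨hfp₃, hfr₃⟩ := (M1.isFinLocFree_iff _).1 h₃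
  haveI := hfr₁ x
  haveI := hfr₃ x
  haveI := M1.finite_stalk (M1.isFP_isQCoh hfp₁) (M1.isFP_isFT hfp₁) x
  haveI := M1.finite_stalk (M1.isFP_isQCoh hfp₃) (M1.isFP_isFT hfp₃) x
  have hinj : Function.Injective (stalkLin S.f x) := (mono_iff_stalk S.f).1 hS.mono_f x
  have hsurj : Function.Surjective (stalkLin S.g x) := (epi_iff_stalk S.g).1 hS.epi_g x
  have hex : Function.Exact (stalkLin S.f x) (stalkLin S.g x) := fun b => by
    refine ⟨fun hb => (exact_iff_stalk_eq_zero S).1 hS.exact x b hb, ?_⟩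
    rintro ⟨a, rfl⟩
    rw [← stalkLin_comp, S.zero]
    show (stalkAb x).map (0 : S.X₁ ⟶ S.X₃) a = 0
    rw [Functor.map_zero]
    rfl
  obtain ⟨l, hl⟩ := Module.projective_lifting_property (stalkLin S.g x) LinearMap.id hsurj
  obtain ⟨e, -⟩ := hex.splitSurjectiveEquiv hinj ⟨l, hl⟩
  rw [e.finrank_eq, Module.finrank_prod]

/-- Main induction: `χ(O_X) = n χ(O_Y)` for `f` finite étale with `f_* O` of rank `n`. -/
theorem euler_of_finite_etale (n : ℕ) : ∀ {X Y : Scheme.{u}} [X.Over (Spec (CommRingCat.of k))]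
    [Y.Over (Spec (CommRingCat.of k))] (f : X ⟶ Y) [IsFinite f] [Etale f]
    (_ : f ≫ (Y ↘ Spec (CommRingCat.of k)) = X ↘ Spec (CommRingCat.of k)) (_ : CurveLike k Y)
    (_ : FlatMod.IsFinLocFreeOfRank n (pushO f)),
    Curv2.euler k X (Coh.structureModule X) = n * Curv2.euler k Y (Coh.structureModule Y) := by
  induction n with
  | zero =>
    intro X Y _ _ f _ _ hf hY hr
    have hz : ∀ y : Y, ∀ c : (pushO f).presheaf.stalk y, c = 0 := fun y c => by
      obtain ⟨e⟩ := nonempty_stalk_equiv hr y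
      exact e.injective (Subsingleton.elim _ _)
    have hs : SuppIn (pushO f) (∅ : Finset Y) := ⟨by simp, fun y _ => hz y⟩
    have hsub : Subsingleton (Coh.HH Y (pushO f) 0) :=
      ⟨fun c d => (hs.h0Equiv k).injective (funext fun y => absurd y.2 (Finset.notMem_empty _))⟩
    rw [← euler_pushO f hf, hs.euler_eq (inferInstance), Module.finrank_zero_of_subsingleton]
    simp
  | succ n ih =>
    intro X Y _ _ f _ _ hf hY hr
    let W := pullback f f
    let p : W ⟶ X := pullback.fst f f
    let a : X ⟶ W := pullback.diagonal f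
    haveI : IsOpenImmersion a := inferInstanceAs (IsOpenImmersion (pullback.diagonal f))
    haveI : IsClosedImmersion a := IsSeparated.isClosedImmersion_diagonal
    let Z : W.Opens := ⟨(Set.range a)ᶜ, a.isClosedEmbedding.isClosed_range.isOpen_compl⟩
    let b : (Z : Scheme.{u}) ⟶ W := Z.ι
    have hbr : Set.range b = (Set.range a)ᶜ := Scheme.Opens.range_ι Z
    haveI : IsClosedImmersion b := IsClosedImmersion.of_isPreimmersion b (by
      rw [hbr]; exact a.isOpenEmbedding.isOpen_range.isClosed_compl)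
    letI oW : W.Over (Spec (CommRingCat.of k)) := ⟨p ≫ (X ↘ Spec (CommRingCat.of k))⟩
    letI oZ : (Z : Scheme.{u}).Over (Spec (CommRingCat.of k)) := ⟨b ≫ p ≫ (X ↘ Spec (CommRingCat.of k))⟩
    have hcov : ∀ w : W, w ∈ Set.range a ∨ w ∈ Set.range b := fun w => by
      rw [hbr]; exact em _
    have hdisj : Disjoint (Set.range a) (Set.range b) := by rw [hbr]; exact disjoint_compl_right
    obtain ⟨S, hS, e₁, e₂, e₃⟩ := exists_splitting_push a b p hcov hdisj
    have hX : CurveLike k X := curveLike_of_finite hY f hf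
    -- rank of `p_* O_W`
    have hp : FlatMod.IsFinLocFreeOfRank (n + 1) (pushO p) := by
      have hbc := PullBC11.isIso_bcMap (IsPullback.of_hasPullback f f).flip (Coh.structureModule X)
        (M1.isQCoh_structureModule X)
      refine isFinLocFreeOfRank_of_iso ?_ (isFinLocFreeOfRank_pullback f hr)
      exact @asIso _ _ _ _ _ hbc ≪≫ (Scheme.Modules.pushforward p).mapIso (Twist.pullbackUnitIso _)
    have hd : pushO (a ≫ p) ≅ Coh.structureModule X :=
      (Scheme.Modules.pushforwardCongr (show a ≫ p = 𝟙 X from pullback.diagonal_fst f)).app _ ≪≫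
        (Scheme.Modules.pushforwardId X).app _
    have hO : FlatMod.IsFinLocFreeOfRank 1 (Coh.structureModule X) :=
      isFinLocFreeOfRank_of_iso (freeModOneIso X) (isFinLocFreeOfRank_freeMod X 1)
    have h3 : FlatMod.IsFinLocFreeOfRank 1 (pushO (a ≫ p)) := isFinLocFreeOfRank_of_iso hd.symm hO
    have h1 : FlatMod.IsFinLocFree (pushO (b ≫ p)) := isFinLocFree_pushO (b ≫ p)
    have hS₁ : FlatMod.IsFinLocFree S.X₁ := e₁ ▸ h1
    have hS₂ : FlatMod.IsFinLocFreeOfRank (n + 1) S.X₂ := e₂ ▸ hp
    have hS₃ : FlatMod.IsFinLocFreeOfRank 1 S.X₃ := e₃ ▸ h3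
    have hgr : FlatMod.IsFinLocFreeOfRank n (pushO (b ≫ p)) := fun x => by
      obtain ⟨U, m, hxU, ⟨e⟩⟩ := h1 x
      suffices m = n by subst this; exact ⟨U, hxU, ⟨e⟩⟩
      have hq := RankFree12.rk_of_freeMod (M1.isFP_isQCoh (M1.isFP_of_isFinLocFree h1)) e hxU
      rw [rk_eq_finrank h1] at hq
      have h := finrank_stalk_of_splitting hS hS₁ (isFinLocFree_of_ofRank hS₃) x
      obtain ⟨t₂⟩ := nonempty_stalk_equiv hS₂ x
      obtain ⟨t₃⟩ := nonempty_stalk_equiv hS₃ x
      rw [t₂.finrank_eq, t₃.finrank_eq, Module.finrank_fin_fun, Module.finrank_fin_fun] at h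
      have hq' : Module.finrank (X.presheaf.stalk x) (S.X₁.presheaf.stalk x) = m := by rw [e₁]; exact hq
      rw [hq'] at h
      omega
    have hZ := ih (b ≫ p) (Category.assoc _ _ _) hX hgr
    have hW : Curv2.euler k W (Coh.structureModule W) =
        Curv2.euler k (Z : Scheme.{u}) (Coh.structureModule _) + Curv2.euler k X (Coh.structureModule X) := by
      have hc₁ : Coh.IsCoh S.X₁ := e₁ ▸ isCoh_of_ofRank hgr
      have h := euler_add hS (hX.adm hc₁) (hX.adm (isCoh_of_ofRank hS₃))
      rw [e₁, e₂, e₃, euler_iso hd, euler_pushO p rfl, euler_pushO (b ≫ p) (Category.assoc _ _ _)] at h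
      exact h
    haveI := isIso_selfTensor f hr
    have hT := hY.euler_tensor hr hr
    rw [euler_iso (asIso (selfTensor f)),
      euler_pushO (pullback.fst f f ≫ f) (show _ = p ≫ (X ↘ Spec (CommRingCat.of k)) by rw [Category.assoc, hf]),
      euler_pushO f hf, hW, hZ] at hT
    refine mul_left_cancel₀ (show ((n + 1 : ℕ) : ℤ) ≠ 0 by positivity) ?_
    push_cast at hT ⊢
    linear_combination -hT

end Groth.Agent.CurveCoh17
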