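import Groth.Agent.Lib.CurveCoh17.Section
import Groth.Agent.Lib.ModM1.ClosedImm
import Groth.Agent.Lib.TensorMod.IdealMod
import Groth.Agent.Lib.RedSep.Basic
import Groth.Agent.Lib.ProjDeg17.Projection
import Groth.Agent.Lib.RelAmple18.Generation
import Groth.Agent.Lib.RelAmple18.Generated
import Groth.Prelude.Def_Curv2

/-!
# Twists by finite subschemes, global generation
-/

set_option linter.style.haveILetI false
set_option autoImplicit false

universe u

open CategoryTheory TopologicalSpace Opposite CategoryTheory.Limits AlgebraicGeometry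

namespace Groth.Agent.CurveCoh17

open Groth.Agent.M1 Groth.Agent.M2 Groth.Agent.CohFound

variable {k : Type u} [Field k] {X : Scheme.{u}} [X.Over (Spec (CommRingCat.of k))]

theorem isCoh_idealMod [IsNoetherian X] (Z : X.IdealSheafData) : Coh.IsCoh (ClSub.idealMod Z) :=
  haveI : Mono (ClSub.idealModι Z) := inferInstanceAs (Mono (kernel.ι (ClSub.toSubscheme Z)))
  isCoh_of_mono (ClSub.idealModι Z) isCoh_structureModule (isQCoh_idealMod Z)

theorem isCoh_quotMod [IsNoetherian X] (Z : X.IdealSheafData) : Coh.IsCoh (ClSub.quotMod Z) :=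
  haveI := epi_toSubscheme Z
  ⟨M1.isQCoh_push _ (M1.isQCoh_structureModule _), isFT_of_epi (ClSub.toSubscheme Z) isCoh_structureModule.2⟩

/-- A subscheme of dimension zero is finitely many closed points. -/
theorem exists_suppIn_quotMod [IsNoetherian X] (Z : X.IdealSheafData)
    (hZ : topologicalKrullDim (Z.support : Set X) ≤ 0) : ∃ S : Finset X, SuppIn (ClSub.quotMod Z) S := by
  have hpt : ∀ x ∈ (Z.support : Set X), IsClosed ({x} : Set X) := fun x hx => by
    rw [← closure_eq_iff_isClosed]
    refine Set.Subset.antisymm (fun y hy => ?_) subset_closure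
    have hxy : x ⤳ y := specializes_iff_mem_closure.2 hy
    by_contra hne
    have hlt := Order.height_add_one_le (VarDim.lt_of_specializes_ne hxy hne)
    have h0 : Order.height x = 0 := by
      have h1 := (ProjDeg17.height_le_dim_of_mem Z.support.isClosed hx).trans hZ
      exact nonpos_iff_eq_zero.1 (WithBot.coe_le_coe.1 h1)
    rw [h0] at hlt
    exact one_ne_zero (nonpos_iff_eq_zero.1 (le_trans (le_add_self) hlt))
  obtain ⟨G, hG⟩ := VarDim.exists_finite_generic (X := X) Z.support.isClosed
  refine ⟨G, fun x hx => hpt x ((hG x).2 ⟨x, hx, specializes_rfl⟩), fun x hx a => ?_⟩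
  refine eq_zero_stalk_push Z.subschemeι _ (fun hr => ?_) a
  rw [Scheme.IdealSheafData.range_subschemeι] at hr
  obtain ⟨g, hg, hgx⟩ := (hG x).1 hr
  have hgZ : g ∈ (Z.support : Set X) := (hG g).2 ⟨g, hg, specializes_rfl⟩
  exact hx (Set.mem_singleton_iff.1 (hgx.mem_closed (hpt g hgZ) rfl) ▸ hg)

/-- The inclusion `I_Z ⊗ L → L`. -/
noncomputable def twistIncl (Z : X.IdealSheafData) (L : X.Modules) :
    CohB1.tensorMod (ClSub.idealMod Z) L ⟶ L :=
  tensorMap (ClSub.idealModι Z) (𝟙 L) ≫ (tensorLUnit L).hom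

theorem twistSES {L : X.Modules} (hL : PicF.IsInvertible L) (Z : X.IdealSheafData) :
    ((ShortComplex.mk (ClSub.idealModι Z) (ClSub.toSubscheme Z) (kernel.condition _)).map (tensorR L)).ShortExact :=
  shortExact_tensorR (shortExact_idealMod Z) L fun x =>
    Module.Flat.of_linearEquiv (nonempty_stalk_equiv ((isInvertible_iff_isFinLocFreeOfRank_one L).1 hL) x).some

/-- `χ(I_Z ⊗ L) = χ(L) - h⁰(O_Z)`, with the supporting data. -/
theorem CurveLike.twist_data [IsIntegral X] (hX : CurveLike k X) {L : X.Modules} (hL : PicF.IsInvertible L)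
    (Z : X.IdealSheafData) (hZ : topologicalKrullDim (Z.support : Set X) ≤ 0) :
    RkOne (CohB1.tensorMod (ClSub.idealMod Z) L) ∧
      Curv2.euler k X (CohB1.tensorMod (ClSub.idealMod Z) L) =
        Curv2.euler k X L - Module.finrank k (Coh.HH X (ClSub.quotMod Z) 0) ∧
      Curv2.deg k X (CohB1.tensorMod (ClSub.idealMod Z) L) 1 =
        Curv2.deg k X L 1 - Module.finrank k (Coh.HH X (ClSub.quotMod Z) 0) := by
  haveI := hX.noetherian
  have hS := twistSES hL Z
  have h1 := (isInvertible_iff_isFinLocFreeOfRank_one L).1 hL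
  have hF : Coh.IsCoh (CohB1.tensorMod (ClSub.idealMod Z) L) := isCoh_tensor (isCoh_idealMod Z) (isCoh_of_ofRank h1)
  haveI : Mono (twistIncl Z L) := by
    haveI : Mono (tensorMap (ClSub.idealModι Z) (𝟙 L)) := hS.mono_f
    exact mono_comp _ _
  obtain ⟨S, hsupp⟩ := exists_suppIn_quotMod Z hZ
  have e := nonempty_stalk_equiv h1
  have hfin := hX.fin _ (isCoh_quotMod Z) 0
  have hT := hsupp.finite_tensor hfin L e
  have hadd := euler_add hS (hX.adm hF) ((hsupp.tensor L).adm hT)
  change Curv2.euler k X (CohB1.tensorMod (Coh.structureModule X) L) =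
    Curv2.euler k X (CohB1.tensorMod (ClSub.idealMod Z) L) + Curv2.euler k X (CohB1.tensorMod (ClSub.quotMod Z) L) at hadd
  rw [euler_iso (tensorLUnit L), (hsupp.tensor L).euler_eq hT, hsupp.finrank_tensor hfin L e, one_mul] at hadd
  refine ⟨rkOne_of_mono hX.dim hF hL (twistIncl Z L), by linarith, ?_⟩
  rw [Curv2.deg, Curv2.deg]
  linarith

theorem quot_point_aux (I : X.IdealSheafData) [IsReduced I.subscheme] [Subsingleton I.subscheme] (z : I.subscheme) :
    (∀ r ∈ IsLocalRing.maximalIdeal (X.presheaf.stalk (I.subschemeι z)),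
      ∀ a : (ClSub.quotMod I).presheaf.stalk (I.subschemeι z), r • a = 0) ∧
    ∃ a : (ClSub.quotMod I).presheaf.stalk (I.subschemeι z), a ≠ 0 := by
  let i := I.subschemeι
  haveI : Nonempty I.subscheme := ⟨z⟩
  haveI : IrreducibleSpace I.subscheme :=
    { isPreirreducible_univ := (Set.subsingleton_of_subsingleton (s := (Set.univ : Set I.subscheme))).isPreirreducible
      toNonempty := ⟨z⟩ }
  haveI : IsIntegral I.subscheme := isIntegral_of_irreducibleSpace_of_isReduced _
  have hfield := RA.isField_stalk_of_subsingleton I.subscheme z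
  refine ⟨fun r hr a => ?_, ?_⟩
  · refine smul_stalk_eq_zero i (ClSub.quotMod I) (M1.isQCoh_push _ (M1.isQCoh_structureModule _))
      (fun U b hb s => ?_) z r ?_ a
    · show (i.app U.1 b : Γ(I.subscheme, i ⁻¹ᵁ U.1)) * _ = 0
      rw [show i.app U.1 b = 0 from by
        rw [Scheme.Hom.ker_apply] at hb
        exact RingHom.mem_ker.1 hb, zero_mul]
    · by_contra hne
      obtain ⟨c, hc⟩ := hfield.mul_inv_cancel hne
      exact (IsLocalRing.mem_maximalIdeal _).1 hr (isUnit_of_map_unit (i.stalkMap z).hom r (IsUnit.of_mul_eq_one c hc))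
  · refine ⟨(ClSub.quotMod I).presheaf.germ ⊤ (i z) trivial (1 : Γ(I.subscheme, i ⁻¹ᵁ ⊤)), fun h0 => ?_⟩
    obtain ⟨W, hW, i₁, i₂, he⟩ := (ClSub.quotMod I).presheaf.germ_eq (i z) (U := ⊤) (V := ⊤) trivial trivial
      (1 : Γ(I.subscheme, i ⁻¹ᵁ ⊤)) 0 (h0.trans (map_zero _).symm)
    rw [map_zero] at he
    replace he : (I.subscheme.presheaf.map (homOfLE (i.preimage_mono i₁.le)).op) (1 : Γ(I.subscheme, i ⁻¹ᵁ ⊤)) = 0 := he
    rw [map_one] at he
    have := congrArg (I.subscheme.presheaf.germ (i ⁻¹ᵁ W) z hW) he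
    rw [map_one, map_zero] at this
    exact one_ne_zero this

/-- The quotient of a reduced point is killed by the maximal ideal and is nonzero. -/
theorem quot_point_props {x : X} (hx : IsClosed ({x} : Set X)) :
    (∀ r ∈ IsLocalRing.maximalIdeal (X.presheaf.stalk x),
      ∀ a : (ClSub.quotMod (Scheme.IdealSheafData.vanishingIdeal (⟨{x}, hx⟩ : Closeds X))).presheaf.stalk x, r • a = 0) ∧
    ∃ a : (ClSub.quotMod (Scheme.IdealSheafData.vanishingIdeal (⟨{x}, hx⟩ : Closeds X))).presheaf.stalk x, a ≠ 0 := by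
  set I := Scheme.IdealSheafData.vanishingIdeal (⟨{x}, hx⟩ : Closeds X) with hI
  let i := I.subschemeι
  have hsupp : (I.support : Set X) = {x} := by simp [I]
  have hrange : Set.range i = {x} := by rw [Scheme.IdealSheafData.range_subschemeι, hsupp]
  haveI : IsReduced I.subscheme := RedSepLib.isReduced_vanishingIdeal_subscheme _
  haveI : Subsingleton I.subscheme := ⟨fun a b => i.isClosedEmbedding.injective
    ((Set.mem_singleton_iff.1 (hrange.le ⟨a, rfl⟩)).trans (Set.mem_singleton_iff.1 (hrange.le ⟨b, rfl⟩)).symm)⟩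
  obtain ⟨z, hz⟩ : x ∈ Set.range i := by rw [hrange]; rfl
  have haux := quot_point_aux (X := X) I z
  revert haux
  generalize hy : (I.subschemeι z) = y
  have hyx : y = x := hy.symm.trans hz
  intro haux
  clear hy
  subst hyx
  exact haux

/-- An invertible module with no twisted-down `H¹` above a closed point, generated there. -/
theorem CurveLike.exists_generating_section [IsIntegral X] (hX : CurveLike k X)
    (h0 : Module.finrank k (Coh.HH X (Coh.structureModule X) 0) = 1) {L : X.Modules} (hL : PicF.IsInvertible L)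
    (hdeg : 2 * (Curv2.genus k X : ℤ) ≤ Curv2.deg k X L 1) {x : X} (hx : IsClosed ({x} : Set X)) :
    ∃ s : Γ(L, (⊤ : X.Opens)), ∀ a : L.presheaf.stalk x, ∃ c : X.presheaf.stalk x,
      c • (L.presheaf.germ ⊤ x trivial s : L.presheaf.stalk x) = a := by
  haveI := hX.noetherian
  let Z := Scheme.IdealSheafData.vanishingIdeal (⟨{x}, hx⟩ : Closeds X)
  have hZ : topologicalKrullDim (Z.support : Set X) ≤ 0 := by
    rw [show (Z.support : Set X) = ({x} : Set X) by simp [Z]]
    haveI : DiscreteTopology ({x} : Set X) := Subsingleton.discreteTopology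
    exact topologicalKrullDim_zero_of_discreteTopology _
  obtain ⟨hrk, -, hd⟩ := hX.twist_data hL Z hZ
  obtain ⟨hkill, a₀, ha₀⟩ := quot_point_props hx
  obtain ⟨S, hsupp⟩ := exists_suppIn_quotMod Z hZ
  have hd0 : 0 < Module.finrank k (Coh.HH X (ClSub.quotMod Z) 0) := by
    haveI := hX.fin _ (isCoh_quotMod Z) 0
    rw [Module.finrank_pos_iff]
    by_contra hsub
    rw [not_nontrivial_iff_subsingleton] at hsub
    classical
    have hxS : x ∈ S := by_contra fun h => ha₀ (hsupp.zero x h a₀)
    obtain ⟨w, hw⟩ := (hsupp.h0Equiv k).surjective fun y : S =>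
      if h : (y : X) = x then h.symm ▸ a₀ else 0
    have h2 := congrFun hw ⟨x, hxS⟩
    rw [dif_pos rfl, Subsingleton.elim w 0, map_zero] at h2
    exact ha₀ h2.symm
  by_contra hno
  push Not at hno
  have h1 := (isInvertible_iff_isFinLocFreeOfRank_one L).1 hL
  obtain ⟨e⟩ := nonempty_stalk_equiv h1 x
  have hmax : ∀ s : Γ(L, (⊤ : X.Opens)), e (L.presheaf.germ ⊤ x trivial s) 0 ∈ IsLocalRing.maximalIdeal (X.presheaf.stalk x) := by
    intro s
    by_contra hu
    rw [IsLocalRing.mem_maximalIdeal, mem_nonunits_iff, not_not] at hu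
    obtain ⟨a, ha⟩ := hno s
    obtain ⟨v, hv⟩ := hu
    refine ha (e a 0 * ↑v⁻¹) (e.injective (funext fun i => ?_))
    rw [Fin.fin_one_eq_zero i, map_smul, Pi.smul_apply, smul_eq_mul, ← hv, mul_assoc, Units.inv_mul, mul_one]
  -- the map `H⁰(L) → H⁰(O_Z ⊗ L)` vanishes
  let S₀ := (ShortComplex.mk (ClSub.idealModι Z) (ClSub.toSubscheme Z) (kernel.condition _)).map (tensorR L)
  have hS₀ : S₀.ShortExact := twistSES hL Z
  have hgz : ∀ w : Coh.HH X S₀.X₂ 0, hmap k S₀.g 0 w = 0 := by
    intro w
    refine (hh0 S₀.X₃).injective ?_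
    rw [map_zero, hh0_hmap]
    refine (hsupp.tensor L).section_ext _ _ fun y hy _ => ?_
    refine Eq.trans ?_ (map_zero _).symm
    by_cases hyx : y = x
    · subst hyx
      obtain ⟨t, ht⟩ : ∃ t : Γ(L, (⊤ : X.Opens)), (tensorLUnit L).inv.app ⊤ t = hh0 S₀.X₂ w :=
        ⟨(tensorLUnit L).hom.app ⊤ (hh0 S₀.X₂ w), by
          show ((tensorLUnit L).hom ≫ (tensorLUnit L).inv).app ⊤ (hh0 S₀.X₂ w) = _
          rw [(tensorLUnit L).hom_inv_id]; rfl⟩
      let ψ := stalkLin ((tensorLUnit L).inv ≫ S₀.g) y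
      have hz : ψ (L.presheaf.germ ⊤ y trivial t) = S₀.X₃.presheaf.germ ⊤ y trivial (S₀.g.app ⊤ (hh0 S₀.X₂ w)) := by
        show (stalkAb y).map _ (L.presheaf.germ ⊤ y trivial t) = _
        rw [germ_naturality, ← ht]
        rfl
      refine hz.symm.trans ?_
      have ht' : (L.presheaf.germ ⊤ y trivial t : L.presheaf.stalk y) =
          e (L.presheaf.germ ⊤ y trivial t) 0 • e.symm 1 := by
        apply e.injective
        funext i
        rw [Fin.fin_one_eq_zero i, map_smul, LinearEquiv.apply_symm_apply, Pi.smul_apply, Pi.one_apply, smul_eq_mul, mul_one]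
      rw [ht', map_smul]
      refine (stalkEquiv (ClSub.quotMod Z) L y).injective ?_
      refine ((stalkEquiv (ClSub.quotMod Z) L y).map_smul _ _).trans (Eq.trans ?_ (map_zero _).symm)
      induction stalkEquiv (ClSub.quotMod Z) L y (ψ (e.symm 1)) using TensorProduct.induction_on with
      | zero => exact smul_zero _
      | tmul p q => rw [TensorProduct.smul_tmul', hkill _ (hmax t), TensorProduct.zero_tmul]
      | add p q hp hq => rw [smul_add, hp, hq, add_zero]
    · have : SuppIn (ClSub.quotMod Z) ({x} : Finset X) := ⟨fun z hz => by rw [Finset.mem_singleton.1 hz]; exact hx,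
        fun z hz a => eq_zero_stalk_push Z.subschemeι _ (fun hr => hz (by
          rw [Scheme.IdealSheafData.range_subschemeι] at hr
          rw [Finset.mem_singleton]
          simpa [Z] using hr)) a⟩
      exact (this.tensor L).zero y (by simpa using hyx) _
  have hcohL := isCoh_of_ofRank h1
  haveI := hX.fin L hcohL 0
  haveI := hX.fin _ hrk.coh 0
  haveI := hX.fin _ hrk.coh 1
  have hle : Module.finrank k (Coh.HH X L 0) ≤ Module.finrank k (Coh.HH X (CohB1.tensorMod (ClSub.idealMod Z) L) 0) := by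
    rw [← (hequiv k (tensorLUnit L) 0).finrank_eq]
    exact LinearMap.finrank_le_finrank_of_surjective (f := hmap k S₀.f 0)
      fun w => (exact_hmap_hmap k hS₀ 0 w).1 (hgz w)
  have hrrL := hX.rr hcohL
  haveI := hX.h1_subsingleton_of_deg (rkOne_of_invertible hX.dim hL) h0 (by linarith)
  rw [Module.finrank_zero_of_subsingleton (M := Coh.HH X L 1), h0] at hrrL
  have hrrF := hX.rr hrk.coh
  rw [h0, hd] at hrrF
  by_cases hn : Nontrivial (Coh.HH X (CohB1.tensorMod (ClSub.idealMod Z) L) 1)
  · have := hX.h0_le_genus_of_h1 hrk hn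
    omega
  · rw [not_nontrivial_iff_subsingleton] at hn
    rw [Module.finrank_zero_of_subsingleton (M := Coh.HH X (CohB1.tensorMod (ClSub.idealMod Z) L) 1)] at hrrF
    omega

/-- `deg L ≥ 2g` implies global generation. -/
theorem CurveLike.isGloballyGenerated [IsIntegral X] (hX : CurveLike k X)
    (h0 : Module.finrank k (Coh.HH X (Coh.structureModule X) 0) = 1) {L : X.Modules} (hL : PicF.IsInvertible L)
    (hdeg : 2 * (Curv2.genus k X : ℤ) ≤ Curv2.deg k X L 1) : Curv2.IsGloballyGenerated L := by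
  haveI := hX.noetherian
  have h1 := (isInvertible_iff_isFinLocFreeOfRank_one L).1 hL
  refine RA.isGloballyGenerated_of_span L fun x => top_le_iff.1 fun a _ => ?_
  by_cases hx : IsClosed ({x} : Set X)
  · obtain ⟨s, hs⟩ := hX.exists_generating_section h0 hL hdeg hx
    obtain ⟨c, rfl⟩ := hs a
    exact Submodule.smul_mem _ c (Submodule.subset_span ⟨s, rfl⟩)
  · obtain rfl : x = genericPoint X :=
      (Curve17.eq_of_specializes hX.dim hx (genericPoint_specializes x)).symm
    have hpos : Nontrivial (Coh.HH X L 0) := by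
      by_contra h
      rw [not_nontrivial_iff_subsingleton] at h
      haveI := hX.h1_subsingleton_of_deg (rkOne_of_invertible (by haveI := hX.noetherian; exact hX.dim) hL) h0 (by linarith)
      have := hX.rr (isCoh_of_ofRank h1)
      rw [h0, Module.finrank_zero_of_subsingleton (M := Coh.HH X L 1), Module.finrank_zero_of_subsingleton (M := Coh.HH X L 0)] at this
      omega
    obtain ⟨z, hz⟩ := exists_ne (0 : Coh.HH X L 0)
    obtain ⟨b, hb⟩ := surjective_stalkLin_genericPoint (nonempty_stalk_equiv_structureModule _)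
      (nonempty_stalk_equiv h1 _) _ (injective_stalk_secHom h1 (hh0_ne_zero hz) (genericPoint X)) a
    obtain ⟨c, -, hc⟩ := stalkLin_secHom (hh0 L z) (genericPoint X) b
    rw [← hb, hc]
    exact Submodule.smul_mem _ c (Submodule.subset_span ⟨hh0 L z, rfl⟩)

end Groth.Agent.CurveCoh17
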