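import Groth.Agent.Lib.CurveCoh17.Section
import Groth.Agent.Lib.CurveCoh17.Twist

/-!
# `h⁰(L) = deg L + 1` with `deg L > 0` forces genus zero
-/

set_option linter.style.haveILetI false
set_option autoImplicit false
set_option maxHeartbeats 800000

universe u

open CategoryTheory TopologicalSpace Opposite CategoryTheory.Limits AlgebraicGeometry TensorProduct

namespace Groth.Agent.CurveCoh17

open Groth.Agent.M1 Groth.Agent.M2

variable {k : Type u} [Field k] {X : Scheme.{u}} [X.Over (Spec (CommRingCat.of k))]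

theorem surjective_stalk_tensorMap {A A' B B' : X.Modules} (f : A ⟶ A') (g : B ⟶ B') (x : X)
    (hf : Function.Surjective (stalkLin f x)) (hg : Function.Surjective (stalkLin g x)) :
    Function.Surjective (stalkLin (tensorMap f g) x) := by
  intro a
  obtain ⟨z, rfl⟩ := (stalkEquiv A' B' x).symm.surjective a
  induction z using TensorProduct.induction_on with
  | zero => exact ⟨0, by simp⟩
  | add p q hp hq =>
    obtain ⟨a, ha⟩ := hp
    obtain ⟨b, hb⟩ := hq
    exact ⟨a + b, by simp [ha, hb]⟩
  | tmul p q =>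
    obtain ⟨p', hp⟩ := hf p
    obtain ⟨q', hq⟩ := hg q
    obtain ⟨U, hx, s, t, rfl, rfl⟩ := exists_germ_germ x p' q'
    refine ⟨(CohB1.tensorMod A B).presheaf.germ U x hx (tsec A B s t), (stalkEquiv A' B' x).injective ?_⟩
    rw [stalkLin_apply, germ_naturality, tensorMap_tsec, stalkEquiv_tsec, LinearEquiv.apply_symm_apply,
      ← hp, ← hq, stalkLin_apply, stalkLin_apply, germ_naturality, germ_naturality]

theorem surjective_stalkLin_of_isIso {A B : X.Modules} (f : A ⟶ B) [IsIso f] (x : X) :
    Function.Surjective (stalkLin f x) := fun b => (epi_iff_stalk f).1 inferInstance x b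

/-- A section generating at `x` is surjective on stalks there. -/
theorem surjective_stalk_secHom {M : X.Modules} (v : Γ(M, (⊤ : X.Opens))) (x : X)
    (h : ∀ a : M.presheaf.stalk x, ∃ c : X.presheaf.stalk x,
      c • (M.presheaf.germ ⊤ x trivial v : M.presheaf.stalk x) = a) :
    Function.Surjective (stalkLin (secHom v) x) := by
  intro a
  obtain ⟨c, rfl⟩ := h a
  refine ⟨c • (Coh.structureModule X).presheaf.germ ⊤ x trivial (one ⊤), ?_⟩
  rw [map_smul, stalkLin_apply, germ_naturality, secHom_app_one]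

/-- Multiplication by a section, `L^n → L^{n+1}`. -/
noncomputable def mulSec {L : X.Modules} (v : Γ(L, (⊤ : X.Opens))) (n : ℕ) :
    CohB1.tensorPow L n ⟶ CohB1.tensorPow L (n + 1) :=
  (tensorLUnit (CohB1.tensorPow L n)).inv ≫ tensorMap (secHom v) (𝟙 _) ≫ (tensorComm L (CohB1.tensorPow L n)).hom

theorem surjective_stalk_mulSec {L : X.Modules} (v : Γ(L, (⊤ : X.Opens))) (n : ℕ) (x : X)
    (h : ∀ a : L.presheaf.stalk x, ∃ c : X.presheaf.stalk x,
      c • (L.presheaf.germ ⊤ x trivial v : L.presheaf.stalk x) = a) :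
    Function.Surjective (stalkLin (mulSec v n) x) := by
  intro a
  obtain ⟨a₁, rfl⟩ := surjective_stalkLin_of_isIso (tensorComm L (CohB1.tensorPow L n)).hom x a
  obtain ⟨a₂, rfl⟩ := surjective_stalk_tensorMap (secHom v) (𝟙 (CohB1.tensorPow L n)) x
    (surjective_stalk_secHom v x h) (surjective_stalkLin_of_isIso _ x) a₁
  obtain ⟨a₃, rfl⟩ := surjective_stalkLin_of_isIso (tensorLUnit (CohB1.tensorPow L n)).inv x a₂
  exact ⟨a₃, by rw [mulSec, stalkLin_comp, stalkLin_comp]; rfl⟩

/-- Equality in `h⁰(L) ≤ deg L + 1` for positive degree forces genus zero. -/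
theorem CurveLike.genus_eq_zero_of_h0_eq_deg_add_one [IsIntegral X] (hX : CurveLike k X)
    (h0 : Module.finrank k (Coh.HH X (Coh.structureModule X) 0) = 1) {L : X.Modules} (hL : PicF.IsInvertible L)
    (he : (Module.finrank k (Coh.HH X L 0) : ℤ) = Curv2.deg k X L 1 + 1) (hd : 0 < Curv2.deg k X L 1) :
    Curv2.genus k X = 0 := by
  classical
  haveI := hX.noetherian
  have hR := rkOne_of_invertible hX.dim hL
  haveI := hX.fin L hR.coh 0
  have hs : Nontrivial (Coh.HH X L 0) := Module.nontrivial_of_finrank_pos (R := k) (by omega)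
  obtain ⟨z, hz⟩ := exists_ne (0 : Coh.HH X L 0)
  let s := hh0 L z
  obtain ⟨hm, S, hS⟩ := hR.sec s (hh0_ne_zero hz)
  haveI := hm
  have hT := secSC_shortExact s
  let Q : X.Modules := cokernel (secHom s)
  have aO := hX.adm (isCoh_structureModule (X := X))
  have aL := hX.adm hR.coh
  have aQ : Adm k Q := adm₃ hT aO aL
  have hfinQ := aQ.fin 0
  let d := Module.finrank k (Coh.HH X Q 0)
  have hdeg : Curv2.deg k X L 1 = d := by
    have := euler_add hT aO aQ
    rw [hS.euler_eq hfinQ] at this
    rw [Curv2.deg, this]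
    push_cast
    ring
  have hpow : ∀ n, FlatMod.IsFinLocFreeOfRank 1 (CohB1.tensorPow L n) := fun n =>
    (isInvertible_iff_isFinLocFreeOfRank_one _).1 (isInvertible_tensorPow hL n)
  let T : ℕ → ShortComplex X.Modules := fun n => (secSC s).map (tensorR (CohB1.tensorPow L n))
  have hTn : ∀ n, (T n).ShortExact := fun n => shortExact_tensorR hT _ fun x =>
    Module.Flat.of_linearEquiv (nonempty_stalk_equiv (hpow n) x).some
  have hdn : ∀ n, Module.finrank k (Coh.HH X (T n).X₃ 0) = d := fun n =>
    (hS.finrank_tensor hfinQ (CohB1.tensorPow L n) (nonempty_stalk_equiv (hpow n))).trans (one_mul _)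
  have e1 : ∀ n, Module.finrank k (Coh.HH X (T n).X₁ 0) = Module.finrank k (Coh.HH X (CohB1.tensorPow L n) 0) :=
    fun n => (hequiv k (tensorLUnit (CohB1.tensorPow L n)) 0).finrank_eq
  have e2 : ∀ n, Module.finrank k (Coh.HH X (T n).X₂ 0) = Module.finrank k (Coh.HH X (CohB1.tensorPow L (n + 1)) 0) :=
    fun n => (hequiv k (tensorComm L (CohB1.tensorPow L n)) 0).finrank_eq
  have hfin2 : ∀ n, Module.Finite k (Coh.HH X (T n).X₂ 0) := fun n =>
    hX.fin _ (isCoh_of_ofRank ((isInvertible_iff_isFinLocFreeOfRank_one _).1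
      (isInvertible_tensor hL (isInvertible_tensorPow hL n)))) 0
  have hfin3 : ∀ n, Module.Finite k (Coh.HH X (T n).X₃ 0) := fun n =>
    hS.finite_tensor hfinQ (CohB1.tensorPow L n) (nonempty_stalk_equiv (hpow n))
  have hexn : ∀ n, Module.finrank k (Coh.HH X (T n).X₂ 0) =
      Module.finrank k (Coh.HH X (T n).X₁ 0) + Module.finrank k (LinearMap.range (hmap k (T n).g 0)) := fun n => by
    haveI := hfin2 n
    rw [finrank_eq_range_add_range _ _ (exact_hmap_hmap k (hTn n) 0),
      LinearMap.finrank_range_of_inj (hmap_f_injective k (hTn n))]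
  have hsurjL : Function.Surjective (hmap k (cokernel.π (secHom s)) 0) := by
    refine LinearMap.range_eq_top.1 (Submodule.eq_top_of_finrank_eq ?_)
    have h1 := finrank_eq_range_add_range _ _ (exact_hmap_hmap k hT 0)
    rw [LinearMap.finrank_range_of_inj (hmap_f_injective k hT), h0] at h1
    have h1' : Module.finrank k (Coh.HH X L 0) =
      1 + Module.finrank k (LinearMap.range (hmap k (cokernel.π (secHom s)) 0)) := h1
    have hdd : d = Module.finrank k (Coh.HH X (cokernel (secHom s)) 0) := rfl
    omega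
  have hgen : ∀ x : X, ∃ v : Γ(L, (⊤ : X.Opens)), ∀ a : L.presheaf.stalk x, ∃ c : X.presheaf.stalk x,
      c • (L.presheaf.germ ⊤ x trivial v : L.presheaf.stalk x) = a := by
    intro x
    obtain ⟨e⟩ := nonempty_stalk_equiv ((isInvertible_iff_isFinLocFreeOfRank_one _).1 hL) x
    have key : ∀ v : Γ(L, (⊤ : X.Opens)), IsUnit (e (L.presheaf.germ ⊤ x trivial v) 0) →
        ∀ a : L.presheaf.stalk x, ∃ c : X.presheaf.stalk x,
          c • (L.presheaf.germ ⊤ x trivial v : L.presheaf.stalk x) = a := fun v hu a =>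
      ⟨e a 0 * hu.unit⁻¹.1, e.injective (funext fun i => by
        rw [Fin.fin_one_eq_zero i, map_smul, Pi.smul_apply, smul_eq_mul, mul_assoc, IsUnit.val_inv_mul, mul_one])⟩
    by_cases hu : IsUnit (e (L.presheaf.germ ⊤ x trivial s) 0)
    · exact ⟨s, key s hu⟩
    · let b : Q.presheaf.stalk x := stalkLin (cokernel.π (secHom s)) x (e.symm 1)
      obtain ⟨t, ht⟩ : ∃ t : Γ(Q, (⊤ : X.Opens)), Q.presheaf.germ ⊤ x trivial t = b := by
        by_cases hxS : x ∈ S
        · obtain ⟨t, ht⟩ := hS.exists_section ⊤ fun y => if h : y = x then h ▸ b else 0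
          have h1 := ht x hxS trivial
          rw [dif_pos rfl] at h1
          exact ⟨t, h1⟩
        · exact ⟨0, (map_zero _).trans (hS.zero x hxS b).symm⟩
      obtain ⟨w, hw⟩ := hsurjL ((hh0 Q).symm t)
      have hv : stalkLin (cokernel.π (secHom s)) x (L.presheaf.germ ⊤ x trivial (hh0 L w) - e.symm 1) = 0 := by
        rw [map_sub, sub_eq_zero, stalkLin_apply, germ_naturality, ← hh0_hmap (A := k), hw,
          AddEquiv.apply_symm_apply]
        exact ht
      obtain ⟨a, ha⟩ := (exact_iff_stalk_eq_zero (secSC s)).1 hT.exact x _ hv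
      obtain ⟨c, -, hc⟩ := stalkLin_secHom s x a
      have h2 : L.presheaf.germ ⊤ x trivial (hh0 L w) - e.symm 1 = c • L.presheaf.germ ⊤ x trivial s :=
        ha.symm.trans hc
      refine ⟨hh0 L w, key _ ?_⟩
      rw [sub_eq_iff_eq_add.1 h2, map_add, map_smul, Pi.add_apply, Pi.smul_apply, LinearEquiv.apply_symm_apply,
        Pi.one_apply, smul_eq_mul, add_comm]
      by_contra hn
      have hq : c * e (L.presheaf.germ ⊤ x trivial s) 0 ∈ IsLocalRing.maximalIdeal (X.presheaf.stalk x) :=
        Ideal.mul_mem_left _ _ ((IsLocalRing.mem_maximalIdeal _).2 hu)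
      have h1 := Ideal.sub_mem _ ((IsLocalRing.mem_maximalIdeal _).2 hn) hq
      rw [add_sub_cancel_right] at h1
      exact (IsLocalRing.maximalIdeal.isMaximal _).ne_top ((Ideal.eq_top_iff_one _).2 h1)
  have hsurj : ∀ n, Function.Surjective (hmap k (T n).g 0) := by
    intro n
    induction n with
    | zero =>
      haveI := hfin3 0
      refine LinearMap.range_eq_top.1 (Submodule.eq_top_of_finrank_eq ?_)
      have h1 := hexn 0
      have h2 : Module.finrank k (Coh.HH X (CohB1.tensorPow L 1) 0) = Module.finrank k (Coh.HH X L 0) :=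
        (hequiv k (tensorLUnit L) 0).finrank_eq
      have h3 : Module.finrank k (Coh.HH X (CohB1.tensorPow L 0) 0) = 1 := h0
      rw [e1, e2, h2, h3] at h1
      rw [hdn 0]
      omega
    | succ n ih =>
      have hsupp := hS.tensor (CohB1.tensorPow L (n + 1))
      let R := LinearMap.range (hmap k (T (n + 1)).g 0)
      have key : ∀ (y : S) (b : (CohB1.tensorMod Q (CohB1.tensorPow L (n + 1))).presheaf.stalk (y : X)),
          (hsupp.h0Equiv k).symm (Pi.single y b) ∈ R := by
        intro y b
        obtain ⟨v, hv⟩ := hgen (y : X)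
        obtain ⟨b', hb'⟩ := surjective_stalk_tensorMap (𝟙 Q) (mulSec v n) (y : X)
          (surjective_stalkLin_of_isIso _ _) (surjective_stalk_mulSec v n _ hv) b
        obtain ⟨w, hw⟩ := ih (((hS.tensor (CohB1.tensorPow L n)).h0Equiv k).symm (Pi.single y b'))
        refine ⟨hmap k (tensorMap (𝟙 L) (mulSec v n)) 0 w, ?_⟩
        apply (hsupp.h0Equiv k).injective
        rw [LinearEquiv.apply_symm_apply]
        have hcomm : tensorMap (𝟙 L) (mulSec v n) ≫ (T (n + 1)).g =
            (T n).g ≫ tensorMap (𝟙 Q) (mulSec v n) := by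
          show tensorMap _ _ ≫ tensorMap (cokernel.π (secHom s)) (𝟙 _) = tensorMap (cokernel.π (secHom s)) (𝟙 _) ≫ _
          rw [← tensorMap_comp, ← tensorMap_comp, Category.id_comp, Category.comp_id, Category.comp_id,
            Category.id_comp]
        refine (congrArg (hsupp.h0Equiv k) ((hmap_comp k (tensorMap (𝟙 L) (mulSec v n)) (T (n + 1)).g 0 w).symm.trans
          ((congrArg (fun φ => hmap k φ 0 w) hcomm).trans
            ((hmap_comp k (T n).g (tensorMap (𝟙 Q) (mulSec v n)) 0 w).trans
              (congrArg (hmap k (tensorMap (𝟙 Q) (mulSec v n)) 0) hw))))).trans ?_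
        funext y'
        show (CohB1.tensorMod Q (CohB1.tensorPow L (n + 1))).presheaf.germ ⊤ (y' : X) trivial (hh0 _ (hmap k _ 0 _)) = _
        rw [hh0_hmap, ← germ_naturality]
        have hyy := congrFun (((hS.tensor (CohB1.tensorPow L n)).h0Equiv k).apply_symm_apply (Pi.single y b')) y'
        refine (congrArg (fun q => (stalkAb (y' : X)).map (tensorMap (𝟙 Q) (mulSec v n)) q) hyy).trans ?_
        by_cases hy : y' = y
        · subst hy
          rw [Pi.single_eq_same, Pi.single_eq_same]
          exact hb'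
        · rw [Pi.single_eq_of_ne hy, Pi.single_eq_of_ne hy]
          exact map_zero (stalkLin (tensorMap (𝟙 Q) (mulSec v n)) (y' : X))
      intro x
      have hx : x ∈ R := by
        rw [← (hsupp.h0Equiv k).symm_apply_apply x, ← Finset.univ_sum_single ((hsupp.h0Equiv k) x), map_sum]
        exact R.sum_mem fun y _ => key y _
      exact hx
  have hrec : ∀ n, Module.finrank k (Coh.HH X (CohB1.tensorPow L (n + 1)) 0) =
      Module.finrank k (Coh.HH X (CohB1.tensorPow L n) 0) + d := fun n => by
    have h1 := hexn n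
    rw [e1, e2, LinearMap.range_eq_top.2 (hsurj n), finrank_top, hdn] at h1
    exact h1
  have hh0n : ∀ n, Module.finrank k (Coh.HH X (CohB1.tensorPow L n) 0) = n * d + 1 := by
    intro n
    induction n with
    | zero => rw [Nat.zero_mul, zero_add]; exact h0
    | succ n ih => rw [hrec, ih]; ring
  have hdegn : ∀ n, Curv2.deg k X (CohB1.tensorPow L n) 1 = n * d := by
    intro n
    induction n with
    | zero =>
      show Curv2.euler k X (Coh.structureModule X) - _ = _
      push_cast; ring
    | succ n ih =>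
      have a1 : Adm k (T n).X₁ := hX.adm (isCoh_of_ofRank ((isInvertible_iff_isFinLocFreeOfRank_one _).1
        (isInvertible_tensor (PicLoc.isInvertible_structureModule X) (isInvertible_tensorPow hL n))))
      have a3 : Adm k (T n).X₃ := (hS.tensor _).adm (hfin3 n)
      have h1 := euler_add (hTn n) a1 a3
      have h2 : Curv2.euler k X (T n).X₃ = d := by rw [← hdn n]; exact (hS.tensor _).euler_eq (hfin3 n)
      have h3 : Curv2.euler k X (T n).X₂ = Curv2.euler k X (CohB1.tensorPow L (n + 1)) :=
        euler_iso (tensorComm L (CohB1.tensorPow L n))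
      have h4 : Curv2.euler k X (T n).X₁ = Curv2.euler k X (CohB1.tensorPow L n) :=
        euler_iso (tensorLUnit (CohB1.tensorPow L n))
      rw [Curv2.deg] at ih ⊢
      rw [← h3]
      rw [← h4] at ih
      push_cast at ih ⊢
      linarith
  obtain ⟨N, hN⟩ : ∃ N : ℕ, 2 * (Curv2.genus k X : ℤ) - 2 < N * d := by
    refine ⟨2 * Curv2.genus k X + 1, ?_⟩
    have : (1 : ℤ) ≤ d := by omega
    push_cast
    nlinarith
  have hRN := rkOne_of_invertible hX.dim (isInvertible_tensorPow hL N)
  haveI := hX.h1_subsingleton_of_deg hRN h0 (by rw [hdegn]; exact hN)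
  have hrr := hX.rr hRN.coh
  rw [hdegn, hh0n, h0, Module.finrank_zero_of_subsingleton (M := Coh.HH X (CohB1.tensorPow L N) 1)] at hrr
  push_cast at hrr
  omega

end Groth.Agent.CurveCoh17
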