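import Groth.Agent.Lib.CurveCoh17.RegPoint
import Groth.Agent.Lib.Curve17.ProjSep
import Groth.Agent.Lib.VB17.GlobGen
import Groth.Agent.S3572

/-!
# The two-point criterion for closed immersions of curves into projective space
-/

set_option linter.style.haveILetI false
set_option autoImplicit false
set_option maxHeartbeats 1600000

universe u

open CategoryTheory TopologicalSpace Opposite CategoryTheory.Limits AlgebraicGeometry

namespace Groth.Agent.CurveCoh17

open Groth.Agent.M1 Groth.Agent.M2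

variable {k : Type u} [Field k] {X : Scheme.{u}} [X.Over (Spec (CommRingCat.of k))] {x : X} {L : X.Modules}

/-- The inclusion `I_x ⊗ L → L`. -/
noncomputable abbrev pointIncl (hx : IsClosed ({x} : Set X)) (L : X.Modules) : (pointSC hx L).X₁ ⟶ L :=
  (pointSC hx L).f ≫ (tensorLUnit L).hom

theorem exact_pointIncl (hL : PicF.IsInvertible L) (hx : IsClosed ({x} : Set X)) (w : Coh.HH X L 0) :
    atPoint k hx L w = 0 ↔ ∃ a, hmap k (pointIncl hx L) 0 a = w := by
  have hS : (pointSC hx L).ShortExact := twistSES hL _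
  have hw : ∀ v, hmap k (tensorLUnit L).hom 0 (hmap k (tensorLUnit L).inv 0 v) = v :=
    fun v => (hequiv k (tensorLUnit L) 0).apply_symm_apply v
  have hw' : ∀ v, hmap k (tensorLUnit L).inv 0 (hmap k (tensorLUnit L).hom 0 v) = v :=
    fun v => (hequiv k (tensorLUnit L) 0).symm_apply_apply v
  constructor
  · intro h
    rw [atPoint, hmap_comp] at h
    obtain ⟨a, ha⟩ := (exact_hmap_hmap k hS 0 _).1 h
    refine ⟨a, ?_⟩
    rw [hmap_comp, ha]
    exact hw w
  · rintro ⟨a, rfl⟩
    rw [atPoint, hmap_comp, hmap_comp]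
    refine (congrArg _ (hw' _)).trans ?_
    exact (exact_hmap_hmap k hS 0 _).2 ⟨a, rfl⟩

/-- At the point, the kernel of restriction is `m L`. -/
theorem stalk_pointSC_eq_zero_iff (hL : PicF.IsInvertible L) (hx : IsClosed ({x} : Set X))
    (a : L.presheaf.stalk x) :
    stalkLin ((tensorLUnit L).inv ≫ (pointSC hx L).g) x a = 0 ↔
      a ∈ IsLocalRing.maximalIdeal (X.presheaf.stalk x) • (⊤ : Submodule (X.presheaf.stalk x) (L.presheaf.stalk x)) := by
  have h1 := (isInvertible_iff_isFinLocFreeOfRank_one L).1 hL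
  obtain ⟨e⟩ := nonempty_stalk_equiv h1 x
  set Z := Scheme.IdealSheafData.vanishingIdeal (⟨{x}, hx⟩ : Closeds X)
  obtain ⟨hkill, a₀, ha₀⟩ := quot_point_props hx
  let ψ := stalkLin ((tensorLUnit L).inv ≫ (pointSC hx L).g) x
  have hψkill : ∀ r ∈ IsLocalRing.maximalIdeal (X.presheaf.stalk x), ∀ a, r • ψ a = 0 := fun r hr a => by
    refine (stalkEquiv (ClSub.quotMod Z) L x).injective ?_
    refine ((stalkEquiv (ClSub.quotMod Z) L x).map_smul _ _).trans (Eq.trans ?_ (map_zero _).symm)
    induction stalkEquiv (ClSub.quotMod Z) L x (ψ a) using TensorProduct.induction_on with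
    | zero => exact smul_zero _
    | tmul p q => rw [TensorProduct.smul_tmul', hkill _ hr, TensorProduct.zero_tmul]
    | add p q hp hq => rw [smul_add, hp, hq, add_zero]
  have hb : ∀ b : L.presheaf.stalk x, b = e b 0 • e.symm 1 := fun b => e.injective (funext fun i => by
    rw [Fin.fin_one_eq_zero i, map_smul, LinearEquiv.apply_symm_apply, Pi.smul_apply, Pi.one_apply, smul_eq_mul, mul_one])
  constructor
  · intro h
    rw [hb a]
    refine Submodule.smul_mem_smul ?_ trivial
    by_contra hu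
    rw [IsLocalRing.mem_maximalIdeal, mem_nonunits_iff, not_not] at hu
    obtain ⟨v, hv⟩ := hu
    have h1' : ψ (e.symm 1) = 0 := by
      have h' : ψ a = 0 := h
      rw [hb a, ← hv, map_smul] at h'
      have := congrArg (fun z => (↑v⁻¹ : X.presheaf.stalk x) • z) h'
      simpa [smul_smul] using this
    haveI : Epi ((tensorLUnit L).inv ≫ (pointSC hx L).g) :=
      @epi_comp _ _ _ _ _ _ inferInstance _ (twistSES hL Z).epi_g
    obtain ⟨b, hb'⟩ := (epi_iff_stalk ((tensorLUnit L).inv ≫ (pointSC hx L).g)).1 inferInstance x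
      ((stalkTensorPi (ClSub.quotMod Z) L x e).symm fun _ => a₀)
    have h0 : ψ b = 0 := by rw [hb b, map_smul, h1', smul_zero]
    exact ha₀ (congrFun ((stalkTensorPi (ClSub.quotMod Z) L x e).symm.injective
      ((hb'.symm.trans h0).trans (map_zero _).symm)) 0)
  · intro h
    show ψ a = 0
    induction h using Submodule.smul_induction_on' with
    | smul r hr b _ => rw [map_smul]; exact hψkill r hr b
    | add b _ c _ hb hc => rw [map_add, hb, hc, add_zero]

theorem germ_atPoint (hx : IsClosed ({x} : Set X)) (w : Coh.HH X L 0) :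
    ((pointSC hx L).X₃.presheaf.germ ⊤ x trivial (hh0 _ (atPoint k hx L w)) :
      (pointSC hx L).X₃.presheaf.stalk x) =
      stalkLin ((tensorLUnit L).inv ≫ (pointSC hx L).g) x (L.presheaf.germ ⊤ x trivial (hh0 L w)) := by
  rw [atPoint, hh0_hmap]
  exact (germ_naturality _ _ _ _ _).symm

/-- A section vanishes at the point iff it comes from `I_x ⊗ L`. -/
theorem germ_mem_iff (hL : PicF.IsInvertible L) (hx : IsClosed ({x} : Set X)) (w : Coh.HH X L 0) :
    (L.presheaf.germ ⊤ x trivial (hh0 L w) : L.presheaf.stalk x) ∈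
        IsLocalRing.maximalIdeal (X.presheaf.stalk x) • (⊤ : Submodule (X.presheaf.stalk x) (L.presheaf.stalk x)) ↔
      ∃ a, hmap k (pointIncl hx L) 0 a = w := by
  rw [← exact_pointIncl (k := k) hL hx, ← stalk_pointSC_eq_zero_iff hL hx, ← germ_atPoint (k := k) hx w]
  constructor
  · intro h
    refine (hh0 _).injective ?_
    rw [map_zero]
    refine ((suppIn_quotMod_point hx).tensor L).section_ext _ _ fun y hy _ => ?_
    obtain rfl := Finset.mem_singleton.1 hy
    exact h.trans (map_zero _).symm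
  · intro h
    rw [h, map_zero, map_zero]

theorem mem_smul_top_congr {M N : X.Modules} (e : M ≅ N) (P : X) (a : M.presheaf.stalk P) :
    stalkLin e.hom P a ∈
        IsLocalRing.maximalIdeal (X.presheaf.stalk P) • (⊤ : Submodule (X.presheaf.stalk P) (N.presheaf.stalk P)) ↔
      a ∈ IsLocalRing.maximalIdeal (X.presheaf.stalk P) • (⊤ : Submodule (X.presheaf.stalk P) (M.presheaf.stalk P)) := by
  have key : ∀ {M N : X.Modules} (f : M ⟶ N) (b : M.presheaf.stalk P),
      b ∈ IsLocalRing.maximalIdeal (X.presheaf.stalk P) • (⊤ : Submodule (X.presheaf.stalk P) (M.presheaf.stalk P)) →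
      stalkLin f P b ∈ IsLocalRing.maximalIdeal (X.presheaf.stalk P) • (⊤ : Submodule (X.presheaf.stalk P) (N.presheaf.stalk P)) := by
    intro M N f b hb
    induction hb using Submodule.smul_induction_on' with
    | smul r hr c _ => rw [map_smul]; exact Submodule.smul_mem_smul hr trivial
    | add b _ c _ hb hc => rw [map_add]; exact add_mem hb hc
  refine ⟨fun h => ?_, key e.hom a⟩
  have h' := key e.inv _ h
  rw [← stalkLin_comp, e.hom_inv_id] at h'
  have hid : stalkLin (𝟙 M) P a = a := by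
    show (stalkAb P).map (𝟙 M) a = a
    rw [CategoryTheory.Functor.map_id]
    rfl
  rwa [hid] at h'

/-- Twisting drops `h⁰` by at most one. -/
theorem CurveLike.h0_le_twist_add_one [IsAlgClosed k] [LocallyOfFiniteType (X ↘ Spec (CommRingCat.of k))]
    (hX : CurveLike k X) (hL : PicF.IsInvertible L) (hx : IsClosed ({x} : Set X)) :
    Module.finrank k (Coh.HH X L 0) ≤ Module.finrank k (Coh.HH X (CohB1.tensorMod L
      (ClSub.idealMod (Scheme.IdealSheafData.vanishingIdeal (⟨{x}, hx⟩ : Closeds X)))) 0) + 1 := by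
  obtain ⟨h1, h2⟩ := finrank_twist_point hX hL hx
  rw [finrank_residueField hx] at h1
  omega

/-- If `h⁰` drops by one at `x` some section spans there. -/
theorem CurveLike.exists_span_of_drop [IsAlgClosed k] [LocallyOfFiniteType (X ↘ Spec (CommRingCat.of k))]
    (hX : CurveLike k X) (hL : PicF.IsInvertible L) (hx : IsClosed ({x} : Set X))
    (h : Module.finrank k (Coh.HH X L 0) = Module.finrank k (Coh.HH X (CohB1.tensorMod L
      (ClSub.idealMod (Scheme.IdealSheafData.vanishingIdeal (⟨{x}, hx⟩ : Closeds X)))) 0) + 1) :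
    ∃ t : Γ(L, (⊤ : X.Opens)), Submodule.span (X.presheaf.stalk x)
      ({(L.presheaf.germ ⊤ x trivial t : L.presheaf.stalk x)} : Set (L.presheaf.stalk x)) = ⊤ := by
  refine (atPoint_ne_zero_iff (k := k) hL hx).1 fun h0 => ?_
  obtain ⟨-, h2⟩ := finrank_twist_point hX hL hx
  rw [h0, LinearMap.range_zero, finrank_bot] at h2
  omega

/-- The two-point criterion. -/
theorem CurveLike.exists_closedImmersion [IsAlgClosed k] [IsIntegral X] [IsProper (X ↘ Spec (CommRingCat.of k))]
    (hX : CurveLike k X) (hdim : topologicalKrullDim X = 1)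
    (hreg : ∀ x : X, IsRegularLocalRing (X.presheaf.stalk x)) (hL : PicF.IsInvertible L) {n : ℕ}
    (hn : Module.finrank k (Coh.HH X L 0) = n + 1)
    (h : ∀ (P Q : X) (hP : IsClosed ({P} : Set X)) (hQ : IsClosed ({Q} : Set X)),
      Module.finrank k (Coh.HH X (CohB1.tensorMod L (CohB1.tensorMod
        (ClSub.idealMod (Scheme.IdealSheafData.vanishingIdeal (⟨{P}, hP⟩ : Closeds X)))
        (ClSub.idealMod (Scheme.IdealSheafData.vanishingIdeal (⟨{Q}, hQ⟩ : Closeds X))))) 0) + 2 =
      Module.finrank k (Coh.HH X L 0)) :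
    ∃ i : X ⟶ CohB1.ProjSpace n k, IsClosedImmersion i ∧ i ≫ CohB1.ProjSpace.toSpec n k = (X ↘ Spec (CommRingCat.of k)) ∧
      Nonempty ((Scheme.Modules.pullback i).obj (Twist.twistProjSpace n k 1) ≅ L) := by
  haveI := hX.noetherian
  have h1 := (isInvertible_iff_isFinLocFreeOfRank_one L).1 hL
  let I : ∀ (P : X), IsClosed ({P} : Set X) → X.Modules := fun P hP =>
    ClSub.idealMod (Scheme.IdealSheafData.vanishingIdeal (⟨{P}, hP⟩ : Closeds X))
  have hI : ∀ P hP, PicF.IsInvertible (I P hP) := fun P hP => isInvertible_pointIdeal hdim hreg hP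
  have hassoc : ∀ (P Q : X) (hP : IsClosed ({P} : Set X)) (hQ : IsClosed ({Q} : Set X)),
      Module.finrank k (Coh.HH X (CohB1.tensorMod (CohB1.tensorMod L (I P hP)) (I Q hQ)) 0) + 2 =
      Module.finrank k (Coh.HH X L 0) := fun P Q hP hQ => by
    rw [(hequiv k (tensorAssoc L (I P hP) (I Q hQ)) 0).finrank_eq]
    exact h P Q hP hQ
  -- drops
  have hdrop : ∀ (P Q : X) (hP : IsClosed ({P} : Set X)) (hQ : IsClosed ({Q} : Set X)),
      (Module.finrank k (Coh.HH X L 0) = Module.finrank k (Coh.HH X (CohB1.tensorMod L (I P hP)) 0) + 1) ∧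
      Module.finrank k (Coh.HH X (CohB1.tensorMod (I P hP) L) 0) =
        Module.finrank k (Coh.HH X (CohB1.tensorMod (CohB1.tensorMod (I P hP) L) (I Q hQ)) 0) + 1 := fun P Q hP hQ => by
    have e1 := (hequiv k (tensorComm (I P hP) L) 0).finrank_eq
    have e2 := (hequiv k (tensorIso (tensorComm (I P hP) L) (Iso.refl (I Q hQ))) 0).finrank_eq
    have a := hassoc P Q hP hQ
    have b := hX.h0_le_twist_add_one hL hP
    have c := hX.h0_le_twist_add_one (isInvertible_tensor hL (hI P hP)) hQ
    change _ ≤ Module.finrank k (Coh.HH X (CohB1.tensorMod L (I P hP)) 0) + 1 at b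
    change _ ≤ Module.finrank k (Coh.HH X (CohB1.tensorMod (CohB1.tensorMod L (I P hP)) (I Q hQ)) 0) + 1 at c
    constructor <;> omega
  -- sections
  haveI := hX.fin L (isCoh_of_ofRank h1) 0
  let b := Module.finBasisOfFinrankEq k (Coh.HH X L 0) hn
  let s : Fin (n + 1) → ProjUP.Γm L := fun i => hh0 L (b i)
  have hcomb : ∀ t : Γ(L, (⊤ : X.Opens)), ∃ c : Fin (n + 1) → k,
      t = ∑ i, (show Γ(X, ⊤) from Coh.toGlobal (X ↘ Spec (CommRingCat.of k)) (c i)) • (show Γ(L, (⊤ : X.Opens)) from s i) := fun t => by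
    refine ⟨fun i => b.repr ((hh0 L).symm t) i, ?_⟩
    conv_lhs => rw [← (hh0 L).apply_symm_apply t, ← b.sum_repr ((hh0 L).symm t), map_sum]
    exact Finset.sum_congr rfl fun i _ => hh0_smul _ _
  have hgen : ProjUP.GeneratedBy L s := by
    intro y
    have hle : ∀ t : Γ(L, (⊤ : X.Opens)), (L.presheaf.germ ⊤ y trivial t : L.presheaf.stalk y) ∈
        Submodule.span (X.presheaf.stalk y) (Set.range fun i => (L.presheaf.germ ⊤ y trivial).hom (s i)) := fun t => by
      obtain ⟨c, rfl⟩ := hcomb t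
      rw [map_sum]
      refine Submodule.sum_mem _ fun i _ => ?_
      rw [M1.germ_smul]
      exact Submodule.smul_mem _ _ (Submodule.subset_span ⟨i, rfl⟩)
    refine top_le_iff.1 (le_trans ?_ (Submodule.span_le.2 (Set.range_subset_iff.2 hle)))
    have hspan : ∀ (P : X), IsClosed ({P} : Set X) → Submodule.span (X.presheaf.stalk P)
        (Set.range fun t : Γ(L, (⊤ : X.Opens)) => (L.presheaf.germ ⊤ P trivial t : L.presheaf.stalk P)) = ⊤ := fun P hP => by
      obtain ⟨t, ht⟩ := hX.exists_span_of_drop hL hP (hdrop P P hP hP).1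
      exact top_le_iff.1 (ht.ge.trans (Submodule.span_mono (Set.singleton_subset_iff.2 ⟨t, rfl⟩)))
    by_cases hy : IsClosed ({y} : Set X)
    · exact (hspan y hy).ge
    · obtain rfl : y = genericPoint X :=
        (Curve17.eq_of_specializes hX.dim hy (genericPoint_specializes y)).symm
      obtain ⟨P, -, hP⟩ := (isClosed_univ (X := X)).exists_closed_singleton Set.univ_nonempty
      exact (VB17.span_germ_genericPoint_of_span h1 (hspan P hP)).ge
  obtain ⟨r, hr, τ, hτ⟩ := Groth.Agent.S3572.result n (X ↘ Spec (CommRingCat.of k)) L hL s hgen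
  refine ⟨r, ?_, hr, ⟨τ⟩⟩
  have hv : ∀ c : Fin (n + 1) → k, τ.hom.app ⊤ (Curve17.vSec (X ↘ Spec (CommRingCat.of k)) r c) =
      ∑ i, (show Γ(X, ⊤) from Coh.toGlobal (X ↘ Spec (CommRingCat.of k)) (c i)) • (show Γ(L, (⊤ : X.Opens)) from s i) := fun c => by
    refine (map_sum (τ.hom.app ⊤).hom _ _).trans ?_
    refine Finset.sum_congr rfl fun i _ => ?_
    rw [← hτ i]
    exact Scheme.Modules.Hom.app_smul _ _ _
  have hgermv : ∀ (P : X) (c : Fin (n + 1) → k),
      stalkLin τ.hom P ((Curve17.pullTwist r).presheaf.germ ⊤ P trivial (Curve17.vSec (X ↘ Spec (CommRingCat.of k)) r c)) =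
        L.presheaf.germ ⊤ P trivial (τ.hom.app ⊤ (Curve17.vSec (X ↘ Spec (CommRingCat.of k)) r c)) :=
    fun P c => germ_naturality _ _ _ _ _
  have hsurjv : ∀ t : Γ(L, (⊤ : X.Opens)), ∃ c, τ.hom.app ⊤ (Curve17.vSec (X ↘ Spec (CommRingCat.of k)) r c) = t :=
    fun t => by obtain ⟨c, hc⟩ := hcomb t; exact ⟨c, (hv c).trans hc.symm⟩
  -- a section vanishing at `P` spanning the twisted stalk at `Q`
  have hmain : ∀ (P Q : X) (hP : IsClosed ({P} : Set X)), IsClosed ({Q} : Set X) →
      ∃ (c : Fin (n + 1) → k) (t : Γ((pointSC hP L).X₁, (⊤ : X.Opens))),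
        (L.presheaf.germ ⊤ P trivial (τ.hom.app ⊤ (Curve17.vSec (X ↘ Spec (CommRingCat.of k)) r c)) : L.presheaf.stalk P) ∈
          IsLocalRing.maximalIdeal (X.presheaf.stalk P) • (⊤ : Submodule (X.presheaf.stalk P) (L.presheaf.stalk P)) ∧
        (L.presheaf.germ ⊤ Q trivial (τ.hom.app ⊤ (Curve17.vSec (X ↘ Spec (CommRingCat.of k)) r c)) : L.presheaf.stalk Q) =
          stalkLin (pointIncl hP L) Q ((pointSC hP L).X₁.presheaf.germ ⊤ Q trivial t) ∧
        Submodule.span (X.presheaf.stalk Q) ({((pointSC hP L).X₁.presheaf.germ ⊤ Q trivial t :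
          (pointSC hP L).X₁.presheaf.stalk Q)} : Set ((pointSC hP L).X₁.presheaf.stalk Q)) = ⊤ := by
    intro P Q hP hQ
    obtain ⟨t, ht⟩ := hX.exists_span_of_drop (isInvertible_tensor (hI P hP) hL) hQ (hdrop P Q hP hQ).2
    let a := (hh0 (pointSC hP L).X₁).symm t
    obtain ⟨c, hc⟩ := hsurjv (hh0 L (hmap k (pointIncl hP L) 0 a))
    refine ⟨c, t, ?_, ?_, ht⟩
    · rw [hc]; exact (germ_mem_iff (k := k) hL hP _).2 ⟨a, rfl⟩
    · rw [hc, hh0_hmap, AddEquiv.apply_symm_apply]
      exact (germ_naturality _ _ _ _ _).symm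
  refine (Curve17.isClosedImmersion_iff_sep (n := n) (X ↘ Spec (CommRingCat.of k)) r hr).2
    (fun P Q hP hQ hne => Or.inl ?_) (fun P hP => ?_)
  · obtain ⟨c, t, hmem, heq, hspan⟩ := hmain P Q hP hQ
    refine ⟨c, (mem_smul_top_congr τ P _).1 (by rw [hgermv]; exact hmem), fun hQm => ?_⟩
    have hQm' := (mem_smul_top_congr τ Q _).2 hQm
    rw [hgermv, heq] at hQm'
    haveI : Mono (pointIncl hP L) := by haveI := (twistSES hL (Scheme.IdealSheafData.vanishingIdeal (⟨{P}, hP⟩ : Closeds X))).mono_f; exact mono_comp _ _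
    have hsurj : Function.Surjective (stalkLin (pointIncl hP L) Q) := fun y => by
      have hz : ∀ z : (pointSC hP L).X₃.presheaf.stalk Q, z = 0 := fun z =>
        ((suppIn_quotMod_point hP).tensor L).zero Q (by simpa using hne.symm) z
      obtain ⟨y', hy'⟩ := (exact_iff_stalk_eq_zero (pointSC hP L)).1 (twistSES hL _).exact Q
        (stalkLin (tensorLUnit L).inv Q y) (hz _)
      refine ⟨y', ?_⟩
      rw [stalkLin_comp]
      refine (congrArg (stalkLin (tensorLUnit L).hom Q) hy').trans ?_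
      rw [← stalkLin_comp, Iso.inv_hom_id]
      show (stalkAb Q).map (𝟙 L) y = y
      rw [CategoryTheory.Functor.map_id]
      rfl
    obtain ⟨e⟩ := nonempty_stalk_equiv h1 Q
    have htop : ∀ y : L.presheaf.stalk Q, y ∈
        IsLocalRing.maximalIdeal (X.presheaf.stalk Q) • (⊤ : Submodule (X.presheaf.stalk Q) (L.presheaf.stalk Q)) := fun y => by
      obtain ⟨y', rfl⟩ := hsurj y
      obtain ⟨d, rfl⟩ := Submodule.mem_span_singleton.1 (hspan ▸ Submodule.mem_top :
        y' ∈ Submodule.span (X.presheaf.stalk Q) ({((pointSC hP L).X₁.presheaf.germ ⊤ Q trivial t :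
          (pointSC hP L).X₁.presheaf.stalk Q)} : Set ((pointSC hP L).X₁.presheaf.stalk Q)))
      rw [map_smul]
      exact Submodule.smul_mem _ d hQm'
    haveI : Module.Finite (X.presheaf.stalk Q) (L.presheaf.stalk Q) := Module.Finite.equiv e.symm
    have hbot := Submodule.eq_bot_of_le_smul_of_le_jacobson_bot (IsLocalRing.maximalIdeal (X.presheaf.stalk Q))
      (⊤ : Submodule (X.presheaf.stalk Q) (L.presheaf.stalk Q)) Module.Finite.fg_top (fun y _ => htop y)
      (IsLocalRing.maximalIdeal_le_jacobson _)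
    have : e.symm 1 = 0 := (Submodule.eq_bot_iff _).1 hbot _ trivial
    exact one_ne_zero (congrFun ((congrArg e this).symm.trans (e.apply_symm_apply 1)) 0 |>.symm.trans (by rw [map_zero]; rfl))
  · obtain ⟨c, t, hmem, heq, hspan⟩ := hmain P P hP hP
    refine le_trans (fun a ha => ?_) le_sup_left
    have ha' := (stalk_pointSC_eq_zero_iff hL hP _).2 ((mem_smul_top_congr τ P a).2 ha)
    rw [stalkLin_comp] at ha'
    obtain ⟨y', hy'⟩ : ∃ y' : (pointSC hP L).X₁.presheaf.stalk P,
        stalkLin (pointSC hP L).f P y' = stalkLin (tensorLUnit L).inv P (stalkLin τ.hom P a) :=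
      (exact_iff_stalk_eq_zero (pointSC hP L)).1 (twistSES hL _).exact P
        (stalkLin (tensorLUnit L).inv P (stalkLin τ.hom P a)) ha'
    obtain ⟨d, rfl⟩ := Submodule.mem_span_singleton.1 (hspan ▸ Submodule.mem_top :
        y' ∈ Submodule.span (X.presheaf.stalk P) ({((pointSC hP L).X₁.presheaf.germ ⊤ P trivial t :
          (pointSC hP L).X₁.presheaf.stalk P)} : Set ((pointSC hP L).X₁.presheaf.stalk P)))
    have hid : ∀ {M : X.Modules} (z : M.presheaf.stalk P), stalkLin (𝟙 M) P z = z := fun {M} z => by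
      show (stalkAb P).map (𝟙 M) z = z
      rw [CategoryTheory.Functor.map_id]
      rfl
    have hya : stalkLin τ.hom P a = d • stalkLin (pointIncl hP L) P ((pointSC hP L).X₁.presheaf.germ ⊤ P trivial t) := by
      rw [← map_smul, stalkLin_comp]
      refine Eq.trans ?_ (congrArg (stalkLin (tensorLUnit L).hom P) hy').symm
      rw [← stalkLin_comp, Iso.inv_hom_id, hid]
    have ha2 : a = d • ((Curve17.pullTwist r).presheaf.germ ⊤ P trivial
        (Curve17.vSec (X ↘ Spec (CommRingCat.of k)) r c) : (Curve17.pullTwist r).presheaf.stalk P) := by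
      rw [← heq, ← hgermv, ← map_smul] at hya
      have := congrArg (stalkLin τ.inv P) hya
      rw [← stalkLin_comp, ← stalkLin_comp, τ.hom_inv_id, hid, hid] at this
      exact this
    rw [ha2]
    exact Submodule.smul_mem _ d (Submodule.subset_span ⟨c, rfl, (mem_smul_top_congr τ P _).1 (by rw [hgermv]; exact hmem)⟩)

end Groth.Agent.CurveCoh17
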