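import Groth.Agent.Lib.CurveCoh17.LES
import Groth.Agent.Lib.CohFound.Flasque
import Groth.Agent.Lib.ModM1.Exact
import Groth.Agent.Lib.ModM1.Stalk

/-!
# Modules supported at finitely many closed points

Sections are the product of the stalks, the underlying sheaf is flasque, cohomology is concentrated
in degree zero and `H⁰` is linearly the product of the stalks.
-/

set_option linter.style.haveILetI false
set_option autoImplicit false

universe u

open CategoryTheory TopologicalSpace Opposite CategoryTheory.Limits AlgebraicGeometry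

namespace Groth.Agent.CurveCoh17

open Groth.Agent.CohFound Groth.Agent.M1

variable {X : Scheme.{u}}

/-- `M` is supported at the finitely many closed points of `S`. -/
structure SuppIn (M : X.Modules) (S : Finset X) : Prop where
  closed : ∀ x ∈ S, IsClosed ({x} : Set X)
  zero : ∀ x : X, x ∉ S → ∀ a : M.presheaf.stalk x, a = 0

theorem SuppIn.mono {M : X.Modules} {S T : Finset X} (h : SuppIn M S) (hST : S ⊆ T)
    (hT : ∀ x ∈ T, IsClosed ({x} : Set X)) : SuppIn M T :=
  ⟨hT, fun x hx => h.zero x fun hxS => hx (hST hxS)⟩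

variable {M : X.Modules} {S : Finset X}

/-- Sections are determined by the germs at the support. -/
theorem SuppIn.section_ext (h : SuppIn M S) {U : X.Opens} (s t : Γ(M, U))
    (he : ∀ x ∈ S, ∀ hx : x ∈ U, M.presheaf.germ U x hx s = M.presheaf.germ U x hx t) : s = t :=
  M1.section_ext s t fun x hx => by
    by_cases hxS : x ∈ S
    · exact he x hxS hx
    · rw [h.zero x hxS (M.presheaf.germ U x hx s), h.zero x hxS (M.presheaf.germ U x hx t)]

/-- The complement of the support. -/
def SuppIn.compl (h : SuppIn M S) (x : Option X) : X.Opens :=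
  ⟨((S : Set X) \ {p | x = some p})ᶜ, by
    refine (Set.Finite.isClosed_biUnion (s := ((S : Set X) \ {p | x = some p}))
      (f := fun p => ({p} : Set X)) (S.finite_toSet.subset Set.sdiff_subset)
      fun p hp => h.closed p hp.1) |> fun hc => ?_
    rw [Set.biUnion_of_singleton] at hc
    exact hc.isOpen_compl⟩

theorem SuppIn.mem_compl_self (h : SuppIn M S) (x : X) : x ∈ h.compl (some x) := fun hx => hx.2 rfl

theorem SuppIn.eq_of_mem_compl_some (h : SuppIn M S) {x y : X} (hy : y ∈ h.compl (some x)) (hyS : y ∈ S) :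
    y = x := by
  by_contra hne
  exact hy ⟨hyS, fun he => hne (Option.some_injective _ he).symm⟩

theorem SuppIn.notMem_of_mem_compl_none (h : SuppIn M S) {y : X} (hy : y ∈ h.compl none) : y ∉ S :=
  fun hyS => hy ⟨hyS, fun he => Option.some_ne_none _ he.symm⟩

/-- Any family of stalk elements comes from a section. -/
theorem SuppIn.exists_section (h : SuppIn M S) (U : X.Opens) (a : ∀ x : X, M.presheaf.stalk x) :
    ∃ s : Γ(M, U), ∀ x ∈ S, ∀ hx : x ∈ U, M.presheaf.germ U x hx s = a x := by
  classical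
  choose W hW t ht using fun x : X => M.presheaf.exists_germ_eq (a x)
  let ι := Option {x : X // x ∈ S ∧ x ∈ U}
  let V : ι → X.Opens := fun i => i.elim (U ⊓ h.compl none) fun p => U ⊓ W p.1 ⊓ h.compl (some p.1)
  let sf : ∀ i : ι, Γ(M, V i) := fun i => match i with
    | none => 0
    | some p => mres M (inf_le_left.trans inf_le_right) (t p.1)
  have hle : ∀ i, V i ≤ U := by
    rintro (_ | p)
    · exact inf_le_left
    · exact inf_le_left.trans inf_le_left
  have hcov : U ≤ iSup V := fun y hy => by
    by_cases hyS : y ∈ S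
    · exact Opens.mem_iSup.2 ⟨some ⟨y, hyS, hy⟩, ⟨hy, hW y⟩, h.mem_compl_self y⟩
    · exact Opens.mem_iSup.2 ⟨none, hy, fun hh => hyS hh.1⟩
  have hcomp : TopCat.Presheaf.IsCompatible M.presheaf V sf := by
    intro i j
    refine h.section_ext _ _ fun x hxS hx => ?_
    cases i with
    | none => exact absurd hxS (h.notMem_of_mem_compl_none hx.1.2)
    | some p =>
      cases j with
      | none => exact absurd hxS (h.notMem_of_mem_compl_none hx.2.2)
      | some q =>
        have hp := h.eq_of_mem_compl_some hx.1.2 hxS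
        have hq := h.eq_of_mem_compl_some hx.2.2 hxS
        obtain rfl : p = q := Subtype.ext (hp.symm.trans hq)
        rfl
  obtain ⟨s, hs, -⟩ := TopCat.Sheaf.existsUnique_gluing' ⟨M.presheaf, M.isSheaf⟩ V U
    (fun i => homOfLE (hle i)) hcov sf hcomp
  refine ⟨s, fun x hxS hx => ?_⟩
  have hxV : x ∈ V (some ⟨x, hxS, hx⟩) := ⟨⟨hx, hW x⟩, h.mem_compl_self x⟩
  have e : mres M (hle (some ⟨x, hxS, hx⟩)) s = sf (some ⟨x, hxS, hx⟩) := hs _
  rw [← germ_mres M (hle (some ⟨x, hxS, hx⟩)) hxV, e]
  show M.presheaf.germ _ x hxV (mres M _ (t x)) = a x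
  rw [germ_mres, ht]

theorem SuppIn.isFlasque (h : SuppIn M S) : TopCat.Sheaf.IsFlasque ((abF X).obj M) := by
  constructor
  intro U V i
  rw [AddCommGrpCat.epi_iff_surjective]
  intro t
  classical
  obtain ⟨s, hs⟩ := h.exists_section U.unop fun x =>
    if hx : x ∈ V.unop then M.presheaf.germ V.unop x hx t else 0
  refine ⟨s, h.section_ext _ _ fun x hxS hx => ?_⟩
  have := hs x hxS (i.unop.le hx)
  rw [dif_pos hx] at this
  refine Eq.trans ?_ this
  exact M.presheaf.germ_res_apply i.unop x hx s

theorem SuppIn.subsingleton_HH (h : SuppIn M S) (n : ℕ) : Subsingleton (Coh.HH X M (n + 1)) := by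
  rw [subsingleton_HH_iff]
  haveI := h.isFlasque
  exact subsingleton_hc_of_isFlasque _ n ⊤

/-- `H⁰` is the global sections. -/
noncomputable def hh0 (M : X.Modules) : Coh.HH X M 0 ≃+ Γ(M, ⊤) :=
  (hhExt M 0).trans (hc0 ((abF X).obj M) ⊤)

theorem hh0_smul (r : Coh.Γtop X) (x : Coh.HH X M 0) :
    hh0 M (r • x) = (show Γ(X, ⊤) from r) • hh0 M x := by
  show hc0 _ ⊤ (hhExt M 0 (r • x)) = _
  rw [hhExt_smul, hc0_mp]
  show (show Γ(X, ⊤) from Coh.resTop X (op ⊤) r) • hh0 M x = _
  congr 1
  show X.ringCatSheaf.obj.map _ r = r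
  rw [show (homOfLE (le_top (a := (⊤ : X.Opens)))).op = 𝟙 _ from Subsingleton.elim _ _,
    CategoryTheory.Functor.map_id]
  rfl

theorem hh0_hmap (A : Type u) [CommRing A] [X.Over (Spec (CommRingCat.of A))] {N : X.Modules}
    (φ : M ⟶ N) (x : Coh.HH X M 0) : hh0 N (hmap A φ 0 x) = φ.app ⊤ (hh0 M x) := by
  show hc0 _ ⊤ (hhExt N 0 (hmap A φ 0 x)) = _
  rw [hhExt_hmap, hc0_mp]
  rfl

variable (A : Type u) [CommRing A] [X.Over (Spec (CommRingCat.of A))]

/-- The base ring acting on local rings. -/
noncomputable def stalkRingMap (x : X) : A →+* X.presheaf.stalk x :=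
  (X.presheaf.germ ⊤ x trivial).hom.comp (Coh.toGlobal (X ↘ Spec (CommRingCat.of A)))

/-- The module structure over the base ring on a stalk. -/
noncomputable abbrev stalkMod (M : X.Modules) (x : X) : Module A (M.presheaf.stalk x) :=
  Module.compHom _ (stalkRingMap A x)

attribute [local instance] stalkMod

/-- `H⁰` maps to every stalk. -/
noncomputable def h0germ (M : X.Modules) (x : X) : Coh.HH X M 0 →ₗ[A] M.presheaf.stalk x where
  toFun z := M.presheaf.germ ⊤ x trivial (hh0 M z)
  map_add' z w := by rw [map_add, map_add]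
  map_smul' c z := by
    show M.presheaf.germ ⊤ x trivial (hh0 M (Coh.toGlobal (X ↘ Spec (CommRingCat.of A)) c • z)) = _
    rw [hh0_smul]
    exact germ_smul M (U := ⊤) (x := x) trivial _ _

/-- `H⁰` of a module with finite support is the product of its stalks. -/
noncomputable def SuppIn.h0Equiv (h : SuppIn M S) :
    Coh.HH X M 0 ≃ₗ[A] ∀ x : S, M.presheaf.stalk (x : X) := by
  refine LinearEquiv.ofBijective (LinearMap.pi fun x : S => h0germ A M (x : X)) ⟨fun z w e => ?_, fun a => ?_⟩
  · exact (hh0 M).injective (h.section_ext _ _ fun x hxS _ => congrFun e ⟨x, hxS⟩)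
  · classical
    obtain ⟨s, hs⟩ := h.exists_section ⊤ fun x => if hx : x ∈ S then a ⟨x, hx⟩ else 0
    refine ⟨(hh0 M).symm s, funext fun x => ?_⟩
    have := hs x x.2 trivial
    rw [dif_pos x.2] at this
    show M.presheaf.germ ⊤ (x : X) trivial (hh0 M ((hh0 M).symm s)) = a x
    rw [AddEquiv.apply_symm_apply]
    exact this

end Groth.Agent.CurveCoh17
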