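import Groth.Agent.Lib.CurveCoh17.Skyscraper
import Groth.Agent.Lib.CohFound.AffMor
import Groth.Agent.Lib.CohFound.QcohAffine
import Groth.Agent.Lib.Curve17.Basic
import Groth.Agent.Lib.ModM1.FibreProd
import Groth.Agent.Lib.ModM1.Push
import Groth.Agent.Lib.Twist.GenLocus
import Groth.Agent.Lib.VarDim.Fibre

/-!
# Dense affine opens and vanishing in dimension at most one

On a Noetherian scheme of dimension at most one a dense open omits finitely many closed points, dense
affine opens can be chosen inside given neighbourhoods of the maximal points, and on a separated such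
scheme quasi-coherent cohomology vanishes in degrees `≥ 2`.
-/

set_option linter.style.haveILetI false
set_option autoImplicit false

universe u

open CategoryTheory TopologicalSpace Opposite CategoryTheory.Limits AlgebraicGeometry

namespace Groth.Agent.CurveCoh17

open Groth.Agent.CohFound Groth.Agent.M1

variable {X : Scheme.{u}}

/-- Every point has a maximal generalisation. -/
theorem exists_maximal_generization [IsNoetherian X] (x : X) :
    ∃ g, g ⤳ x ∧ ∀ y, y ⤳ g → y = g := by
  have hZ := irreducibleComponent_mem_irreducibleComponents (X := X) x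
  have hcl : IsClosed (irreducibleComponent x) := isClosed_irreducibleComponent
  have hirr : IsIrreducible (irreducibleComponent x) := isIrreducible_irreducibleComponent
  refine ⟨hirr.genericPoint, ?_, fun y hy => ?_⟩
  · rw [specializes_iff_mem_closure, hirr.closure_genericPoint hcl]
    exact mem_irreducibleComponent
  · have hsub : irreducibleComponent x ⊆ closure {y} := by
      rw [← hirr.closure_genericPoint hcl]
      exact closure_minimal (Set.singleton_subset_iff.2 (specializes_iff_mem_closure.1 hy)) isClosed_closure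
    have hsup : closure {y} ≤ irreducibleComponent x := hZ.2 isIrreducible_singleton.closure hsub
    exact Specializes.antisymm hy
      (specializes_iff_mem_closure.2 (by
        rw [hirr.closure_genericPoint hcl]; exact hsup (subset_closure rfl))) |>.eq

theorem finite_maximal [IsNoetherian X] : {g : X | ∀ y, y ⤳ g → y = g}.Finite := by
  refine Set.Finite.of_finite_image (f := fun g => closure ({g} : Set X)) ?_ fun a _ b _ h => ?_
  · refine NoetherianSpace.finite_irreducibleComponents.subset ?_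
    rintro _ ⟨g, hg, rfl⟩
    refine ⟨isIrreducible_singleton.closure, fun Z hZ hle => ?_⟩
    have hZc : IsIrreducible (closure Z) := hZ.closure
    have he : hZc.genericPoint = g := hg _ (by
      rw [specializes_iff_mem_closure, hZc.closure_genericPoint isClosed_closure]
      exact subset_closure (hle (subset_closure rfl)))
    show Z ⊆ closure ({g} : Set X)
    refine subset_closure.trans ?_
    rw [← he, hZc.closure_genericPoint isClosed_closure]
  · exact ((specializes_iff_mem_closure.2 (h.ge (subset_closure rfl))).antisymm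
      (specializes_iff_mem_closure.2 (h.le (subset_closure rfl)))).eq

/-- A dense affine open, inside prescribed neighbourhoods of the maximal points. -/
theorem exists_affine_maximal [IsNoetherian X] (P : X → X.Opens)
    (hP : ∀ g : X, (∀ y, y ⤳ g → y = g) → g ∈ P g) :
    ∃ (V : {g : X // ∀ y, y ⤳ g → y = g} → X.Opens),
      (∀ i, IsAffineOpen (V i) ∧ i.1 ∈ V i ∧ V i ≤ P i.1) ∧ Pairwise (fun i j => Disjoint (V i) (V j)) ∧
      IsAffineOpen (iSup V) := by
  haveI : Finite {g : X // ∀ y, y ⤳ g → y = g} := finite_maximal.to_subtype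
  have hclosed : ∀ i : {g : X // ∀ y, y ⤳ g → y = g},
      IsClosed (⋃ j ∈ {j : {g : X // ∀ y, y ⤳ g → y = g} | j ≠ i}, closure ({j.1} : Set X)) :=
    fun i => (Set.toFinite _).isClosed_biUnion fun _ _ => isClosed_closure
  let W : {g : X // ∀ y, y ⤳ g → y = g} → X.Opens := fun i => ⟨_, (hclosed i).isOpen_compl⟩
  have hW : ∀ i, i.1 ∈ W i := fun i hi => by
    obtain ⟨j, hj, hij⟩ := Set.mem_iUnion₂.1 hi
    exact hj (Subtype.ext (i.2 _ (specializes_iff_mem_closure.2 hij)))
  have hdisj : ∀ i j, i ≠ j → ∀ x, x ∈ W i → x ∉ W j := fun i j hne x hxi hxj => by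
    obtain ⟨g, hgx, hg⟩ := exists_maximal_generization x
    have key : ∀ k : {g : X // ∀ y, y ⤳ g → y = g}, x ∈ W k → k.1 = g := fun k hk => by
      by_contra hne'
      exact hk (Set.mem_iUnion₂.2 ⟨⟨g, hg⟩, fun he => hne' (congrArg Subtype.val he).symm,
        specializes_iff_mem_closure.1 hgx⟩)
    exact hne (Subtype.ext ((key i hxi).trans (key j hxj).symm))
  have : ∀ i : {g : X // ∀ y, y ⤳ g → y = g}, ∃ V : X.Opens, IsAffineOpen V ∧ i.1 ∈ V ∧ V ≤ W i ⊓ P i.1 :=
    fun i => by
      obtain ⟨V, hV, hiV, hle⟩ := exists_isAffineOpen_mem_and_subset (U := W i ⊓ P i.1) (x := i.1) ⟨hW i, hP _ i.2⟩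
      exact ⟨V, hV, hiV, hle⟩
  choose V hV hiV hle using this
  have hd : Pairwise (fun i j => Disjoint (V i) (V j)) := fun i j hne => by
    show Disjoint (V i) (V j)
    rw [disjoint_iff_inf_le]
    exact fun x hx => (hdisj i j hne x (hle i hx.1).1 (hle j hx.2).1).elim
  exact ⟨V, fun i => ⟨hV i, hiV i, fun x hx => (hle i hx).2⟩, hd,
    IsAffineOpen.iSup_of_disjoint hV hd⟩

/-- In dimension at most one, a closed set without maximal points is a finite set of closed points. -/
theorem exists_finset_closedPoints [IsNoetherian X] (hd : topologicalKrullDim X ≤ 1) {C : Set X}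
    (hC : IsClosed C) (hmax : ∀ g : X, (∀ y, y ⤳ g → y = g) → g ∉ C) :
    ∃ S : Finset X, (S : Set X) = C ∧ ∀ x ∈ S, IsClosed ({x} : Set X) := by
  have hpt : ∀ x ∈ C, IsClosed ({x} : Set X) := fun x hx => by
    by_contra hnc
    exact hmax x (fun y hy => Curve17.eq_of_specializes hd hnc hy) hx
  obtain ⟨G, hG⟩ := VarDim.exists_finite_generic hC
  refine ⟨G, Set.ext fun x => ⟨fun hx => (hG x).2 ⟨x, hx, specializes_rfl⟩, fun hx => ?_⟩, fun x hx => ?_⟩
  · obtain ⟨g, hg, hgx⟩ := (hG x).1 hx
    have hgC : g ∈ C := (hG g).2 ⟨g, hg, specializes_rfl⟩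
    have : x ∈ ({g} : Set X) := (hgx.mem_closed (hpt g hgC) rfl)
    exact Set.mem_singleton_iff.1 this ▸ hg
  · exact hpt x ((hG x).2 ⟨x, hx, specializes_rfl⟩)

theorem isAffineHom_ι [X.IsSeparated] {U : X.Opens} (hU : IsAffineOpen U) : IsAffineHom U.ι := by
  refine isAffineHom_of_forall_exists_isAffineOpen _ fun x => ?_
  obtain ⟨V, hV, hxV, -⟩ := exists_isAffineOpen_mem_and_subset (U := (⊤ : X.Opens)) (x := x) trivial
  refine ⟨V, hxV, hV, U.ι.isAffineOpen_iff_of_isOpenImmersion.mp ?_⟩
  rw [Scheme.Hom.image_preimage_eq_opensRange_inf, Scheme.Opens.opensRange_ι]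
  exact hU.inf hV

theorem bijective_stalkMap_of_app {M N : X.Modules} (φ : M ⟶ N) (U : X.Opens)
    (h : ∀ V : X.Opens, V ≤ U → Function.Bijective (φ.app V)) {x : X} (hx : x ∈ U) :
    Function.Bijective ((stalkAb x).map φ) := by
  refine ⟨(injective_iff_map_eq_zero _).2 fun a ha => ?_, fun b => ?_⟩
  · obtain ⟨W, hxW, s, rfl⟩ := M.presheaf.exists_germ_eq a
    rw [germ_naturality] at ha
    obtain ⟨V, hxV, i₁, i₂, he⟩ := N.presheaf.germ_eq x hxW hxW (φ.app W s) 0 (ha.trans (map_zero _).symm)
    rw [map_zero] at he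
    have hV : V ⊓ U ≤ W := inf_le_left.trans i₁.le
    have h0 : φ.app (V ⊓ U) (mres M hV s) = 0 := by
      rw [app_mres, ← mres_mres N i₁.le (inf_le_left : V ⊓ U ≤ V)]
      exact (congrArg (mres N _) he).trans (map_zero _)
    have hs : mres M hV s = 0 := (h _ inf_le_right).1 (h0.trans (map_zero _).symm)
    rw [← germ_mres M hV (x := x) ⟨hxV, hx⟩, hs]
    exact map_zero _
  · obtain ⟨W, hxW, t, rfl⟩ := N.presheaf.exists_germ_eq b
    obtain ⟨s, hs⟩ := (h (W ⊓ U) inf_le_right).2 (mres N (inf_le_left : W ⊓ U ≤ W) t)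
    refine ⟨M.presheaf.germ (W ⊓ U) x ⟨hxW, hx⟩ s, ?_⟩
    rw [germ_naturality, hs, germ_mres]

/-- A morphism bijective on an open whose complement is `S` has kernel and cokernel supported in `S`. -/
theorem suppIn_kernel_cokernel {M N : X.Modules} (φ : M ⟶ N) {U : X.Opens} {S : Finset X}
    (hS : ∀ x ∈ S, IsClosed ({x} : Set X)) (hU : ∀ x : X, x ∉ S → x ∈ U)
    (h : ∀ V : X.Opens, V ≤ U → Function.Bijective (φ.app V)) :
    SuppIn (kernel φ) S ∧ SuppIn (cokernel φ) S := by
  refine ⟨⟨hS, fun x hx a => ?_⟩, ⟨hS, fun x hx a => ?_⟩⟩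
  · have hinj : Function.Injective ((stalkAb x).map (kernel.ι φ)) := (mono_iff_stalk _).1 inferInstance x
    let a' : (stalkAb x).obj (kernel φ) := a
    show a' = 0
    apply hinj
    apply (bijective_stalkMap_of_app φ U h (hU x hx)).1
    rw [map_zero, map_zero]
    show ((stalkAb x).map (kernel.ι φ) ≫ (stalkAb x).map φ) a' = 0
    rw [← Functor.map_comp, kernel.condition, Functor.map_zero]
    rfl
  · obtain ⟨b, rfl⟩ := (epi_iff_stalk (cokernel.π φ)).1 inferInstance x a
    obtain ⟨c, rfl⟩ := (bijective_stalkMap_of_app φ U h (hU x hx)).2 b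
    show ((stalkAb x).map φ ≫ (stalkAb x).map (cokernel.π φ)) c = 0
    rw [← Functor.map_comp, cokernel.condition, Functor.map_zero]
    rfl

/-- `0 → ker → M → im → 0`. -/
noncomputable abbrev kerSC {M N : X.Modules} (φ : M ⟶ N) : ShortComplex X.Modules :=
  ShortComplex.mk (kernel.ι φ) (Abelian.factorThruImage φ) (by
    rw [← cancel_mono (Abelian.image.ι φ), Category.assoc, Abelian.image.fac, kernel.condition, zero_comp])

theorem kerSC_shortExact {M N : X.Modules} (φ : M ⟶ N) : (kerSC φ).ShortExact where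
  exact := ShortComplex.exact_of_f_is_kernel _ (KernelFork.IsLimit.ofι _ _
    (fun {W} k hk => kernel.lift φ k (show k ≫ φ = 0 by
      rw [← Abelian.image.fac φ, ← Category.assoc]
      erw [hk]
      rw [zero_comp]))
    (fun {W} k hk => kernel.lift_ι _ _ _)
    (fun {W} k hk m hm => by
      rw [← cancel_mono (kernel.ι φ), kernel.lift_ι]
      exact hm))

/-- `0 → im → N → coker → 0`. -/
noncomputable abbrev cokerSC {M N : X.Modules} (φ : M ⟶ N) : ShortComplex X.Modules :=
  ShortComplex.mk (Abelian.image.ι φ) (cokernel.π φ) (kernel.condition _)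

theorem cokerSC_shortExact {M N : X.Modules} (φ : M ⟶ N) : (cokerSC φ).ShortExact where
  exact := ShortComplex.exact_of_f_is_kernel _ (kernelIsKernel (cokernel.π φ))

theorem exists_of_hmap_eq_zero {T : ShortComplex X.Modules} (hT : T.ShortExact) (n : ℕ)
    (x : Coh.HH X T.X₂ n) (hx : hmap₀ T.g n x = 0) : ∃ y, hmap₀ T.f n y = x := by
  have hx' := congrArg (hhExt T.X₃ n) hx
  rw [hhExt_hmap₀, map_zero] at hx'
  obtain ⟨y, hy⟩ := exact₂ (shortExact_abF hT) n ⊤ _ hx'
  refine ⟨(hhExt T.X₁ n).symm y, (hhExt T.X₂ n).injective ?_⟩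
  rw [hhExt_hmap₀, AddEquiv.apply_symm_apply]
  exact hy

theorem exists_of_hmap_f_eq_zero {T : ShortComplex X.Modules} (hT : T.ShortExact) (n : ℕ)
    (x : Coh.HH X T.X₁ (n + 1)) (hx : hmap₀ T.f (n + 1) x = 0) : ∃ y, hdelta₀ hT n y = x := by
  have hx' := congrArg (hhExt T.X₂ (n + 1)) hx
  rw [hhExt_hmap₀, map_zero] at hx'
  obtain ⟨y, hy⟩ := exact₁ (shortExact_abF hT) n ⊤ _ hx'
  refine ⟨(hhExt T.X₃ n).symm y, (hhExt T.X₁ (n + 1)).injective ?_⟩
  rw [hhExt_hdelta₀, AddEquiv.apply_symm_apply]
  exact hy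

/-- Vanishing of quasi-coherent cohomology above degree one in dimension at most one. -/
theorem subsingleton_HH_of_dim [IsNoetherian X] [X.IsSeparated] (hd : topologicalKrullDim X ≤ 1)
    (M : X.Modules) (hM : Coh.IsQCoh M) (n : ℕ) : Subsingleton (Coh.HH X M (n + 2)) := by
  obtain ⟨V, hV, -, hU⟩ := exists_affine_maximal (X := X) (fun _ => ⊤) fun _ _ => trivial
  let U := iSup V
  obtain ⟨S, hS, hScl⟩ := exists_finset_closedPoints hd (C := (U : Set X)ᶜ) U.isOpen.isClosed_compl
    fun g hg hgC => hgC (Opens.mem_iSup.2 ⟨⟨g, hg⟩, (hV ⟨g, hg⟩).2.1⟩)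
  have hUS : ∀ x : X, x ∉ S → x ∈ U := fun x hx => by
    by_contra hxU
    exact hx (Finset.mem_coe.1 (hS ▸ hxU : x ∈ (S : Set X)))
  haveI : IsAffineHom U.ι := isAffineHom_ι hU
  haveI : IsAffine (U : Scheme.{u}) := hU
  have hMU : Coh.IsQCoh (M.restrict U.ι) := isQCoh_restrict hM U.ι
  haveI : (M.restrict U.ι).IsQuasicoherent := hMU
  let P := (Scheme.Modules.pushforward U.ι).obj (M.restrict U.ι)
  let φ : M ⟶ P := (Scheme.Modules.restrictAdjunction U.ι).unit.app M
  have hφ : ∀ W : X.Opens, W ≤ U → Function.Bijective (φ.app W) :=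
    (Twist.isIso_restrict_map_iff φ U).1 (isIso_restrict_unit U.ι M)
  obtain ⟨hK, hQ⟩ := suppIn_kernel_cokernel φ hScl hUS hφ
  have hP : Subsingleton (Coh.HH X P (n + 2)) := by
    rw [subsingleton_HH_iff]
    obtain ⟨e⟩ := nonempty_hc_push_isAffineHom U.ι (M.restrict U.ι) (n + 2) ⊤
    have hsub := subsingleton_hc_isAffineOpen (M.restrict U.ι) (U := U.ι ⁻¹ᵁ ⊤)
      (isAffineOpen_top (U : Scheme.{u})) (n + 1)
    exact @Equiv.subsingleton _ _ e.toEquiv hsub
  let I := Abelian.image φ
  have hI : Subsingleton (Coh.HH X I (n + 2)) := by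
    refine subsingleton_of_forall_eq 0 fun x => ?_
    obtain ⟨y, hy⟩ := exists_of_hmap_f_eq_zero (cokerSC_shortExact φ) (n + 1) x (Subsingleton.elim _ _)
    haveI := hQ.subsingleton_HH n
    rw [← hy, Subsingleton.elim y 0, map_zero]
  refine subsingleton_of_forall_eq 0 fun x => ?_
  obtain ⟨y, hy⟩ := exists_of_hmap_eq_zero (kerSC_shortExact φ) (n + 2) x (Subsingleton.elim _ _)
  haveI := hK.subsingleton_HH (n + 1)
  rw [← hy, Subsingleton.elim y 0, map_zero]

end Groth.Agent.CurveCoh17
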