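import Groth.Agent.Lib.CurveCoh17.TwistPoint
import Groth.Agent.Lib.VB17.Setup

/-!
# Closed points of regular curves: invertible point ideals, and Hopf's inequality
-/

set_option linter.style.haveILetI false
set_option autoImplicit false
set_option maxHeartbeats 800000

universe u

open CategoryTheory TopologicalSpace Opposite CategoryTheory.Limits AlgebraicGeometry TensorProduct

namespace Groth.Agent.CurveCoh17

open Groth.Agent.M1 Groth.Agent.M2

variable {X : Scheme.{u}}

/-- A regular local ring of dimension at most one which is a domain is principal. -/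
theorem pid_stalk_of_regular (hd : topologicalKrullDim X ≤ 1) (x : X) [IsRegularLocalRing (X.presheaf.stalk x)]
    [IsDomain (X.presheaf.stalk x)] : IsPrincipalIdealRing (X.presheaf.stalk x) := by
  have h1 : ((IsLocalRing.maximalIdeal (X.presheaf.stalk x)).spanFinrank : WithBot ℕ∞) ≤ 1 := by
    rw [IsRegularLocalRing.spanFinrank_maximalIdeal]
    exact (VB17.ringKrullDim_stalk_le_topologicalKrullDim x).trans hd
  have h1' : (IsLocalRing.maximalIdeal (X.presheaf.stalk x)).spanFinrank ≤ 1 := by exact_mod_cast h1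
  have hp : (IsLocalRing.maximalIdeal (X.presheaf.stalk x)).IsPrincipal := by
    rcases Nat.le_one_iff_eq_zero_or_eq_one.1 h1' with h | h
    · rw [(Submodule.spanFinrank_eq_zero_iff_eq_bot (IsNoetherian.noetherian _)).1 h]
      exact bot_isPrincipal
    · exact ((Submodule.spanFinrank_eq_one_iff _).1 h).1
  have e : (IsLocalRing.maximalIdeal (X.presheaf.stalk x)).IsPrincipal ↔ IsPrincipalIdealRing (X.presheaf.stalk x) :=
    (tfae_of_isNoetherianRing_of_isLocalRing_of_isDomain (X.presheaf.stalk x)).out 4 0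
  exact e.1 hp

theorem genericPoint_ne_of_isClosed [IsIntegral X] (hdim : topologicalKrullDim X = 1) {x : X}
    (hx : IsClosed ({x} : Set X)) : genericPoint X ≠ x := by
  rintro rfl
  have h : closure ({genericPoint X} : Set X) = Set.univ := genericPoint_spec X
  rw [hx.closure_eq] at h
  haveI : Subsingleton X := ⟨fun a b => (h.symm.le (Set.mem_univ a) : a = _).trans (h.symm.le (Set.mem_univ b) : b = _).symm⟩
  have := hdim.symm.le.trans (topologicalKrullDim_zero_of_discreteTopology X)
  exact absurd this (by norm_num)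

/-- On a regular integral curve the ideal of a closed point is invertible. -/
theorem isInvertible_pointIdeal [IsIntegral X] [IsNoetherian X] (hdim : topologicalKrullDim X = 1)
    (hreg : ∀ x : X, IsRegularLocalRing (X.presheaf.stalk x)) {x : X} (hx : IsClosed ({x} : Set X)) :
    PicF.IsInvertible (ClSub.idealMod (Scheme.IdealSheafData.vanishingIdeal (⟨{x}, hx⟩ : Closeds X))) := by
  set Z := Scheme.IdealSheafData.vanishingIdeal (⟨{x}, hx⟩ : Closeds X)
  have hO : FlatMod.IsFinLocFreeOfRank 1 (Coh.structureModule X) :=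
    (isInvertible_iff_isFinLocFreeOfRank_one _).1 (PicLoc.isInvertible_structureModule X)
  haveI : Mono (ClSub.idealModι Z) := (shortExact_idealMod Z).mono_f
  obtain ⟨r, hr, hI⟩ := VB17.exists_rank_of_mono
    (fun y => haveI := hreg y; pid_stalk_of_regular hdim.le y) hO (isCoh_idealMod Z) (ClSub.idealModι Z)
  rcases Nat.le_one_iff_eq_zero_or_eq_one.1 hr with rfl | rfl
  · exfalso
    haveI : Mono (ClSub.toSubscheme Z) :=
      (shortExact_idealMod Z).exact.mono_g ((VB17.isZero_of_rank_zero hI).eq_of_src _ _)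
    have hne := genericPoint_ne_of_isClosed hdim hx
    obtain ⟨e⟩ := nonempty_stalk_equiv hO (genericPoint X)
    have hinj : Function.Injective (stalkLin (ClSub.toSubscheme Z) (genericPoint X)) := fun a b hab =>
      (mono_iff_stalk (ClSub.toSubscheme Z)).1 inferInstance (genericPoint X) hab
    have h0 : e.symm 1 = 0 := hinj (((suppIn_quotMod_point hx).zero _ (by simpa using hne) _).trans (map_zero _).symm)
    have := congrFun (congrArg e h0) 0
    rw [LinearEquiv.apply_symm_apply, map_zero] at this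
    exact one_ne_zero this
  · exact (isInvertible_iff_isFinLocFreeOfRank_one _).2 hI

/-- A nonzero section of an invertible module spans the stalk at the generic point. -/
theorem span_germ_genericPoint [IsIntegral X] {L : X.Modules} (hL : PicF.IsInvertible L)
    {s : Γ(L, (⊤ : X.Opens))} (hs : s ≠ 0) :
    Amp.Gen (Amp.gm L (genericPoint X) (U := ⊤) trivial s) := by
  have h1 := (isInvertible_iff_isFinLocFreeOfRank_one L).1 hL
  obtain ⟨e⟩ := nonempty_stalk_equiv h1 (genericPoint X)
  have hne : e (Amp.gm L (genericPoint X) (U := ⊤) trivial s) 0 ≠ 0 := fun h =>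
    hs (eq_zero_of_germ_eq_zero h1 s (e.injective (funext fun i => by rw [Fin.fin_one_eq_zero i, h, map_zero]; rfl)))
  letI := (IsField.toField (Field.toIsField (X.functionField)))
  refine ⟨fun a b hab => ?_, fun m => ⟨e m 0 * (isUnit_iff_ne_zero.2 hne).unit⁻¹.1, e.injective (funext fun i => ?_)⟩⟩
  · have := congrFun (congrArg e hab) 0
    simp only [map_smul, Pi.smul_apply, smul_eq_mul] at this
    exact mul_right_cancel₀ hne this
  · rw [Fin.fin_one_eq_zero i, map_smul, Pi.smul_apply, smul_eq_mul, mul_assoc, IsUnit.val_inv_mul, mul_one]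

variable {k : Type u} [Field k] [X.Over (Spec (CommRingCat.of k))]

/-- Two nonzero sections have a common closed point at which both generate. -/
theorem exists_closed_gen [IsIntegral X] [LocallyOfFiniteType (X ↘ Spec (CommRingCat.of k))]
    {L L' : X.Modules} (hL : PicF.IsInvertible L) (hL' : PicF.IsInvertible L')
    {s : Γ(L, (⊤ : X.Opens))} (hs : s ≠ 0) {s' : Γ(L', (⊤ : X.Opens))} (hs' : s' ≠ 0) :
    ∃ P : X, IsClosed ({P} : Set X) ∧ Amp.Gen (Amp.gm L P (U := ⊤) trivial s) ∧
      Amp.Gen (Amp.gm L' P (U := ⊤) trivial s') := by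
  haveI : JacobsonSpace X := LocallyOfFiniteType.jacobsonSpace (X ↘ Spec (CommRingCat.of k))
  let W := CohB1.genLocus L (secHom s) ⊓ CohB1.genLocus L' (secHom s')
  have hη : genericPoint X ∈ W := by
    refine ⟨?_, ?_⟩
    · exact (Amp.mem_genLocus_iff hL _).2 (by rw [Amp.gval_secHom]; exact span_germ_genericPoint hL hs)
    · exact (Amp.mem_genLocus_iff hL' _).2 (by rw [Amp.gval_secHom]; exact span_germ_genericPoint hL' hs')
  obtain ⟨P, ⟨hPL, hPL'⟩, hP⟩ := nonempty_inter_closedPoints (Z := (W : Set X)) ⟨_, hη⟩ W.isOpen.isLocallyClosed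
  refine ⟨P, hP, ?_, ?_⟩
  · have := (Amp.mem_genLocus_iff hL _).1 hPL
    rwa [Amp.gval_secHom] at this
  · have := (Amp.mem_genLocus_iff hL' _).1 hPL'
    rwa [Amp.gval_secHom] at this

/-- Sections generating at a point have a generating product there. -/
theorem exists_span_tensor {L L' : X.Modules} (P : X) {s : Γ(L, (⊤ : X.Opens))} {s' : Γ(L', (⊤ : X.Opens))}
    (hs : Amp.Gen (Amp.gm L P (U := ⊤) trivial s)) (hs' : Amp.Gen (Amp.gm L' P (U := ⊤) trivial s')) :
    ∃ t : Γ(CohB1.tensorMod L L', (⊤ : X.Opens)), Submodule.span (X.presheaf.stalk P)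
      ({((CohB1.tensorMod L L').presheaf.germ ⊤ P trivial t : (CohB1.tensorMod L L').presheaf.stalk P)} :
        Set ((CohB1.tensorMod L L').presheaf.stalk P)) = ⊤ := by
  refine ⟨tsec L L' s s', top_le_iff.1 fun a _ => ?_⟩
  rw [Submodule.mem_span_singleton]
  obtain ⟨c, hc⟩ : ∃ c : X.presheaf.stalk P,
      c • (Amp.gm L P (U := ⊤) trivial s ⊗ₜ[X.presheaf.stalk P] Amp.gm L' P (U := ⊤) trivial s') = stalkEquiv L L' P a := by
    induction stalkEquiv L L' P a using TensorProduct.induction_on with
    | zero => exact ⟨0, zero_smul _ _⟩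
    | tmul p q =>
      obtain ⟨a, rfl⟩ := hs.2 p
      obtain ⟨b, rfl⟩ := hs'.2 q
      exact ⟨a * b, (TensorProduct.smul_tmul_smul _ _ _ _).symm⟩
    | add p q hp hq =>
      obtain ⟨a, ha⟩ := hp
      obtain ⟨b, hb⟩ := hq
      exact ⟨a + b, by rw [add_smul, ha, hb]⟩
  exact ⟨c, (stalkEquiv L L' P).injective (by rw [map_smul, stalkEquiv_tsec]; exact hc)⟩

theorem CurveLike.finrank_twist_of_span [IsAlgClosed k] [LocallyOfFiniteType (X ↘ Spec (CommRingCat.of k))]
    (hX : CurveLike k X) {L : X.Modules} (hL : PicF.IsInvertible L) {P : X} (hP : IsClosed ({P} : Set X))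
    (h : ∃ t : Γ(L, (⊤ : X.Opens)), Submodule.span (X.presheaf.stalk P)
      ({(L.presheaf.germ ⊤ P trivial t : L.presheaf.stalk P)} : Set (L.presheaf.stalk P)) = ⊤) :
    Module.finrank k (Coh.HH X L 0) = Module.finrank k (Coh.HH X (CohB1.tensorMod L
      (ClSub.idealMod (Scheme.IdealSheafData.vanishingIdeal (⟨{P}, hP⟩ : Closeds X)))) 0) + 1 := by
  obtain ⟨h1, h2⟩ := finrank_twist_point hX hL hP
  rw [finrank_residueField hP] at h1
  haveI := hX.noetherian
  haveI := hX.fin L (isCoh_of_ofRank ((isInvertible_iff_isFinLocFreeOfRank_one L).1 hL)) 0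
  have hne := (atPoint_ne_zero_iff (k := k) hL hP).2 h
  have : 0 < Module.finrank k (LinearMap.range (atPoint k hP L)) :=
    Module.finrank_pos_iff.2 (Submodule.nontrivial_iff_ne_bot.2 (by rwa [ne_eq, LinearMap.range_eq_bot]))
  omega

/-- Multiplying with a nonzero section is injective on sections. -/
theorem CurveLike.h0_le_h0_tensor [IsIntegral X] (hX : CurveLike k X) {L L' : X.Modules}
    (hL : PicF.IsInvertible L) (hL' : PicF.IsInvertible L') (hs' : Nontrivial (Coh.HH X L' 0)) :
    Module.finrank k (Coh.HH X L 0) ≤ Module.finrank k (Coh.HH X (CohB1.tensorMod L L') 0) := by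
  obtain ⟨z, hz⟩ := exists_ne (0 : Coh.HH X L' 0)
  have h1 := (isInvertible_iff_isFinLocFreeOfRank_one L').1 hL'
  haveI : Mono (secHom (hh0 L' z)) := (mono_iff_stalk _).2 (injective_stalk_secHom h1 (hh0_ne_zero hz))
  let S : ShortComplex X.Modules := ShortComplex.mk (secHom (hh0 L' z)) (cokernel.π _) (cokernel.condition _)
  have hS : S.ShortExact :=
    { exact := ShortComplex.exact_of_g_is_cokernel _ (cokernelIsCokernel _) }
  have hses : (S.map (tensorR L)).ShortExact := shortExact_tensorR hS L fun x =>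
      Module.Flat.of_linearEquiv (nonempty_stalk_equiv ((isInvertible_iff_isFinLocFreeOfRank_one L).1 hL) x).some
  haveI := hX.noetherian
  have hfin : Module.Finite k (Coh.HH X (CohB1.tensorMod L' L) 0) :=
    hX.fin _ (isCoh_of_ofRank ((isInvertible_iff_isFinLocFreeOfRank_one _).1 (isInvertible_tensor hL' hL))) 0
  have hinj := hmap_f_injective k hses
  have key : Module.finrank k (Coh.HH X (CohB1.tensorMod (Coh.structureModule X) L) 0) ≤
      Module.finrank k (Coh.HH X (CohB1.tensorMod L' L) 0) :=
    LinearMap.finrank_le_finrank_of_injective (R := k) (M := Coh.HH X (CohB1.tensorMod (Coh.structureModule X) L) 0)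
      (M' := Coh.HH X (CohB1.tensorMod L' L) 0) hinj
  rwa [(hequiv k (tensorLUnit L) 0).finrank_eq, ← (hequiv k (tensorComm L L') 0).finrank_eq] at key

/-- Hopf: `h⁰(L) + h⁰(L') ≤ h⁰(L ⊗ L') + 1`. -/
theorem CurveLike.hopf [IsAlgClosed k] [IsIntegral X] [LocallyOfFiniteType (X ↘ Spec (CommRingCat.of k))]
    (hX : CurveLike k X) (hdim : topologicalKrullDim X = 1) (hreg : ∀ x : X, IsRegularLocalRing (X.presheaf.stalk x))
    {L L' : X.Modules} (hL : PicF.IsInvertible L) (hL' : PicF.IsInvertible L')
    (hs : Nontrivial (Coh.HH X L 0)) (hs' : Nontrivial (Coh.HH X L' 0)) :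
    Module.finrank k (Coh.HH X L 0) + Module.finrank k (Coh.HH X L' 0) ≤
      Module.finrank k (Coh.HH X (CohB1.tensorMod L L') 0) + 1 := by
  haveI := hX.noetherian
  generalize hn : Module.finrank k (Coh.HH X L' 0) = n
  induction n using Nat.strong_induction_on generalizing L' with
  | _ n ih =>
    subst hn
    have hle := hX.h0_le_h0_tensor hL hL' hs'
    obtain ⟨z, hz⟩ := exists_ne (0 : Coh.HH X L 0)
    obtain ⟨z', hz'⟩ := exists_ne (0 : Coh.HH X L' 0)
    obtain ⟨P, hP, hg, hg'⟩ := exists_closed_gen (k := k) hL hL' (hh0_ne_zero hz) (hh0_ne_zero hz')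
    have hIi := isInvertible_pointIdeal hdim hreg hP
    set I := ClSub.idealMod (Scheme.IdealSheafData.vanishingIdeal (⟨{P}, hP⟩ : Closeds X))
    have e1 : Module.finrank k (Coh.HH X L' 0) = Module.finrank k (Coh.HH X (CohB1.tensorMod L' I) 0) + 1 :=
      hX.finrank_twist_of_span hL' hP
      ⟨hh0 L' z', top_le_iff.1 fun a _ => Submodule.mem_span_singleton.2 (hg'.2 a)⟩
    have e2 := hX.finrank_twist_of_span (isInvertible_tensor hL hL') hP (exists_span_tensor P hg hg')
    rw [(hequiv k (tensorAssoc L L' I) 0).finrank_eq] at e2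
    by_cases h1 : Nontrivial (Coh.HH X (CohB1.tensorMod L' I) 0)
    · have := ih (Module.finrank k (Coh.HH X (CohB1.tensorMod L' I) 0)) (by omega)
        (isInvertible_tensor hL' hIi) h1 rfl
      omega
    · rw [not_nontrivial_iff_subsingleton] at h1
      rw [Module.finrank_zero_of_subsingleton (M := Coh.HH X (CohB1.tensorMod L' I) 0)] at e1
      omega

end Groth.Agent.CurveCoh17
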