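import Groth.Agent.Lib.CurveCoh17.Twist
import Groth.Agent.Lib.CurveOm17.Glue
import Groth.Agent.Lib.SecDiv18.Basic
import Groth.Agent.Lib.BlowUpExist.Local
import Groth.Agent.Lib.TensorMod.Invertible

/-!
# The ideal module of a product of effective Cartier ideals

`idealMod (I * J) ≅ idealMod I ⊗ idealMod J` and `idealMod (I ^ n) ≅ (idealMod I)^{⊗ n}`.
-/

set_option linter.style.haveILetI false
set_option autoImplicit false

universe u

open CategoryTheory CategoryTheory.Limits CategoryTheory.MonoidalCategory TopologicalSpace Opposite AlgebraicGeometry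

set_option backward.isDefEq.respectTransparency false

namespace Groth.Agent.CurveCoh17

open Groth.Agent.M1 Groth.Agent.M2

variable {X : Scheme.{u}}

theorem tensorLUnit_tsec {M : X.Modules} {U : X.Opens} (r : Γ(X, U)) (t : Γ(M, U)) :
    (tensorLUnit M).hom.app U (tsec (Coh.structureModule X) M r t) = r • t := by
  have key : unitS (pm (Coh.structureModule X) ⊗ pm M) ≫ (pmF X).map (tensorLUnit M).hom = (λ_ (pm M)).hom := by
    have h2 : unitS (pm M) ≫ (pmF X).map (shfPmIso M).hom = 𝟙 _ := (adjS X).right_triangle_components M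
    have h1 : (pmF X).map (tensorLUnit M).hom =
        (pmF X).map ((shf X).map (λ_ (pm M)).hom) ≫ (pmF X).map (shfPmIso M).hom := Functor.map_comp _ _ _
    rw [h1, ← Category.assoc, ← unitS_naturality]
    exact (Category.assoc _ _ _).trans ((congrArg _ h2).trans (Category.comp_id _))
  exact congrArg (fun φ => φ.app (op U) (tm (pm (Coh.structureModule X)) (pm M) r t)) key

theorem nonempty_idealMod_mul {I J : X.IdealSheafData} (hI : BlowUp.IsEffCartierIdeal I)
    (hJ : BlowUp.IsEffCartierIdeal J) :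
    Nonempty (CohB1.tensorMod (ClSub.idealMod I) (ClSub.idealMod J) ≅ ClSub.idealMod (I * J)) := by
  have hi := isInvertible_idealMod I hI
  have hj := isInvertible_idealMod J hJ
  let φ : CohB1.tensorMod (ClSub.idealMod I) (ClSub.idealMod J) ⟶ Coh.structureModule X :=
    twistIncl I (ClSub.idealMod J) ≫ ClSub.idealModι J
  haveI : Mono (tensorMap (ClSub.idealModι I) (𝟙 (ClSub.idealMod J))) := (twistSES hj I).mono_f
  haveI : Mono (ClSub.idealModι J) := (shortExact_idealMod J).mono_f
  haveI : Mono φ := inferInstanceAs (Mono ((_ ≫ _) ≫ _))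
  haveI := isQCoh_of_isFinLocFree (isFinLocFree_of_isInvertible (isInvertible_tensor hi hj))
  obtain ⟨i⟩ := SecDiv.nonempty_iso_idealMod φ
  suffices h : SecDiv.ofMono φ = I * J from ⟨i ≪≫ eqToIso (congrArg _ h)⟩
  refine EffCartier.eq_of_forall_exists fun x => ?_
  obtain ⟨U, hxU, -, ⟨f, hf⟩, g, hg⟩ := EffCartier.exists_isEqn₂ hI hJ (W := ⊤) (Set.mem_univ x)
  obtain ⟨a, ha⟩ : f ∈ Set.range (idealIncl I (U := U.1)) := by
    rw [range_idealIncl, hf.ideal_eq]
    exact Ideal.subset_span rfl
  obtain ⟨b, hb⟩ : g ∈ Set.range (idealIncl J (U := U.1)) := by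
    rw [range_idealIncl, hg.ideal_eq]
    exact Ideal.subset_span rfl
  have hgen := CurveOm17.isGen_tsec (A := ClSub.idealMod I) (B := ClSub.idealMod J) (U := U.1)
    (isGenerator_idealMod I f hf.mem hf.ideal_eq a ha) (isGenerator_idealMod J g hg.mem hg.ideal_eq b hb)
  have hval : (show Γ(X, U.1) from φ.app U.1 (tsec _ _ a b)) = f * g := by
    show (ClSub.idealModι J).app U.1 ((tensorLUnit _).hom.app U.1
      ((tensorMap (ClSub.idealModι I) (𝟙 _)).app U.1 (tsec _ _ a b))) = _
    rw [tensorMap_tsec]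
    refine (congrArg ((ClSub.idealModι J).app U.1) (tensorLUnit_tsec (idealIncl I a) b)).trans ?_
    rw [show idealIncl I a = f from ha]
    exact (idealIncl_smul J f b).trans (congrArg (f * ·) hb)
  refine ⟨U, hxU, ?_⟩
  rw [Scheme.IdealSheafData.ideal_mul, Pi.mul_apply, hf.ideal_eq, hg.ideal_eq, Ideal.span_singleton_mul_span_singleton]
  ext s
  rw [Ideal.mem_span_singleton']
  constructor
  · rintro ⟨z, rfl⟩
    obtain ⟨r, rfl⟩ := CurveOm17.exists_eq_smul_of_isGen hgen z
    refine ⟨r, ?_⟩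
    rw [← hval]
    exact (Scheme.Modules.Hom.app_smul φ r _).symm
  · rintro ⟨r, rfl⟩
    exact ⟨r • tsec _ _ a b, (Scheme.Modules.Hom.app_smul φ r _).trans (congrArg (r * ·) hval)⟩

theorem nonempty_idealMod_pow {I : X.IdealSheafData} (hI : BlowUp.IsEffCartierIdeal I) :
    ∀ n : ℕ, Nonempty (CohB1.tensorPow (ClSub.idealMod I) n ≅ ClSub.idealMod (I ^ n))
  | 0 => by
    haveI := M1.isQCoh_structureModule X
    have h : I ^ 0 = SecDiv.ofMono (𝟙 (Coh.structureModule X)) := by
      rw [pow_zero, Scheme.IdealSheafData.one_eq_top]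
      refine le_antisymm (fun U s _ => ?_) le_top
      exact ⟨s, rfl⟩
    rw [h]
    exact SecDiv.nonempty_iso_idealMod (𝟙 (Coh.structureModule X))
  | n + 1 => by
    obtain ⟨e⟩ := nonempty_idealMod_pow hI n
    obtain ⟨e'⟩ := nonempty_idealMod_mul (BlowUpExist.isEffCartierIdeal_pow hI n) hI
    exact ⟨tensorIso e (Iso.refl _) ≪≫ e' ≪≫ eqToIso (congrArg _ (pow_succ I n).symm)⟩

end Groth.Agent.CurveCoh17
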