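import Groth.Agent.Lib.CurveCoh17.Twist
import Groth.Agent.Lib.RedSep.Basic
import Mathlib.AlgebraicGeometry.AlgClosed.Basic

/-!
# The length of a reduced closed point
-/

set_option linter.style.haveILetI false
set_option autoImplicit false
set_option maxHeartbeats 800000

universe u

open CategoryTheory TopologicalSpace Opposite CategoryTheory.Limits AlgebraicGeometry

namespace Groth.Agent.CurveCoh17

open Groth.Agent.M1 Groth.Agent.M2

variable {k : Type u} [Field k] {X : Scheme.{u}} [X.Over (Spec (CommRingCat.of k))] {x : X}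

attribute [local instance] stalkMod Curv2.resAlgebra

theorem suppIn_quotMod_point (hx : IsClosed ({x} : Set X)) :
    SuppIn (ClSub.quotMod (Scheme.IdealSheafData.vanishingIdeal (⟨{x}, hx⟩ : Closeds X))) ({x} : Finset X) :=
  ⟨fun z hz => by rw [Finset.mem_singleton.1 hz]; exact hx,
    fun z hz a => eq_zero_stalk_push (Scheme.IdealSheafData.vanishingIdeal (⟨{x}, hx⟩ : Closeds X)).subschemeι _
      (fun hr => hz (by
        rw [Scheme.IdealSheafData.range_subschemeι] at hr
        rw [Finset.mem_singleton]
        simpa using hr)) a⟩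

/-- The image of `1` generates `O/m_x` at `x`, with kernel the maximal ideal. -/
theorem exists_linearEquiv_residue (hx : IsClosed ({x} : Set X)) :
    Nonempty ((X.presheaf.stalk x ⧸ IsLocalRing.maximalIdeal (X.presheaf.stalk x)) ≃ₗ[X.presheaf.stalk x]
      (ClSub.quotMod (Scheme.IdealSheafData.vanishingIdeal (⟨{x}, hx⟩ : Closeds X))).presheaf.stalk x) := by
  obtain ⟨hkill, a₀, ha₀⟩ := quot_point_props hx
  let Z := Scheme.IdealSheafData.vanishingIdeal (⟨{x}, hx⟩ : Closeds X)
  haveI := epi_toSubscheme Z
  let g : (ClSub.quotMod Z).presheaf.stalk x :=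
    stalkLin (ClSub.toSubscheme Z) x ((Coh.structureModule X).presheaf.germ ⊤ x trivial (one ⊤))
  let φ : X.presheaf.stalk x →ₗ[X.presheaf.stalk x] (ClSub.quotMod Z).presheaf.stalk x :=
    LinearMap.toSpanSingleton (X.presheaf.stalk x) _ g
  have hsurj : Function.Surjective φ := fun a => by
    obtain ⟨b, hb⟩ := (epi_iff_stalk (ClSub.toSubscheme Z)).1 inferInstance x a
    obtain ⟨c, hc, -⟩ := stalkLin_secHom (one (X := X) ⊤) x b
    refine ⟨c, ?_⟩
    rw [LinearMap.toSpanSingleton_apply, ← map_smul, ← hc]
    exact hb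
  have hker : LinearMap.ker φ = IsLocalRing.maximalIdeal (X.presheaf.stalk x) := by
    refine ((IsLocalRing.maximalIdeal.isMaximal _).eq_of_le ?_ fun r hr => ?_).symm
    · intro htop
      obtain ⟨c, hc⟩ := hsurj a₀
      exact ha₀ (hc.symm.trans (LinearMap.mem_ker.1 (htop ▸ Submodule.mem_top : c ∈ LinearMap.ker φ)))
    · rw [LinearMap.mem_ker, LinearMap.toSpanSingleton_apply, hkill r hr]
  exact ⟨(Submodule.quotEquivOfEq _ _ hker.symm).trans (φ.quotKerEquivOfSurjective hsurj)⟩

/-- `h⁰(O_Z) = [κ(x) : k]` for the reduced point `Z = {x}`. -/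
theorem finrank_quotMod_point (hx : IsClosed ({x} : Set X)) :
    Module.finrank k (Coh.HH X (ClSub.quotMod (Scheme.IdealSheafData.vanishingIdeal (⟨{x}, hx⟩ : Closeds X))) 0) =
      Module.finrank k (X.residueField x) := by
  set M := ClSub.quotMod (Scheme.IdealSheafData.vanishingIdeal (⟨{x}, hx⟩ : Closeds X))
  obtain ⟨e⟩ := exists_linearEquiv_residue hx
  let p : Coh.HH X M 0 →ₗ[k] M.presheaf.stalk x :=
    (LinearMap.proj (R := k) (φ := fun i : ({x} : Finset X) => (M.presheaf.stalk (i : X) : Type u))
      ⟨x, Finset.mem_singleton_self x⟩).comp ((suppIn_quotMod_point hx).h0Equiv k).toLinearMap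
  have hp : Function.Bijective p := by
    refine ⟨fun a b h => ((suppIn_quotMod_point hx).h0Equiv k).injective (funext fun i => ?_), fun a => ?_⟩
    · obtain ⟨i, hi⟩ := i
      obtain rfl := Finset.mem_singleton.1 hi
      exact h
    · obtain ⟨z, hz⟩ := ((suppIn_quotMod_point hx).h0Equiv k).surjective fun i =>
        (Finset.mem_singleton.1 i.2).symm ▸ a
      refine ⟨z, ?_⟩
      show ((suppIn_quotMod_point hx).h0Equiv k z) ⟨x, Finset.mem_singleton_self x⟩ = a
      rw [hz]
  rw [(LinearEquiv.ofBijective p hp).finrank_eq]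
  let q : X.residueField x ≃+ M.presheaf.stalk x := e.toAddEquiv
  let q' : X.residueField x ≃ₗ[k] M.presheaf.stalk x :=
    { q with
      map_smul' := fun c a => by
        obtain ⟨r, rfl⟩ := Ideal.Quotient.mk_surjective (I := IsLocalRing.maximalIdeal (X.presheaf.stalk x)) a
        show e (Ideal.Quotient.mk _ (stalkRingMap k x c * r)) =
          stalkRingMap k x c • e (Ideal.Quotient.mk _ r)
        rw [← map_smul]
        rfl }
  exact q'.finrank_eq.symm

/-- The ideal of the point as the kernel of `Spec κ(x) → X`. -/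
theorem ker_fromSpecResidueField (hx : IsClosed ({x} : Set X)) :
    (X.fromSpecResidueField x).ker = Scheme.IdealSheafData.vanishingIdeal (⟨{x}, hx⟩ : Closeds X) := by
  haveI : IsClosedImmersion (X.fromSpecResidueField x) :=
    isClosed_singleton_iff_isClosedImmersion.mp hx
  rw [RedSepLib.ker_eq_vanishingIdeal]
  congr 1
  refine Closeds.ext ?_
  show closure (Set.range (X.fromSpecResidueField x)) = {x}
  rw [Scheme.range_fromSpecResidueField, hx.closure_eq]

/-- Over an algebraically closed field a closed point has length one. -/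
theorem finrank_residueField [IsAlgClosed k] [LocallyOfFiniteType (X ↘ Spec (CommRingCat.of k))]
    (hx : IsClosed ({x} : Set X)) : Module.finrank k (X.residueField x) = 1 := by
  have h : Function.Bijective (algebraMap k (X.residueField x)) := by
    set f := X ↘ Spec (CommRingCat.of k)
    set ρ := (residueFieldIsoBase f x hx).inv with hρ
    have h : Spec.map ρ = X.fromSpecResidueField x ≫ f := SpecMap_residueFieldIsoBase_inv f x hx
    have e : ρ = (Scheme.ΓSpecIso (CommRingCat.of k)).inv ≫ f.appTop ≫ X.presheaf.germ ⊤ x trivial ≫ X.residue x := by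
      rw [← cancel_mono (Scheme.ΓSpecIso (X.residueField x)).inv, Scheme.ΓSpecIso_inv_naturality, h,
        Scheme.Hom.comp_appTop, Scheme.fromSpecResidueField, Scheme.Hom.comp_appTop, Scheme.fromSpecStalk_appTop]
      simp only [Category.assoc]
      rw [Scheme.ΓSpecIso_inv_naturality]
      simp
    have hb : Function.Bijective ρ := ConcreteCategory.bijective_of_isIso ρ
    rw [e] at hb
    exact hb
  exact ((AlgEquiv.ofBijective (Algebra.ofId k (X.residueField x)) h).toLinearEquiv.finrank_eq).symm.trans
    (Module.finrank_self k)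

end Groth.Agent.CurveCoh17
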