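import Groth.Agent.Lib.CurveCoh17.Degree
import Mathlib.FieldTheory.IsAlgClosed.Basic

/-!
# Global functions of an integral curve over an algebraically closed field
-/

set_option linter.style.haveILetI false
set_option autoImplicit false

universe u

open CategoryTheory TopologicalSpace Opposite CategoryTheory.Limits AlgebraicGeometry

namespace Groth.Agent.CurveCoh17

open Groth.Agent.M1 Groth.Agent.M2

variable {k : Type u} [Field k] {X : Scheme.{u}} [X.Over (Spec (CommRingCat.of k))]

theorem CurveLike.h0_eq_one [IsAlgClosed k] [IsIntegral X] (hX : CurveLike k X) :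
    Module.finrank k (Coh.HH X (Coh.structureModule X) 0) = 1 := by
  haveI := hX.noetherian
  let f := X ↘ Spec (CommRingCat.of k)
  let g : k →+* Γ(X, ⊤) := ((Scheme.ΓSpecIso (CommRingCat.of k)).inv ≫ f.appTop).hom
  letI : Algebra k Γ(X, ⊤) := g.toAlgebra
  haveI hfin := hX.fin _ (isCoh_of_ofRank ((isInvertible_iff_isFinLocFreeOfRank_one _).1
    (PicLoc.isInvertible_structureModule X))) 0
  let e : Coh.HH X (Coh.structureModule X) 0 ≃+ Γ(X, ⊤) :=
    Sheaf.H.equiv₀ (Coh.toAb (Coh.structureModule X)) (isTerminalTop (α := X.Opens))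
  have he : ∀ (c : k) x, e (c • x) = g c * e x := by
    intro c x
    refine ((Sheaf.H.equiv₀_naturality (isTerminalTop (α := X.Opens))
      (Coh.smulAb (Coh.structureModule X) (Coh.toGlobal f c)) x).symm).trans ?_
    refine (Coh.smulAb_app _ _ _ _).trans ?_
    show Coh.resTop X (Opposite.op ⊤) _ * _ = _
    simp [g, Coh.resTop, Coh.toGlobal]
    rfl
  let el : Coh.HH X (Coh.structureModule X) 0 ≃ₗ[k] Γ(X, ⊤) :=
    { e with map_smul' := fun c x => he c x }
  haveI : Module.Finite k Γ(X, ⊤) := Module.Finite.equiv el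
  obtain ⟨x⟩ := (inferInstance : Nonempty X)
  haveI : Nontrivial Γ(X, ⊤) := (X.presheaf.germ ⊤ x trivial).hom.domain_nontrivial
  haveI : IsDomain Γ(X, ⊤) := inferInstance
  have hb : Function.Bijective (algebraMap k Γ(X, ⊤)) := IsAlgClosed.algebraMap_bijective_of_isIntegral
  rw [el.finrank_eq, ← (LinearEquiv.ofBijective (Algebra.linearMap k Γ(X, ⊤)) hb).finrank_eq, Module.finrank_self]

end Groth.Agent.CurveCoh17
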