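import Groth.Agent.Lib.CurveCoh17.RegPoint
import Groth.Agent.Lib.CurveCoh17.Point
import Groth.Agent.Lib.VB17.Line
import Groth.Agent.Lib.VB17.Bound
import Groth.Agent.Lib.VB17.Saturate
import Groth.Agent.Lib.VB17.Proper
import Groth.Agent.Lib.CurveCoh17.Equality
import Groth.Agent.Lib.TensorMod.Dual
import Groth.Agent.Lib.AmpleFin18.PushEuler
import Mathlib.LinearAlgebra.Dual.Lemmas

/-!
# Bundles with a generically perfect pairing into the structure sheaf have non-positive degree sum

If `A`, `B` are locally free of rank `r` on a regular integral proper curve and `β : A ⊗ B → O` has trivial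
right kernel at the generic point, then `deg A + deg B ≤ 0`.
-/

set_option linter.style.haveILetI false
set_option autoImplicit false
set_option maxHeartbeats 800000

universe u

open CategoryTheory TopologicalSpace Opposite CategoryTheory.Limits AlgebraicGeometry
open scoped TensorProduct

namespace Groth.Agent.CurveCoh17

open Groth.Agent.M1 Groth.Agent.M2

variable {X : Scheme.{u}}

/-- Transposition: `M ⊗ L → N` gives `M → Hom(L, N)`. -/
noncomputable def currySec {M L N : X.Modules} (γ : CohB1.tensorMod M L ⟶ N) (U : X.Opens) (b : Γ(M, U)) :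
    HomSec L N U :=
  ⟨fun V =>
    { toFun := fun s => γ.app V.1 (tsec M L (M2.res M V.2 b) s)
      map_add' := fun s t => by rw [tsec_add_right, map_add]
      map_smul' := fun r s => by
        rw [tsec_smul_right, Scheme.Modules.Hom.app_smul]
        rfl },
   fun V V' h s => by
    show γ.app V'.1 (tsec M L (M2.res M V'.2 b) (M2.res L h s)) = M2.res N h (γ.app V.1 (tsec M L (M2.res M V.2 b) s))
    rw [show M2.res M V'.2 b = M2.res M h (M2.res M V.2 b) from (mres_mres M V.2 h b).symm, ← res_tsec]
    exact M1.app_mres γ h _⟩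

/-- Transposition: `M ⊗ L → N` gives `M → Hom(L, N)`. -/
noncomputable def curry {M L N : X.Modules} (γ : CohB1.tensorMod M L ⟶ N) : M ⟶ homMod L N :=
  ⟨PresheafOfModules.homMk
    { app := fun U => AddCommGrpCat.ofHom
        { toFun := fun b => currySec γ U.unop b
          map_zero' := Subtype.ext (funext fun V => LinearMap.ext fun s => by
            show γ.app V.1 (tsec M L (M2.res M V.2 0) s) = 0
            have h0 : tsec M L (M2.res M V.2 (0 : Γ(M, U.unop))) s = 0 := by
              rw [show M2.res M V.2 (0 : Γ(M, U.unop)) = 0 from map_zero _]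
              exact (AddMonoidHom.mk' (fun z => tsec M L z s) fun z z' => tsec_add_left z z' s).map_zero
            rw [h0, map_zero])
          map_add' := fun b c => Subtype.ext (funext fun V => LinearMap.ext fun s => by
            show γ.app V.1 (tsec M L (M2.res M V.2 (b + c)) s) =
              γ.app V.1 (tsec M L (M2.res M V.2 b) s) + γ.app V.1 (tsec M L (M2.res M V.2 c) s)
            rw [← map_add, ← tsec_add_left]
            exact congrArg _ (congrArg (fun z => tsec M L z s) (map_add _ b c))) }
      naturality := fun {U V} i => by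
        ext b
        exact Subtype.ext (funext fun W => LinearMap.ext fun s =>
          congrArg (fun z => γ.app W.1 (tsec M L z s)) (mres_mres M (leOfHom i.unop) W.2 b)) }
    fun U r b => Subtype.ext (funext fun V => LinearMap.ext fun s => by
    show γ.app V.1 (tsec M L (M2.res M V.2 (r • b)) s) =
      X.presheaf.map (homOfLE V.2).op r • γ.app V.1 (tsec M L (M2.res M V.2 b) s)
    rw [← Scheme.Modules.Hom.app_smul, ← tsec_smul_left]
    exact congrArg _ (congrArg (fun z => tsec M L z s) (Scheme.Modules.map_smul M (homOfLE V.2) r b)))⟩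

theorem tensorComm_tsec (A B : X.Modules) {U : X.Opens} (s : Γ(A, U)) (t : Γ(B, U)) :
    (tensorComm A B).hom.app U (tsec A B s t) = tsec B A t s := by
  have h := congrArg (fun φ => φ.app (op U) (tm (pm A) (pm B) s t)) (unitS_naturality (β_ (pm A) (pm B)).hom)
  exact h.symm

theorem curry_eval {M L N : X.Modules} (γ : CohB1.tensorMod M L ⟶ N) :
    tensorMap (curry γ) (𝟙 L) ≫ evalHom L N = γ :=
  tensorMod_hom_ext fun U b s => by
    rw [Scheme.Modules.Hom.comp_app, CategoryTheory.comp_apply, tensorMap_tsec]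
    refine (mkHom_tsec (evalBiMap L N) _ _).trans ?_
    show γ.app U (tsec M L (M2.res M le_rfl b) s) = _
    rw [show M2.res M (le_refl U) b = b from M1.mres_id M (le_refl U) b]

/-- The bilinear form on stalks of a pairing. -/
noncomputable def bil {A B N : X.Modules} (γ : CohB1.tensorMod A B ⟶ N) (x : X) :
    A.presheaf.stalk x →ₗ[X.presheaf.stalk x] B.presheaf.stalk x →ₗ[X.presheaf.stalk x] N.presheaf.stalk x :=
  (TensorProduct.mk (X.presheaf.stalk x) (A.presheaf.stalk x) (B.presheaf.stalk x)).compr₂
    ((stalkLin γ x).comp (stalkEquiv A B x).symm.toLinearMap)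

theorem bil_apply {A B N : X.Modules} (γ : CohB1.tensorMod A B ⟶ N) (x : X) (a : A.presheaf.stalk x)
    (b : B.presheaf.stalk x) : bil γ x a b = stalkLin γ x ((stalkEquiv A B x).symm (a ⊗ₜ b)) := rfl

theorem stalkLin_tensorMap_symm {A A' B B' : X.Modules} (f : A ⟶ A') (g : B ⟶ B') (x : X)
    (a : A.presheaf.stalk x) (b : B.presheaf.stalk x) :
    stalkLin (tensorMap f g) x ((stalkEquiv A B x).symm (a ⊗ₜ b)) =
      (stalkEquiv A' B' x).symm (stalkLin f x a ⊗ₜ stalkLin g x b) := by
  obtain ⟨U, hx, s, t, rfl, rfl⟩ := exists_germ_germ x a b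
  rw [(LinearEquiv.symm_apply_eq _).2 (stalkEquiv_tsec A B x hx s t).symm]
  simp only [stalkLin_apply, germ_naturality, tensorMap_tsec]
  exact ((LinearEquiv.symm_apply_eq _).2 (stalkEquiv_tsec A' B' x hx _ _).symm).symm

theorem bil_tensorMap {A A' B B' N : X.Modules} (f : A ⟶ A') (g : B ⟶ B')
    (γ : CohB1.tensorMod A' B' ⟶ N) (x : X) (a : A.presheaf.stalk x) (b : B.presheaf.stalk x) :
    bil (tensorMap f g ≫ γ) x a b = bil γ x (stalkLin f x a) (stalkLin g x b) := by
  rw [bil_apply, bil_apply, stalkLin_comp, stalkLin_tensorMap_symm]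

theorem stalkLin_tensorComm_symm (A B : X.Modules) (x : X) (a : A.presheaf.stalk x) (b : B.presheaf.stalk x) :
    bil (tensorComm A B).hom x a b = (stalkEquiv B A x).symm (b ⊗ₜ a) := by
  obtain ⟨U, hx, s, t, rfl, rfl⟩ := exists_germ_germ x a b
  rw [bil_apply, (LinearEquiv.symm_apply_eq _).2 (stalkEquiv_tsec A B x hx s t).symm, stalkLin_apply,
    germ_naturality]
  refine (LinearEquiv.eq_symm_apply _).2 ?_
  refine (congrArg (fun z => stalkEquiv B A x ((CohB1.tensorMod B A).presheaf.germ U x hx z)) ?_).trans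
    (stalkEquiv_tsec B A x hx t s)
  exact tensorComm_tsec A B s t

variable {k : Type u} [Field k] [X.Over (Spec (CommRingCat.of k))]

/-- A locally free module of positive rank on a regular curve contains an invertible module. -/
theorem exists_line_sub [IsIntegral X] (hX : VB17.RegCurve k X) (hdim : topologicalKrullDim X = 1) {r : ℕ}
    (hr : 0 < r) {E : X.Modules} (hE : FlatMod.IsFinLocFreeOfRank r E) :
    ∃ (L : X.Modules) (i : L ⟶ E), PicF.IsInvertible L ∧ Mono i := by
  haveI := hX.like.noetherian
  obtain ⟨x, hx⟩ : ∃ x : X, IsClosed ({x} : Set X) := by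
    by_contra hno
    push Not at hno
    have hall : ∀ x : X, x = genericPoint X := fun x =>
      by_contra fun h => hno x (AmpleFin18.isClosed_of_ne_genericPoint hdim.le h)
    haveI : Subsingleton X := ⟨fun a b => (hall a).trans (hall b).symm⟩
    exact hno (genericPoint X) Set.subsingleton_of_subsingleton.isClosed
  set Z := Scheme.IdealSheafData.vanishingIdeal (⟨{x}, hx⟩ : Closeds X)
  obtain ⟨h1, hd⟩ : PicF.IsInvertible (ClSub.idealMod Z) ∧ Curv2.deg k X (ClSub.idealMod Z) 1 < 0 := by
    have hO : FlatMod.IsFinLocFreeOfRank 1 (Coh.structureModule X) :=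
      (isInvertible_iff_isFinLocFreeOfRank_one _).1 (PicLoc.isInvertible_structureModule X)
    haveI : Mono (ClSub.idealModι Z) := (shortExact_idealMod Z).mono_f
    obtain ⟨r', hr', hI⟩ := VB17.exists_rank_of_mono hX.pid hO (isCoh_idealMod Z) (ClSub.idealModι Z)
    have hne := genericPoint_ne_of_isClosed hdim hx
    have hsurj : Function.Surjective (stalkLin (ClSub.idealModι Z) (genericPoint X)) := fun a =>
      (exact_iff_stalk_eq_zero _).1 (shortExact_idealMod Z).exact _ a
        ((suppIn_quotMod_point hx).zero _ (by simpa using hne) _)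
    have : r' = 1 := by
      rw [← VB17.finrank_stalk hI (genericPoint X), ← VB17.finrank_stalk hO (genericPoint X)]
      exact (LinearEquiv.ofBijective _
        ⟨(mono_iff_stalk (ClSub.idealModι Z)).1 inferInstance _, hsurj⟩).finrank_eq
    subst this
    refine ⟨(isInvertible_iff_isFinLocFreeOfRank_one _).2 hI, ?_⟩
    obtain ⟨hle, heq⟩ := VB17.deg_le_of_mono hX.like hI hO (ClSub.idealModι Z)
    rw [deg_structureModule] at hle heq
    refine lt_of_le_of_ne hle fun h0 => ?_
    haveI := heq h0
    obtain ⟨a, ha⟩ := (quot_point_props hx).2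
    obtain ⟨w, rfl⟩ := (epi_iff_stalk (ClSub.toSubscheme Z)).1 (shortExact_idealMod Z).epi_g x a
    obtain ⟨v, rfl⟩ := surjective_stalkLin_of_isIso (ClSub.idealModι Z) x w
    apply ha
    refine (stalkLin_comp (ClSub.idealModι Z) (ClSub.toSubscheme Z) x v).symm.trans ?_
    rw [show ClSub.idealModι Z ≫ ClSub.toSubscheme Z = 0 from kernel.condition _]
    show (stalkAb x).map (0 : ClSub.idealMod Z ⟶ ClSub.quotMod Z) v = 0
    rw [Functor.map_zero]
    rfl
  obtain ⟨D, hD, ⟨e⟩⟩ := exists_inverse h1
  have hdD : 1 ≤ Curv2.deg k X D 1 := by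
    rw [hX.like.deg_of_tensor_iso h1 hD e]; omega
  obtain ⟨N, hN⟩ : ∃ N : ℕ, -(Curv2.euler k X E) < (N : ℤ) := ⟨(-(Curv2.euler k X E)).toNat + 1, by omega⟩
  have hDN := isInvertible_tensorPow hD N
  obtain ⟨D', hD', ⟨e'⟩⟩ := exists_inverse hDN
  refine ⟨D', ?_⟩
  suffices h : Nontrivial (Coh.HH X (CohB1.tensorMod E (CohB1.tensorPow D N)) 0) by
    obtain ⟨i, hi⟩ := VB17.exists_mono_of_section hE hDN hD' e' h
    exact ⟨i, hD', hi⟩
  have h1N := (isInvertible_iff_isFinLocFreeOfRank_one _).1 hDN
  have hc := isCoh_of_ofRank (isFinLocFreeOfRank_tensor hE h1N)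
  have h := hX.like.deg_tensor hE h1N
  rw [hX.like.deg_tensorPow hD, mul_one, Curv2.deg, Curv2.deg, (hX.like.adm hc).euler_eq] at h
  haveI := hX.like.fin _ hc 0
  refine Module.nontrivial_of_finrank_pos (R := k) ?_
  have h2 : (N : ℤ) ≤ (r : ℤ) * ((N : ℤ) * Curv2.deg k X D 1) := by
    have h3 : (N : ℤ) * 1 ≤ (N : ℤ) * Curv2.deg k X D 1 := mul_le_mul_of_nonneg_left hdD (by positivity)
    have h4 : (1 : ℤ) * ((N : ℤ) * Curv2.deg k X D 1) ≤ (r : ℤ) * ((N : ℤ) * Curv2.deg k X D 1) :=
      mul_le_mul_of_nonneg_right (by exact_mod_cast hr) (by nlinarith)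
    linarith
  push_cast at h
  omega

/-- An invertible submodule with locally free quotient. -/
theorem exists_saturated_line [IsIntegral X] (hX : VB17.RegCurve k X) (hdim : topologicalKrullDim X = 1) {r : ℕ}
    {E : X.Modules} (hE : FlatMod.IsFinLocFreeOfRank (r + 1) E) :
    ∃ (L : X.Modules) (i : L ⟶ E), PicF.IsInvertible L ∧ Mono i ∧
      FlatMod.IsFinLocFreeOfRank r (cokernel i) := by
  classical
  haveI := hX.like.noetherian
  obtain ⟨L₀, i₀, hL₀, hi₀⟩ := exists_line_sub hX hdim r.succ_pos hE
  obtain ⟨N, hN⟩ := VB17.deg_sub_bdd hX hE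
  obtain ⟨d, ⟨L, i, hi, hL, rfl⟩, hmax⟩ := Int.exists_greatest_of_bdd
    (P := fun d => ∃ (L : X.Modules) (i : L ⟶ E), Mono i ∧ FlatMod.IsFinLocFreeOfRank 1 L ∧
      Curv2.deg k X L 1 = d)
    ⟨N, fun d ⟨L, i, hi, hL, hd⟩ => hd ▸ hN L 1 i hi hL⟩
    ⟨_, L₀, i₀, hi₀, (isInvertible_iff_isFinLocFreeOfRank_one L₀).1 hL₀, rfl⟩
  haveI := hi
  have hQ := VB17.isFinLocFree_cokernel hX hE hL i fun P j hj hP => hmax _ ⟨P, j, hj, hP, rfl⟩
  obtain ⟨s, hs⟩ := VB17.exists_rank_of_isFinLocFree hQ
  have hS : (ShortComplex.mk i (cokernel.π i) (cokernel.condition i)).ShortExact :=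
    { exact := ShortComplex.exact_of_g_is_cokernel _ (cokernelIsCokernel _) }
  have := VB17.rank_add hS hL hE hs
  obtain rfl : s = r := by omega
  exact ⟨L, i, (isInvertible_iff_isFinLocFreeOfRank_one L).2 hL, hi, hs⟩

/-- A pairing into the structure sheaf with trivial right kernel at the generic point bounds the degrees. -/
theorem deg_add_nonpos [IsIntegral X] (hX : VB17.RegCurve k X) (hdim : topologicalKrullDim X = 1) :
    ∀ (r : ℕ) {A B : X.Modules} (_ : FlatMod.IsFinLocFreeOfRank r A) (_ : FlatMod.IsFinLocFreeOfRank r B)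
      (β : CohB1.tensorMod A B ⟶ Coh.structureModule X)
      (_ : ∀ b, (∀ a, bil β (genericPoint X) a b = 0) → b = 0),
      Curv2.deg k X A r + Curv2.deg k X B r ≤ 0 := by
  haveI := hX.like.noetherian
  set η := genericPoint X
  intro r
  induction r with
  | zero =>
    intro A B hA hB β _
    rw [VB17.deg_rank_zero hX.like hA, VB17.deg_rank_zero hX.like hB]; norm_num
  | succ r ih =>
    intro A B hA hB β hnd
    obtain ⟨L, i, hL, hi, hQ⟩ := exists_saturated_line hX hdim hA
    haveI := hi
    have hL1 := (isInvertible_iff_isFinLocFreeOfRank_one L).1 hL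
    have hS : (ShortComplex.mk i (cokernel.π i) (cokernel.condition i)).ShortExact :=
      { exact := ShortComplex.exact_of_g_is_cokernel _ (cokernelIsCokernel _) }
    -- `B → L^∨`
    let γ : CohB1.tensorMod B L ⟶ Coh.structureModule X := (tensorComm B L).hom ≫ tensorMap i (𝟙 B) ≫ β
    let ψ : B ⟶ dualMod L := curry γ
    have hγ : ∀ b l, bil γ η b l = bil β η (stalkLin i η l) b := fun b l => by
      rw [bil_apply, show γ = (tensorComm B L).hom ≫ tensorMap i (𝟙 B) ≫ β from rfl, stalkLin_comp]
      refine (congrArg (stalkLin (tensorMap i (𝟙 B) ≫ β) η) (stalkLin_tensorComm_symm B L η b l)).trans ?_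
      refine (bil_tensorMap i (𝟙 B) β η l b).trans ?_
      congr 1
      exact LinearMap.congr_fun (show stalkLin (𝟙 B) η = LinearMap.id from LinearMap.ext fun z => by
        show (stalkAb η).map (𝟙 B) z = z
        rw [CategoryTheory.Functor.map_id]; rfl) b
    have hD := isInvertible_dualMod hL
    have hD1 := (isInvertible_iff_isFinLocFreeOfRank_one _).1 hD
    -- `ψ` is not zero
    have hψ : ψ ≠ 0 := by
      intro h0
      have hγ0 : γ = 0 := by
        rw [← curry_eval γ, show curry γ = 0 from h0]
        refine tensorMod_hom_ext fun U b s => ?_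
        rw [Scheme.Modules.Hom.comp_app, CategoryTheory.comp_apply, tensorMap_tsec]
        refine (mkHom_tsec (evalBiMap L _) _ _).trans ?_
        rfl
      obtain ⟨eA⟩ := nonempty_stalk_equiv hA η
      obtain ⟨eB⟩ := nonempty_stalk_equiv hB η
      obtain ⟨eL⟩ := nonempty_stalk_equiv hL1 η
      obtain ⟨e₁⟩ := nonempty_stalk_equiv_structureModule (X := X) η
      let e₁' := e₁.trans (LinearEquiv.funUnique (Fin 1) (X.presheaf.stalk η) (X.presheaf.stalk η))
      letI : Field (X.presheaf.stalk η) := inferInstanceAs (Field X.functionField)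
      let Φ : B.presheaf.stalk η →ₗ[X.presheaf.stalk η] Module.Dual (X.presheaf.stalk η) (A.presheaf.stalk η) :=
        ((bil β η).flip).compr₂ e₁'.toLinearMap
      have hinj : Function.Injective Φ := (injective_iff_map_eq_zero Φ).2 fun b hb => hnd b fun a =>
        e₁'.injective ((LinearMap.congr_fun hb a).trans (map_zero e₁').symm)
      haveI : Module.Finite (X.presheaf.stalk η) (A.presheaf.stalk η) := Module.Finite.equiv eA.symm
      haveI : Module.Finite (X.presheaf.stalk η) (B.presheaf.stalk η) := Module.Finite.equiv eB.symm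
      have hdimeq : Module.finrank (X.presheaf.stalk η) (B.presheaf.stalk η) =
          Module.finrank (X.presheaf.stalk η) (Module.Dual (X.presheaf.stalk η) (A.presheaf.stalk η)) := by
        rw [Subspace.dual_finrank_eq, VB17.finrank_stalk hA η, VB17.finrank_stalk hB η]
      have hsurj := (LinearMap.injective_iff_surjective_of_finrank_eq_finrank hdimeq).1 hinj
      have hl : stalkLin i η (eL.symm 1) ≠ 0 := fun h => by
        have h2 : eL.symm 1 = 0 := (mono_iff_stalk i).1 inferInstance η (h.trans (map_zero (stalkLin i η)).symm)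
        have h3 := congrFun ((congrArg eL h2).trans (map_zero eL)) 0
        rw [LinearEquiv.apply_symm_apply] at h3
        exact one_ne_zero h3
      refine hl ((Module.forall_dual_apply_eq_zero_iff (X.presheaf.stalk η) _).1 fun f => ?_)
      obtain ⟨b, rfl⟩ := hsurj f
      show e₁' (bil β η (stalkLin i η (eL.symm 1)) b) = 0
      rw [← hγ, hγ0, bil_apply]
      refine (congrArg e₁' ?_).trans (map_zero e₁')
      show (stalkAb η).map (0 : CohB1.tensorMod B L ⟶ Coh.structureModule X) _ = 0
      rw [Functor.map_zero]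
      rfl
    obtain ⟨rK, rI, hK, hI, hadd, hle, hz, -⟩ := VB17.exists_image hX.pid hB hD1 ψ
    obtain rfl : rI = 1 := by
      rcases Nat.le_one_iff_eq_zero_or_eq_one.1 hle with h | h
      · exact absurd (hz.1 h) hψ
      · exact h
    obtain rfl : rK = r := by omega
    have hdegB := VB17.deg_add hX.like (kerSC_shortExact ψ) hK hB hI
    have hdegI := (VB17.deg_le_of_mono hX.like hI hD1 (Abelian.image.ι ψ)).1
    have hdD : Curv2.deg k X (dualMod L) 1 = -Curv2.deg k X L 1 :=
      hX.like.deg_of_tensor_iso hL hD (tensorComm _ _ ≪≫ dualTensorIso hL)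
    have hdegA := VB17.deg_add hX.like hS hL1 hA hQ
    -- the induced pairing
    have hzero : tensorMap i (𝟙 (kernel ψ)) ≫ tensorMap (𝟙 A) (kernel.ι ψ) ≫ β = 0 := by
      refine tensorMod_hom_ext fun U l b => ?_
      rw [Scheme.Modules.Hom.comp_app, CategoryTheory.comp_apply, tensorMap_tsec, Scheme.Modules.Hom.comp_app,
        CategoryTheory.comp_apply, tensorMap_tsec]
      have h := congrArg (fun g => Scheme.Modules.Hom.app g U (tsec (kernel ψ) L b l))
        (show tensorMap (kernel.ι ψ ≫ ψ) (𝟙 L) ≫ evalHom L (Coh.structureModule X) =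
          tensorMap (kernel.ι ψ) (𝟙 L) ≫ γ from by
            conv_rhs => rw [← curry_eval γ, ← Category.assoc, ← tensorMap_comp, Category.comp_id])
      simp only [Scheme.Modules.Hom.comp_app, CategoryTheory.comp_apply, tensorMap_tsec] at h
      have hl : (evalHom L (Coh.structureModule X)).app U
          (tsec (dualMod L) L (ψ.app U ((kernel.ι ψ).app U b)) ((𝟙 L : L ⟶ L).app U l)) = 0 := by
        have h0 : ψ.app U ((kernel.ι ψ).app U b) = 0 := by
          have h1 := congrArg (fun g => Scheme.Modules.Hom.app g U b) (kernel.condition ψ)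
          rw [Scheme.Modules.Hom.comp_app, CategoryTheory.comp_apply] at h1
          exact h1.trans rfl
        refine (mkHom_tsec (evalBiMap L _) _ _).trans ?_
        rw [h0]
        rfl
      have hγU : γ.app U (tsec B L ((kernel.ι ψ).app U b) l) = β.app U (tsec A B (i.app U l) ((kernel.ι ψ).app U b)) := by
        show ((tensorComm B L).hom ≫ tensorMap i (𝟙 B) ≫ β).app U _ = _
        rw [Scheme.Modules.Hom.comp_app, CategoryTheory.comp_apply, Scheme.Modules.Hom.comp_app,
          CategoryTheory.comp_apply]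
        refine (congrArg (fun z => β.app U ((tensorMap i (𝟙 B)).app U z))
          (tensorComm_tsec B L ((kernel.ι ψ).app U b) l)).trans ?_
        rw [tensorMap_tsec]
        rfl
      exact hγU.symm.trans ((h.symm.trans hl).trans rfl)
    have hS' := shortExact_tensorR hS (kernel ψ) fun x =>
      Module.Flat.of_linearEquiv (nonempty_stalk_equiv hK x).some
    haveI : Epi (ShortComplex.map (ShortComplex.mk i (cokernel.π i) (cokernel.condition i)) (tensorR (kernel ψ))).g :=
      hS'.epi_g
    let β' : CohB1.tensorMod (cokernel i) (kernel ψ) ⟶ Coh.structureModule X :=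
      hS'.exact.desc (tensorMap (𝟙 A) (kernel.ι ψ) ≫ β) hzero
    have hβ' : tensorMap (cokernel.π i) (𝟙 (kernel ψ)) ≫ β' = tensorMap (𝟙 A) (kernel.ι ψ) ≫ β :=
      hS'.exact.g_desc _ hzero
    have hnd' : ∀ b, (∀ a, bil β' η a b = 0) → b = 0 := fun b hb => by
      apply (mono_iff_stalk (kernel.ι ψ)).1 inferInstance η
      refine (hnd _ fun a => ?_).trans (map_zero _).symm
      have h1 := congrArg (fun g => bil g η a b) hβ'
      simp only [bil_tensorMap] at h1
      rw [show stalkLin (𝟙 (kernel ψ)) η b = b from by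
        show (stalkAb η).map (𝟙 _) b = b; rw [CategoryTheory.Functor.map_id]; rfl, hb] at h1
      refine (Eq.trans ?_ h1.symm)
      congr 2
      · exact (show stalkLin (𝟙 A) η a = a from by
          show (stalkAb η).map (𝟙 _) a = a; rw [CategoryTheory.Functor.map_id]; rfl).symm
    have hih := ih hQ hK β' hnd'
    change Curv2.deg k X B (rK + 1) = Curv2.deg k X (kernel ψ) rK + Curv2.deg k X (Abelian.image ψ) 1 at hdegB
    change Curv2.deg k X A (rK + 1) = Curv2.deg k X L 1 + Curv2.deg k X (cokernel i) rK at hdegA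
    linarith

end Groth.Agent.CurveCoh17
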