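import Groth.Agent.Lib.CurveCoh17.Vanish
import Groth.Agent.Lib.P1Split17.Basis
import Groth.Agent.Lib.TensorMod.Invertible
import Groth.Agent.Lib.PushFin12.Basic

/-!
# Comparing a locally free module with a free one outside finitely many closed points
-/

set_option linter.style.haveILetI false
set_option autoImplicit false

universe u

open CategoryTheory TopologicalSpace Opposite CategoryTheory.Limits AlgebraicGeometry

namespace Groth.Agent.CurveCoh17

open Groth.Agent.M1 Groth.Agent.P1Split Groth.Agent.M2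

variable {X Y : Scheme.{u}} {r : ℕ}

/-- Free stalks of a locally free module. -/
theorem nonempty_stalk_equiv {E : X.Modules} (hE : FlatMod.IsFinLocFreeOfRank r E) (x : X) :
    Nonempty (E.presheaf.stalk x ≃ₗ[X.presheaf.stalk x] (Fin r → X.presheaf.stalk x)) := by
  obtain ⟨D, e, hxD, he⟩ := exists_isBas_nhd hE x
  let L : (Fin r → X.presheaf.stalk x) →ₗ[X.presheaf.stalk x] E.presheaf.stalk x :=
    Fintype.linearCombination (X.presheaf.stalk x) fun i => (E.presheaf.germ D x hxD (e i) : E.presheaf.stalk x)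
  have hL : Function.Bijective L := he.stalk hxD
  exact ⟨(LinearEquiv.ofBijective L hL).symm⟩

/-- Restricting a basis along an open immersion. -/
theorem isBas_restrict (j : Y ⟶ X) [IsOpenImmersion j] (M : X.Modules) {D : Y.Opens}
    {e : Fin r → Γ(M, j ''ᵁ D)} (he : IsBas M (j ''ᵁ D) e) :
    IsBas (M.restrict j) D (fun i => (e i : Γ(M.restrict j, D))) := by
  intro W hW
  have key : ∀ (c : Fin r → Γ(Y, W)) i,
      (c i • M1.mres (M.restrict j) hW (e i : Γ(M.restrict j, D)) : Γ(M, j ''ᵁ W)) =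
      ((j.appIso W).inv (c i) : Γ(X, j ''ᵁ W)) • M1.mres M (Scheme.Hom.image_mono _ hW) (e i) := fun c i => rfl
  have : (fun c : Fin r → Γ(Y, W) => ∑ i, c i • M1.mres (M.restrict j) hW (e i : Γ(M.restrict j, D))) =
      (fun c : Fin r → Γ(X, j ''ᵁ W) => ∑ i, c i • M1.mres M (Scheme.Hom.image_mono _ hW) (e i)) ∘
        fun c i => (j.appIso W).inv (c i) :=
    funext fun c => Finset.sum_congr rfl fun i _ => key c i
  rw [this]
  exact (he (j ''ᵁ W) (Scheme.Hom.image_mono _ hW)).comp (Equiv.piCongrRight fun _ => Equiv.ofBijective _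
    ((ConcreteCategory.isIso_iff_bijective (j.appIso W).inv).1 inferInstance)).bijective

/-- A module with a basis on the whole space is free. -/
theorem nonempty_iso_freeMod_of_isBas {M : X.Modules} {e : Fin r → Γ(M, (⊤ : X.Opens))} (he : IsBas M ⊤ e) :
    Nonempty (FlatMod.freeMod X r ≅ M) := by
  let φ : FlatMod.freeMod X r ⟶ M := Sigma.desc fun i => secHom (e i)
  haveI : IsIso φ := isIso_of_bases φ (fun _ : Unit => (⊤ : X.Opens)) (by simp)
    (fun _ i => (Sigma.ι (fun _ : Fin r => Coh.structureModule X) i).app ⊤ (one ⊤)) (fun _ => e)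
    (fun _ => isBas_coprod (fun _ : Fin r => Coh.structureModule X) (fun _ => one ⊤) fun _ => isGen_one ⊤)
    (fun _ => he) fun _ i => by
      show φ.app ⊤ _ = e i
      rw [← CategoryTheory.comp_apply, ← Scheme.Modules.Hom.comp_app, Sigma.ι_desc]
      exact secHom_app_one (e i)
  exact ⟨asIso φ⟩

/-- A locally free module of rank `r` is free on a dense affine open. -/
theorem exists_affine_trivial [IsNoetherian X] {E : X.Modules} (hE : FlatMod.IsFinLocFreeOfRank r E) :
    ∃ U : X.Opens, IsAffineOpen U ∧ (∀ g : X, (∀ y, y ⤳ g → y = g) → g ∈ U) ∧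
      Nonempty (FlatMod.freeMod (U : Scheme.{u}) r ≅ E.restrict U.ι) := by
  classical
  choose D e hxD he using fun x : X => exists_isBas_nhd hE x
  obtain ⟨V, hV, hdisj, hU⟩ := exists_affine_maximal (X := X) D fun g _ => hxD g
  have hglue : ∀ l, ∃ s : Γ(E, iSup V), ∀ i, mres E (le_iSup V i) s = mres E (hV i).2.2 (e i.1 l) := fun l => by
    obtain ⟨s, hs, -⟩ := TopCat.Sheaf.existsUnique_gluing' ⟨_, E.isSheaf⟩ V (iSup V)
      (fun i => homOfLE (le_iSup V i)) le_rfl (fun i => mres E (hV i).2.2 (e i.1 l)) fun i j => by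
        by_cases hij : i = j
        · subst hij; rfl
        · refine M1.section_ext _ _ fun x hx => ?_
          exact ((disjoint_iff_inf_le.1 (hdisj hij)) hx).elim
    exact ⟨s, hs⟩
  choose s hs using hglue
  have hb : IsBas E (iSup V) s := isBas_of_stalk fun x hx => by
    obtain ⟨i, hi⟩ := Opens.mem_iSup.1 hx
    have hb' := (he i.1).stalk ((hV i).2.2 hi)
    have heq : ∀ l, (E.presheaf.germ (iSup V) x hx (s l) : E.presheaf.stalk x) =
        E.presheaf.germ (D i.1) x ((hV i).2.2 hi) (e i.1 l) := fun l => by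
      rw [← germ_mres E (le_iSup V i) hi (s l), hs, germ_mres]
    simp only [heq]
    exact hb'
  refine ⟨iSup V, hU, fun g hg => Opens.mem_iSup.2 ⟨⟨g, hg⟩, (hV ⟨g, hg⟩).2.1⟩, ?_⟩
  let U := iSup V
  have himg : U.ι ''ᵁ ⊤ = U := by simp
  have hb₂ := isBas_restrict U.ι E (D := ⊤) (hb.mres himg.le)
  exact nonempty_iso_freeMod_of_isBas hb₂

/-- A locally free module and the free module of the same rank receive a common coherent module by
maps which are isomorphisms outside finitely many closed points. -/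
theorem exists_zigzag [IsNoetherian X] [X.IsSeparated] (hd : topologicalKrullDim X ≤ 1) {E : X.Modules}
    (hE : FlatMod.IsFinLocFreeOfRank r E) :
    ∃ (W : X.Modules) (φ : W ⟶ E) (ψ : W ⟶ FlatMod.freeMod X r) (S : Finset X), Coh.IsCoh W ∧
      SuppIn (kernel φ) S ∧ SuppIn (cokernel φ) S ∧ SuppIn (kernel ψ) S ∧ SuppIn (cokernel ψ) S := by
  obtain ⟨U, hU, hgen, ⟨α⟩⟩ := exists_affine_trivial hE
  obtain ⟨S, hS, hScl⟩ := exists_finset_closedPoints hd (C := (U : Set X)ᶜ) U.isOpen.isClosed_compl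
    fun g hg hgC => hgC (hgen g hg)
  have hUS : ∀ x : X, x ∉ S → x ∈ U := fun x hx => by
    by_contra hxU
    exact hx (Finset.mem_coe.1 (hS ▸ hxU : x ∈ (S : Set X)))
  haveI : IsAffineHom U.ι := isAffineHom_ι hU
  have hEF := M1.isFP_of_isFinLocFree (isFinLocFree_of_ofRank hE)
  have hFF := M1.isFP_of_isFinLocFree (isFinLocFree_of_ofRank (isFinLocFreeOfRank_freeMod X r))
  let P := (Scheme.Modules.pushforward U.ι).obj (E.restrict U.ι)
  have hP : Coh.IsQCoh P := PushFin12.isQCoh_pushforward U.ι (E.restrict U.ι) (isQCoh_restrict (isFP_isQCoh hEF) U.ι)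
  let a : E ⟶ P := (Scheme.Modules.restrictAdjunction U.ι).unit.app E
  let β : (FlatMod.freeMod X r).restrict U.ι ≅ E.restrict U.ι := freeModRestrictIso U.ι r ≪≫ α
  let b : FlatMod.freeMod X r ⟶ P := (Scheme.Modules.restrictAdjunction U.ι).unit.app _ ≫
    (Scheme.Modules.pushforward U.ι).map β.hom
  have ha : IsIso ((Scheme.Modules.restrictFunctor U.ι).map a) := isIso_restrict_unit U.ι E
  have hb : IsIso ((Scheme.Modules.restrictFunctor U.ι).map b) := by
    haveI := isIso_restrict_unit U.ι (FlatMod.freeMod X r)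
    simp only [b, Functor.map_comp]
    infer_instance
  have hfst := (Twist.isIso_restrict_map_iff _ U).1 (isIso_restrict_fst a b U.ι hb)
  have hsnd := (Twist.isIso_restrict_map_iff _ U).1 (isIso_restrict_snd a b U.ι ha)
  obtain ⟨h1, h2⟩ := suppIn_kernel_cokernel _ hScl hUS hfst
  obtain ⟨h3, h4⟩ := suppIn_kernel_cokernel _ hScl hUS hsnd
  exact ⟨_, _, _, S, isCoh_fibreProd ⟨isFP_isQCoh hEF, isFP_isFT hEF⟩ ⟨isFP_isQCoh hFF, isFP_isFT hFF⟩ hP a b,
    h1, h2, h3, h4⟩

end Groth.Agent.CurveCoh17
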