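import Groth.Agent.Lib.CurveCoh17.Clifford
import Groth.Prelude.Def_KLin
import Groth.Agent.Lib.TensorMod.Hom

/-!
# `h⁰(D) + h¹(D ⊗ H) ≤ h¹(H) + 1`
-/

set_option linter.style.haveILetI false
set_option autoImplicit false
set_option maxHeartbeats 800000

universe u

open CategoryTheory TopologicalSpace Opposite CategoryTheory.Limits AlgebraicGeometry

namespace Groth.Agent.CurveCoh17

open Groth.Agent.M1 Groth.Agent.M2 Groth.Agent.CohFound

variable {k : Type u} [Field k] {X : Scheme.{u}} [X.Over (Spec (CommRingCat.of k))]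

theorem secHom_smul' {M : X.Modules} (r : Coh.Γtop X) (s : Γ(M, (⊤ : X.Opens))) :
    secHom ((show Γ(X, ⊤) from r) • s) = secHom s ≫ Formal.smulModΓ M r := by
  refine unit_hom_ext ?_
  rw [secHom_app_one, Scheme.Modules.Hom.comp_app, CategoryTheory.comp_apply, secHom_app_one,
    KLin.smulModΓ_app_apply]
  congr 1
  rw [show (homOfLE (le_top : (⊤ : X.Opens) ≤ ⊤)) = 𝟙 _ from Subsingleton.elim _ _, op_id, X.presheaf.map_id]
  rfl

theorem tensorMap_smulModΓ (M N : X.Modules) (r : Coh.Γtop X) :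
    tensorMap (Formal.smulModΓ M r) (𝟙 N) = Formal.smulModΓ (CohB1.tensorMod M N) r :=
  tensorMod_hom_ext fun U s t => by
    rw [tensorMap_tsec, KLin.smulModΓ_app_apply, KLin.smulModΓ_app_apply, tsec_smul_left]
    rfl

theorem hmap₀_smulModΓ (M : X.Modules) (r : Coh.Γtop X) (n : ℕ) (x : Coh.HH X M n) :
    hmap₀ (Formal.smulModΓ M r) n x = r • x := by
  apply (hhExt M n).injective
  rw [hhExt_hmap₀, hhExt_smul]
  rfl

/-- Multiplication `H⁰(D) → Hom(Hⁿ(O ⊗ H), Hⁿ(D ⊗ H))`. -/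
noncomputable def mulPair (k : Type u) [Field k] [X.Over (Spec (CommRingCat.of k))] (D H : X.Modules) (n : ℕ) :
    Coh.HH X D 0 →ₗ[k] Coh.HH X (CohB1.tensorMod (Coh.structureModule X) H) n →ₗ[k]
      Coh.HH X (CohB1.tensorMod D H) n where
  toFun z := hmap k (tensorMap (secHom (hh0 D z)) (𝟙 H)) n
  map_add' z w := LinearMap.ext fun x => by
    show hmap₀ (tensorMap (secHom (hh0 D (z + w))) (𝟙 H)) n x =
      hmap₀ (tensorMap (secHom (hh0 D z)) (𝟙 H)) n x + hmap₀ (tensorMap (secHom (hh0 D w)) (𝟙 H)) n x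
    rw [map_add, secHom_add,
      show tensorMap (secHom (hh0 D z) + secHom (hh0 D w)) (𝟙 H) =
        tensorMap (secHom (hh0 D z)) (𝟙 H) + tensorMap (secHom (hh0 D w)) (𝟙 H) from
        (tensorR H).map_add, hmap₀_add]
  map_smul' c z := LinearMap.ext fun x => by
    show hmap₀ (tensorMap (secHom (hh0 D (Coh.toGlobal (X ↘ Spec (CommRingCat.of k)) c • z))) (𝟙 H)) n x =
      Coh.toGlobal (X ↘ Spec (CommRingCat.of k)) c • hmap₀ (tensorMap (secHom (hh0 D z)) (𝟙 H)) n x
    rw [hh0_smul, secHom_smul', ← hmap₀_smulModΓ,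
      show tensorMap (secHom (hh0 D z) ≫ Formal.smulModΓ D (Coh.toGlobal (X ↘ Spec (CommRingCat.of k)) c)) (𝟙 H) =
        tensorMap (secHom (hh0 D z)) (𝟙 H) ≫
          Formal.smulModΓ (CohB1.tensorMod D H) (Coh.toGlobal (X ↘ Spec (CommRingCat.of k)) c) by
        rw [← tensorMap_smulModΓ]; exact (tensorR H).map_comp _ _]
    exact hmap_comp k _ _ _ x

/-- `h⁰(D) + h¹(D ⊗ H) ≤ h¹(H) + 1`. -/
theorem CurveLike.h0_add_h1_tensor_le [IsAlgClosed k] [IsIntegral X] (hX : CurveLike k X) {D H : X.Modules}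
    (hD : PicF.IsInvertible D) (hH : PicF.IsInvertible H) (hs : Nontrivial (Coh.HH X D 0))
    (h1 : Nontrivial (Coh.HH X (CohB1.tensorMod D H) 1)) :
    Module.finrank k (Coh.HH X D 0) + Module.finrank k (Coh.HH X (CohB1.tensorMod D H) 1) ≤
      Module.finrank k (Coh.HH X H 1) + 1 := by
  haveI := hX.noetherian
  have hR := rkOne_of_invertible hX.dim hD
  haveI := hX.fin D hR.coh 0
  haveI := hX.fin _ (isCoh_of_ofRank ((isInvertible_iff_isFinLocFreeOfRank_one _).1 (isInvertible_tensor hD hH))) 1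
  haveI := hX.fin _ (isCoh_of_ofRank ((isInvertible_iff_isFinLocFreeOfRank_one _).1
    (isInvertible_tensor (PicLoc.isInvertible_structureModule X) hH))) 1
  let β : Coh.HH X D 0 →ₗ[k] Module.Dual k (Coh.HH X (CohB1.tensorMod D H) 1) →ₗ[k]
      Module.Dual k (Coh.HH X (CohB1.tensorMod (Coh.structureModule X) H) 1) :=
    LinearMap.mk₂ k (fun z φ => φ.comp (mulPair k D H 1 z))
      (fun z w φ => by rw [map_add, LinearMap.comp_add])
      (fun c z φ => by rw [map_smul, LinearMap.comp_smul])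
      (fun z φ ψ => LinearMap.add_comp _ _ _)
      (fun c z φ => LinearMap.smul_comp _ _ _)
  have h := HopfBilin.finrank_add_le (k := k) β fun z φ hz hφ h0 => by
    obtain ⟨hm, S, hS⟩ := hR.sec (hh0 D z) (hh0_ne_zero hz)
    haveI := hm
    have hT : ((secSC (hh0 D z)).map (tensorR H)).ShortExact :=
      shortExact_tensorR (secSC_shortExact (hh0 D z)) H fun x => Module.Flat.of_linearEquiv
        (nonempty_stalk_equiv ((isInvertible_iff_isFinLocFreeOfRank_one H).1 hH) x).some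
    haveI : Subsingleton (Coh.HH X ((secSC (hh0 D z)).map (tensorR H)).X₃ 1) := (hS.tensor H).subsingleton_HH 0
    refine hφ (LinearMap.ext fun η => ?_)
    obtain ⟨x, hx⟩ := (exact_hmap_hmap k hT 1 η).1 (Subsingleton.elim _ _)
    rw [← hx]
    exact LinearMap.congr_fun h0 x
  rw [Subspace.dual_finrank_eq, Subspace.dual_finrank_eq, (hequiv k (tensorLUnit H) 1).finrank_eq] at h
  exact h

end Groth.Agent.CurveCoh17
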