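import Groth.Agent.Lib.CurveCoh17.P1Genus
import Groth.Agent.Lib.CohBC18.Field
import Groth.Agent.Lib.Twist.Pullback

/-!
# The cohomology of the structure sheaf: isomorphisms and extension of the ground field
-/

set_option linter.style.haveILetI false
set_option autoImplicit false

universe u

open CategoryTheory TopologicalSpace Opposite CategoryTheory.Limits AlgebraicGeometry

namespace Groth.Agent.CurveCoh17

open Groth.Agent.M1 Groth.Agent.M2

variable {k : Type u} [Field k] {X Y : Scheme.{u}} [X.Over (Spec (CommRingCat.of k))]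

theorem finrank_HH_of_iso [Y.Over (Spec (CommRingCat.of k))] (f : X ⟶ Y) [IsIso f]
    (hf : f ≫ (Y ↘ Spec (CommRingCat.of k)) = X ↘ Spec (CommRingCat.of k)) (n : ℕ) :
    Module.finrank k (Coh.HH X (Coh.structureModule X) n) = Module.finrank k (Coh.HH Y (Coh.structureModule Y) n) := by
  obtain ⟨θ⟩ := nonempty_pushO_iso f
  obtain ⟨e⟩ := AmpleFin18.nonempty_HH_push f hf _ (M1.isQCoh_structureModule X) n
  exact e.finrank_eq.symm.trans (hequiv k θ n).finrank_eq.symm

theorem finrank_HH_bc [CompactSpace X] [QuasiSeparatedSpace X] (K : Type u) [Field K] [Algebra k K] (n : ℕ) :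
    letI : (Curv2.bc k X K).Over (Spec (CommRingCat.of K)) := ⟨Curv2.bcSnd k X K⟩
    Module.finrank K (Coh.HH (Curv2.bc k X K) (Coh.structureModule (Curv2.bc k X K)) n) =
      Module.finrank k (Coh.HH X (Coh.structureModule X) n) := by
  letI : (Curv2.bc k X K).Over (Spec (CommRingCat.of K)) := ⟨Curv2.bcSnd k X K⟩
  obtain ⟨e⟩ := CohBC18.nonempty_HH_bc (k := k) X K _ (M1.isQCoh_structureModule X) n
  exact (hequiv K (Twist.pullbackUnitIso (Curv2.bcFst k X K)) n).finrank_eq.symm.trans
    (e.finrank_eq.symm.trans Module.finrank_baseChange)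

/-- Base change along any cartesian square. -/
theorem finrank_HH_of_isPullback [CompactSpace X] [QuasiSeparatedSpace X] {K : Type u} [Field K] [Algebra k K]
    [Y.Over (Spec (CommRingCat.of K))] {g : Y ⟶ X}
    (hpb : IsPullback g (Y ↘ Spec (CommRingCat.of K)) (X ↘ Spec (CommRingCat.of k))
      (Spec.map (CommRingCat.ofHom (algebraMap k K)))) (n : ℕ) :
    Module.finrank K (Coh.HH Y (Coh.structureModule Y) n) = Module.finrank k (Coh.HH X (Coh.structureModule X) n) := by
  letI : (Curv2.bc k X K).Over (Spec (CommRingCat.of K)) := ⟨Curv2.bcSnd k X K⟩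
  let e : Y ≅ Curv2.bc k X K := hpb.isoPullback
  exact (finrank_HH_of_iso (k := K) (Y := Curv2.bc k X K) e.hom hpb.isoPullback_hom_snd n).trans (finrank_HH_bc K n)

end Groth.Agent.CurveCoh17
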