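import Groth.Agent.Lib.CurveCoh17.LES
import Groth.Agent.Lib.CohFound.PushFin
import Groth.Agent.Lib.CohFound.QcohAffine

/-!
# Cohomology of a direct image along an affine morphism, linearly over the base ring
-/

set_option linter.style.haveILetI false
set_option autoImplicit false

universe u

open CategoryTheory TopologicalSpace Opposite CategoryTheory.Limits AlgebraicGeometry

namespace Groth.Agent.CurveCoh17

open Groth.Agent.CohFound

variable (A : Type u) [CommRing A] {X Y : Scheme.{u}} [X.Over (Spec (CommRingCat.of A))]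
  [Y.Over (Spec (CommRingCat.of A))] (f : Y ⟶ X)

/-- `Hⁿ(X, f_* M) = Hⁿ(Y, M)` for affine `f`, linearly over the base ring. -/
theorem nonempty_hequiv_push [IsAffineHom f]
    (hf : f ≫ (X ↘ Spec (CommRingCat.of A)) = Y ↘ Spec (CommRingCat.of A))
    (M : Y.Modules) [M.IsQuasicoherent] (n : ℕ) :
    Nonempty (Coh.HH X ((Scheme.Modules.pushforward f).obj M) n ≃ₗ[A] Coh.HH Y M n) := by
  obtain ⟨ε, hε⟩ := exists_hc_push_commute (f.base : sp Y ⟶ sp X) (B := X.affineOpens) X.isBasis_affineOpens n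
    ((abF Y).obj M) (fun q _ V hV => subsingleton_hc_isAffineOpen M (IsAffineOpen.preimage hV f) q) ⊤
  let T : Coh.HH X ((Scheme.Modules.pushforward f).obj M) n ≃+ Coh.HH Y M n :=
    (hhExt _ n).trans (((mpEquiv (abFPushIso f M) n ⊤).trans ε).trans (hhExt M n).symm)
  refine ⟨T.toLinearEquiv fun a x => (hhExt M n).injective ?_⟩
  have hr : f.appTop (Coh.toGlobal (X ↘ Spec (CommRingCat.of A)) a) =
      Coh.toGlobal (Y ↘ Spec (CommRingCat.of A)) a := by
    rw [← hf]
    rfl
  show hhExt M n ((hhExt M n).symm _) =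
    hhExt M n (Coh.toGlobal (Y ↘ Spec (CommRingCat.of A)) a • (hhExt M n).symm _)
  rw [AddEquiv.apply_symm_apply, hhExt_smul, AddEquiv.apply_symm_apply]
  show (mpEquiv (abFPushIso f M) n ⊤).trans ε
      (hhExt _ n (Coh.toGlobal (X ↘ Spec (CommRingCat.of A)) a • x)) = _
  rw [hhExt_smul]
  refine (trans_commute (abFPushIso f M) n ⊤ ε _ _ _
    (abFPushIso_gEnd f M (Coh.toGlobal (X ↘ Spec (CommRingCat.of A)) a)) (hε _) (hhExt _ n x)).trans ?_
  rw [hr]
  rfl

end Groth.Agent.CurveCoh17
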