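import Groth.Agent.Lib.CurveCoh17.P1Crit
import Groth.Agent.Lib.CurveCoh17.Point
import Groth.Agent.Lib.CurveCoh17.RegPoint
import Groth.Agent.Lib.GrpField.Smooth
import Groth.Agent.Lib.GrpdB.Section
import Groth.Agent.Lib.TensorMod.Dual
import Groth.Agent.Lib.SepDense19.Basic

/-!
# The divisor of a rational regular point, and curves of genus zero with such a point
-/

set_option linter.style.haveILetI false
set_option autoImplicit false

universe u

open CategoryTheory TopologicalSpace Opposite CategoryTheory.Limits AlgebraicGeometry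

namespace Groth.Agent.CurveCoh17

open Groth.Agent.M1 Groth.Agent.M2

variable {k : Type u} [Field k] {X : Scheme.{u}} [X.Over (Spec (CommRingCat.of k))]

attribute [local instance] Curv2.resAlgebra

/-- The ideal of a closed point with principal local ring on an integral curve is invertible. -/
theorem isInvertible_pointIdeal_of_pid [IsIntegral X] [IsNoetherian X] (hdim : topologicalKrullDim X = 1)
    {x : X} (hx : IsClosed ({x} : Set X)) (hpid : IsPrincipalIdealRing (X.presheaf.stalk x)) :
    PicF.IsInvertible (ClSub.idealMod (Scheme.IdealSheafData.vanishingIdeal (⟨{x}, hx⟩ : Closeds X))) := by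
  set Z := Scheme.IdealSheafData.vanishingIdeal (⟨{x}, hx⟩ : Closeds X)
  have hO : FlatMod.IsFinLocFreeOfRank 1 (Coh.structureModule X) :=
    (isInvertible_iff_isFinLocFreeOfRank_one _).1 (PicLoc.isInvertible_structureModule X)
  haveI : Mono (ClSub.idealModι Z) := (shortExact_idealMod Z).mono_f
  have hbij : ∀ y : X, y ≠ x → Function.Bijective (stalkLin (ClSub.idealModι Z) y) := fun y hy =>
    ⟨(mono_iff_stalk (ClSub.idealModι Z)).1 inferInstance y, fun a =>
      (exact_iff_stalk_eq_zero _).1 (shortExact_idealMod Z).exact y a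
        ((suppIn_quotMod_point hx).zero y (by simpa using hy) _)⟩
  have hfree : ∀ y, Module.Free (X.presheaf.stalk y) ((ClSub.idealMod Z).presheaf.stalk y) := fun y => by
    by_cases hy : y = x
    · subst hy
      exact (VB17.free_stalk_of_mono hO (isCoh_idealMod Z) (ClSub.idealModι Z) y hpid).1
    · obtain ⟨e⟩ := nonempty_stalk_equiv hO y
      exact Module.Free.of_equiv ((LinearEquiv.ofBijective _ (hbij y hy)).trans e).symm
  obtain ⟨r, hr⟩ := VB17.exists_rank_of_isFinLocFree
    ((M1.isFinLocFree_iff _).2 ⟨M1.isFP_of_isCoh (isCoh_idealMod Z), hfree⟩)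
  obtain rfl : r = 1 := by
    have hne := genericPoint_ne_of_isClosed hdim hx
    rw [← VB17.finrank_stalk hr (genericPoint X), (LinearEquiv.ofBijective _ (hbij _ hne)).finrank_eq,
      VB17.finrank_stalk hO]
  exact (isInvertible_iff_isFinLocFreeOfRank_one _).2 hr

/-- A rational point with principal local ring has a divisor of degree one. -/
theorem CurveLike.exists_deg_one_of_point [IsIntegral X] (hX : CurveLike k X) (hdim : topologicalKrullDim X = 1)
    {x : X} (hx : IsClosed ({x} : Set X)) (hpid : IsPrincipalIdealRing (X.presheaf.stalk x))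
    (hres : Module.finrank k (X.residueField x) = 1) :
    ∃ D : X.Modules, PicF.IsInvertible D ∧ Curv2.deg k X D 1 = 1 ∧
      Nonempty (CohB1.tensorMod (ClSub.idealMod (Scheme.IdealSheafData.vanishingIdeal (⟨{x}, hx⟩ : Closeds X))) D ≅
        Coh.structureModule X) := by
  haveI := hX.noetherian
  set Z := Scheme.IdealSheafData.vanishingIdeal (⟨{x}, hx⟩ : Closeds X)
  have hI := isInvertible_pointIdeal_of_pid hdim hx hpid
  obtain ⟨D, hD, ⟨e⟩⟩ := exists_inverse hI
  refine ⟨D, hD, ?_, ⟨e⟩⟩
  have h := euler_add (shortExact_idealMod Z) (hX.adm (isCoh_idealMod Z)) (hX.adm (isCoh_quotMod Z))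
  dsimp only at h
  rw [(suppIn_quotMod_point hx).euler_eq (hX.fin _ (isCoh_quotMod Z) 0), finrank_quotMod_point hx, hres] at h
  rw [hX.deg_of_tensor_iso hI hD e, Curv2.deg]
  push_cast at h ⊢
  linarith

/-- With `H¹(O) = 0` an invertible module of degree one has two sections. -/
theorem CurveLike.two_le_h0 [IsIntegral X] (hX : CurveLike k X) (hg : Curv2.genus k X = 0) {L : X.Modules}
    (hL : PicF.IsInvertible L) (hdeg : Curv2.deg k X L 1 = 1) :
    2 ≤ Module.finrank k (Coh.HH X L 0) := by
  have h := hX.rr (isCoh_of_ofRank ((isInvertible_iff_isFinLocFreeOfRank_one L).1 hL))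
  have h0 := VB17.h0_pos hX
  omega

/-- An integral proper curve of genus zero with a rational point with principal local ring is `P¹`. -/
theorem exists_iso_P1_of_point [IsIntegral X] [IsProper (X ↘ Spec (CommRingCat.of k))]
    (hdim : topologicalKrullDim X = 1) (hg : Curv2.genus k X = 0) {x : X} (hx : IsClosed ({x} : Set X))
    (hpid : IsPrincipalIdealRing (X.presheaf.stalk x)) (hres : Module.finrank k (X.residueField x) = 1) :
    ∃ e : X ≅ CohB1.ProjSpace 1 k, e.hom ≫ CohB1.ProjSpace.toSpec 1 k = X ↘ Spec (CommRingCat.of k) := by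
  have hX : CurveLike k X := VB17.curveLike hdim
  obtain ⟨D, hD, hd, -⟩ := hX.exists_deg_one_of_point hdim hx hpid hres
  exact exists_iso_P1 hdim hD hd (hX.two_le_h0 hg hD hd)

/-- The point of a section is closed with residue field `k`. -/
theorem section_point_props [IsSeparated (X ↘ Spec (CommRingCat.of k))] (s : Spec (CommRingCat.of k) ⟶ X)
    (hs : s ≫ (X ↘ Spec (CommRingCat.of k)) = 𝟙 _) :
    IsClosed ({s (IsLocalRing.closedPoint k)} : Set X) ∧
      Module.finrank k (X.residueField (s (IsLocalRing.closedPoint k))) = 1 := by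
  haveI := GrpdB.isClosedImmersion_of_section _ s hs
  refine ⟨?_, ?_⟩
  · have : ({s (IsLocalRing.closedPoint k)} : Set X) = Set.range s := by
      refine Set.Subset.antisymm (by rintro _ rfl; exact ⟨_, rfl⟩) ?_
      rintro _ ⟨w, rfl⟩
      exact congrArg _ (Subsingleton.elim (α := Spec (CommRingCat.of k)) _ _)
    rw [this]
    exact s.isClosedEmbedding.isClosed_range
  · have hb : Function.Bijective (Curv2.resMap k X (s (IsLocalRing.closedPoint k))) :=
      GrpField.bijective_residue_of_section (X ↘ Spec (CommRingCat.of k)) s hs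
    exact ((AlgEquiv.ofBijective (Algebra.ofId k (X.residueField (s (IsLocalRing.closedPoint k)))) hb).toLinearEquiv.finrank_eq).symm.trans
      (Module.finrank_self k)

end Groth.Agent.CurveCoh17

namespace Groth.Agent.CurveCoh17

attribute [local instance] Curv2.resAlgebra

variable {k : Type u} [Field k] {X : Scheme.{u}} [X.Over (Spec (CommRingCat.of k))]

/-- A geometrically reduced curve over a separably closed field has a rational closed point with
principal local ring. -/
theorem exists_rational_regular_point [IsSepClosed k] [IsIntegral X]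
    [LocallyOfFiniteType (X ↘ Spec (CommRingCat.of k))] [GeometricallyReduced (X ↘ Spec (CommRingCat.of k))]
    (hdim : topologicalKrullDim X = 1) :
    ∃ x : X, IsClosed ({x} : Set X) ∧ IsPrincipalIdealRing (X.presheaf.stalk x) ∧
      Module.finrank k (X.residueField x) = 1 := by
  haveI : LocallyOfFinitePresentation (X ↘ Spec (CommRingCat.of k)) := {
    finitePresentation_appLE := fun {U} hU {V} hV e =>
      haveI := IsLocallyNoetherian.component_noetherian (X := Spec (CommRingCat.of k)) ⟨U, hU⟩
      RingHom.FinitePresentation.of_finiteType.mp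
        ((X ↘ Spec (CommRingCat.of k)).finiteType_appLE hU hV e) }
  obtain ⟨η, hη⟩ := (SepDense19.dense_smoothLocus (k := k) (X := X)).nonempty
  haveI := GeomRed.smooth_smoothLocus (k := k) (X := X)
  obtain ⟨y, hy, hc, hfin, hsep⟩ :=
    GeomRed.exists_separable_point (k := k) (X ↘ Spec (CommRingCat.of k)).smoothLocus hη
  haveI := hfin
  haveI := hsep
  haveI := GeomRed.isRegularLocalRing_of_mem_smoothLocus hy
  refine ⟨y, hc, pid_stalk_of_regular hdim.le y, ?_⟩
  exact ((AlgEquiv.ofBijective (Algebra.ofId k (X.residueField y))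
    (IsSepClosed.algebraMap_bijective k (X.residueField y))).toLinearEquiv.finrank_eq).symm.trans
      (Module.finrank_self k)

end Groth.Agent.CurveCoh17

namespace Groth.Agent.CurveCoh17

open Groth.Agent.M1 Groth.Agent.M2

attribute [local instance] stalkMod

variable {k : Type u} [Field k] {X : Scheme.{u}} [X.Over (Spec (CommRingCat.of k))]

theorem stalkLin_id' {M : X.Modules} (x : X) (a : M.presheaf.stalk x) : stalkLin (𝟙 M) x a = a := by
  show (stalkAb x).map (𝟙 M) a = a
  rw [CategoryTheory.Functor.map_id]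
  rfl

theorem stalkLin_inv_hom {M N : X.Modules} (e : M ≅ N) (x : X) (a : M.presheaf.stalk x) :
    stalkLin e.inv x (stalkLin e.hom x a) = a := by
  rw [← stalkLin_comp, e.hom_inv_id, stalkLin_id']

/-- If the divisors of two distinct points have the same inverse `D`, then `D` has two independent sections. -/
theorem CurveLike.two_le_h0_of_two_points [IsIntegral X] (hX : CurveLike k X) {a b : X}
    (ha : IsClosed ({a} : Set X)) (hb : IsClosed ({b} : Set X)) (hab : a ≠ b) {D : X.Modules}
    (hD : PicF.IsInvertible D)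
    (ea : CohB1.tensorMod (ClSub.idealMod (Scheme.IdealSheafData.vanishingIdeal (⟨{a}, ha⟩ : Closeds X))) D ≅
      Coh.structureModule X)
    (eb : CohB1.tensorMod (ClSub.idealMod (Scheme.IdealSheafData.vanishingIdeal (⟨{b}, hb⟩ : Closeds X))) D ≅
      Coh.structureModule X) :
    2 ≤ Module.finrank k (Coh.HH X D 0) := by
  haveI := hX.noetherian
  have h1 := (isInvertible_iff_isFinLocFreeOfRank_one D).1 hD
  obtain ⟨e⟩ := nonempty_stalk_equiv h1 b
  obtain ⟨e₁⟩ := nonempty_stalk_equiv_structureModule (X := X) b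
  let one_b := ((Coh.structureModule X).presheaf.germ ⊤ b trivial (one ⊤) :
    (Coh.structureModule X).presheaf.stalk b)
  -- the section of `D` attached to a point
  have key : ∀ (z : X) (hz : IsClosed ({z} : Set X))
      (ez : CohB1.tensorMod (ClSub.idealMod (Scheme.IdealSheafData.vanishingIdeal (⟨{z}, hz⟩ : Closeds X))) D ≅
        Coh.structureModule X),
      ∃ s : Γ(D, (⊤ : X.Opens)),
        (D.presheaf.germ ⊤ b trivial s : D.presheaf.stalk b) ≠ 0 ∧
        ((∀ v : D.presheaf.stalk b, ∃ q : X.presheaf.stalk b,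
          q • (D.presheaf.germ ⊤ b trivial s : D.presheaf.stalk b) = v) ↔ z ≠ b) := by
    intro z hz ez
    set Z := Scheme.IdealSheafData.vanishingIdeal (⟨{z}, hz⟩ : Closeds X)
    have hS := twistSES hD Z
    haveI : Mono (twistIncl Z D) := by
      haveI : Mono (tensorMap (ClSub.idealModι Z) (𝟙 D)) := hS.mono_f
      exact mono_comp _ _
    let f : Coh.structureModule X ⟶ D := ez.inv ≫ twistIncl Z D
    have hf : f = secHom (f.app ⊤ (one ⊤)) := unit_hom_ext (secHom_app_one _).symm
    have hfd : f = ez.inv ≫ twistIncl Z D := rfl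
    clear_value f
    haveI : Mono f := by rw [hfd]; infer_instance
    refine ⟨f.app ⊤ (one ⊤), fun h0 => ?_, ?_⟩
    · have hzero : ∀ q, stalkLin f b q = 0 := fun q => by
        obtain ⟨c, -, hc⟩ := stalkLin_secHom (f.app ⊤ (one ⊤)) b q
        rw [hf, hc, h0, smul_zero]
      have := congrFun ((congrArg e₁ ((mono_iff_stalk f).1 inferInstance b
        ((hzero (e₁.symm 1)).trans (map_zero (stalkLin f b)).symm))).trans (map_zero _)) 0
      rw [LinearEquiv.apply_symm_apply] at this
      exact one_ne_zero (α := X.presheaf.stalk b) this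
    have hiff : (∀ v : D.presheaf.stalk b, ∃ q : X.presheaf.stalk b,
        q • (D.presheaf.germ ⊤ b trivial (f.app ⊤ (one ⊤)) : D.presheaf.stalk b) = v) ↔
        Function.Surjective (stalkLin f b) := by
      refine ⟨fun h v => ?_, fun h v => ?_⟩
      · obtain ⟨q, rfl⟩ := h v
        exact ⟨q • one_b, by rw [map_smul]; exact congrArg (q • ·) (M1.germ_naturality f ⊤ b trivial _)⟩
      · obtain ⟨w, rfl⟩ := h v
        obtain ⟨c, -, hc⟩ := stalkLin_secHom (f.app ⊤ (one ⊤)) b w
        exact ⟨c, by rw [← hc, ← hf]⟩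
    rw [hiff]
    constructor
    · rintro hsurj rfl
      obtain ⟨a₀, ha₀⟩ := (quot_point_props hz).2
      let T₀ := tensorMap (ClSub.toSubscheme Z) (𝟙 D)
      haveI : Epi T₀ := hS.epi_g
      have hzero : ∀ t, t = (0 : (CohB1.tensorMod (ClSub.quotMod Z) D).presheaf.stalk z) := fun t => by
        obtain ⟨w, rfl⟩ := (epi_iff_stalk T₀).1 inferInstance z t
        obtain ⟨w', hw'⟩ := hsurj (stalkLin (tensorLUnit D).hom z w)
        rw [hfd, stalkLin_comp, twistIncl, stalkLin_comp] at hw'
        have hw := ((stalkLin_inv_hom (tensorLUnit D) z _).symm.trans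
          (congrArg (stalkLin (tensorLUnit D).inv z) hw')).trans (stalkLin_inv_hom (tensorLUnit D) z w)
        rw [← hw]
        refine (stalkLin_comp (tensorMap (ClSub.idealModι Z) (𝟙 D)) T₀ z _).symm.trans ?_
        rw [show tensorMap (ClSub.idealModι Z) (𝟙 D) ≫ T₀ = 0 from
          ((ShortComplex.mk (ClSub.idealModι Z) (ClSub.toSubscheme Z) (kernel.condition _)).map (tensorR D)).zero]
        show (stalkAb z).map (0 : _ ⟶ _) _ = 0
        rw [Functor.map_zero]
        rfl
      have := congrArg (stalkEquiv (ClSub.quotMod Z) D z) (hzero ((stalkEquiv (ClSub.quotMod Z) D z).symm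
        (a₀ ⊗ₜ e.symm 1)))
      rw [LinearEquiv.apply_symm_apply, map_zero] at this
      refine ha₀ ?_
      have h2 := congrArg ((TensorProduct.rid (X.presheaf.stalk z) _).toLinearMap ∘ₗ
        LinearMap.lTensor _ ((LinearMap.proj (0 : Fin 1)).comp e.toLinearMap)) this
      simpa using h2
    · intro hne v
      obtain ⟨w, hw⟩ := (exact_iff_stalk_eq_zero _).1 hS.exact b (stalkLin (tensorLUnit D).inv b v)
        (((suppIn_quotMod_point hz).tensor D).zero b (by simpa using hne.symm) _)
      refine ⟨stalkLin ez.hom b w, ?_⟩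
      rw [hfd, stalkLin_comp, ← stalkLin_comp ez.hom ez.inv, ez.hom_inv_id, stalkLin_id', twistIncl, stalkLin_comp]
      refine (congrArg (stalkLin (tensorLUnit D).hom b) hw).trans ?_
      rw [← stalkLin_comp, (tensorLUnit D).inv_hom_id, stalkLin_id']
  obtain ⟨sa, ha0, hsa⟩ := key a ha ea
  obtain ⟨sb, hb0, hsb⟩ := key b hb eb
  have hspan := hsa.2 hab
  have hnspan : ¬ ∀ v : D.presheaf.stalk b, ∃ q : X.presheaf.stalk b,
      q • (D.presheaf.germ ⊤ b trivial sb : D.presheaf.stalk b) = v := fun h => hsb.1 h rfl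
  have hli : LinearIndependent k ![(hh0 D).symm sa, (hh0 D).symm sb] := by
    rw [LinearIndependent.pair_iff]
    intro s t hst
    have hst' := congrArg (fun w => (D.presheaf.germ ⊤ b trivial (hh0 D w) : D.presheaf.stalk b)) hst
    have hz : ∀ (c : k) (w : Γ(D, (⊤ : X.Opens))),
        (D.presheaf.germ ⊤ b trivial (hh0 D (c • (hh0 D).symm w)) : D.presheaf.stalk b) =
          X.presheaf.germ ⊤ b trivial (show Γ(X, ⊤) from Coh.toGlobal (X ↘ Spec (CommRingCat.of k)) c) •
            (D.presheaf.germ ⊤ b trivial w : D.presheaf.stalk b) := fun c w => by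
      rw [show c • (hh0 D).symm w = (Coh.toGlobal (X ↘ Spec (CommRingCat.of k)) c) • (hh0 D).symm w from rfl,
        hh0_smul, AddEquiv.apply_symm_apply, M1.germ_smul]
    set γ : k → X.presheaf.stalk b := fun c =>
      X.presheaf.germ ⊤ b trivial (show Γ(X, ⊤) from Coh.toGlobal (X ↘ Spec (CommRingCat.of k)) c) with hγ
    have hunit : ∀ c : k, c ≠ 0 → IsUnit (γ c) := fun c hc =>
      ((isUnit_iff_ne_zero.2 hc).map (Coh.toGlobal (X ↘ Spec (CommRingCat.of k)))).map
        (X.presheaf.germ ⊤ b trivial).hom
    simp only [map_add, map_zero] at hst'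
    rw [hz, hz] at hst'
    change γ s • _ + γ t • _ = (0 : D.presheaf.stalk b) at hst'
    rcases eq_or_ne t 0 with rfl | ht
    · refine ⟨by_contra fun hs => ha0 ((hunit s hs).smul_eq_zero.1 ?_), rfl⟩
      rw [← hst', show γ 0 = 0 from (congrArg (X.presheaf.germ ⊤ b trivial).hom (map_zero (Coh.toGlobal _))).trans (map_zero _), zero_smul, add_zero]
    · exfalso
      refine hnspan fun v => ?_
      rcases eq_or_ne s 0 with rfl | hs
      · refine absurd ((hunit t ht).smul_eq_zero.1 ?_) hb0
        rw [← hst', show γ 0 = 0 from (congrArg (X.presheaf.germ ⊤ b trivial).hom (map_zero (Coh.toGlobal _))).trans (map_zero _), zero_smul, zero_add]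
      · obtain ⟨q, rfl⟩ := hspan v
        obtain ⟨u, hu⟩ := hunit s hs
        refine ⟨q * (-↑u⁻¹ * γ t), ?_⟩
        rw [mul_smul, mul_smul, eq_neg_of_add_eq_zero_right hst', ← hu]
        simp only [neg_smul, smul_neg, neg_neg, smul_smul, mul_assoc, neg_mul, mul_neg, Units.inv_mul, mul_one]
  haveI := hX.fin D (isCoh_of_ofRank h1) 0
  simpa using hli.fintype_card_le_finrank

end Groth.Agent.CurveCoh17
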