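import Groth.Agent.Lib.CurveCoh17.P1Apps
import Groth.Agent.Lib.Twist.Tensor
import Groth.Agent.Lib.Twist.Triv
import Groth.Agent.S0844

/-!
# The genus and a rational point of the projective line, transport along isomorphisms
-/

set_option linter.style.haveILetI false
set_option autoImplicit false

universe u

open CategoryTheory TopologicalSpace Opposite CategoryTheory.Limits AlgebraicGeometry

namespace Groth.Agent.CurveCoh17

open Groth.Agent.M1 Groth.Agent.M2

variable {k : Type u} [Field k] {X Y : Scheme.{u}}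

/-- The structure sheaf pushes forward to the structure sheaf along an isomorphism. -/
theorem nonempty_pushO_iso (f : X ⟶ Y) [IsIso f] :
    Nonempty (Coh.structureModule Y ≅ (Scheme.Modules.pushforward f).obj (Coh.structureModule X)) := by
  let θ : Coh.structureModule Y ⟶ (Scheme.Modules.pushforward f).obj (Coh.structureModule X) :=
    secHom (M := (Scheme.Modules.pushforward f).obj (Coh.structureModule X)) (1 : Γ(X, f ⁻¹ᵁ ⊤))
  have hθ : ∀ (U : Y.Opens) (r : Γ(Y, U)), (θ.app U r : Γ(X, f ⁻¹ᵁ U)) = f.app U r := fun U r => by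
    refine (Twist.secHom_app _ U r).trans ?_
    show @HMul.hMul Γ(X, f ⁻¹ᵁ U) Γ(X, f ⁻¹ᵁ U) Γ(X, f ⁻¹ᵁ U) _ (f.app U r)
      (X.presheaf.map (homOfLE (f.preimage_mono (le_top : U ≤ ⊤))).op (1 : Γ(X, f ⁻¹ᵁ ⊤))) = _
    erw [map_one, mul_one]
  haveI : IsIso θ := by
    rw [Scheme.Modules.Hom.isIso_iff_isIso_app]
    intro U
    rw [ConcreteCategory.isIso_iff_bijective,
      show (θ.app U : _ → _) = fun r => f.app U r from funext (hθ U)]
    exact ConcreteCategory.bijective_of_isIso (f.app U)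
  exact ⟨asIso θ⟩

variable [X.Over (Spec (CommRingCat.of k))] [Y.Over (Spec (CommRingCat.of k))]

/-- The genus only depends on the scheme up to isomorphism over `k`. -/
theorem genus_eq_of_iso (f : X ⟶ Y) [IsIso f]
    (hf : f ≫ (Y ↘ Spec (CommRingCat.of k)) = X ↘ Spec (CommRingCat.of k)) :
    Curv2.genus k X = Curv2.genus k Y := by
  obtain ⟨θ⟩ := nonempty_pushO_iso f
  obtain ⟨e⟩ := AmpleFin18.nonempty_HH_push f hf _ (M1.isQCoh_structureModule X) 1
  exact e.finrank_eq.symm.trans (hequiv k θ 1).finrank_eq.symm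

variable (k)

/-- `P¹` has genus zero. -/
theorem genus_P1 : @Curv2.genus k _ (CohB1.ProjSpace 1 k) ⟨CohB1.ProjSpace.toSpec 1 k⟩ = 0 := by
  letI : (CohB1.ProjSpace 1 k).Over (Spec (CommRingCat.of k)) := ⟨CohB1.ProjSpace.toSpec 1 k⟩
  obtain ⟨z⟩ := Twist.nonempty_twist_zero_iso (CohB1.polyGrading 1 k)
  haveI : Subsingleton (Coh.HH (CohB1.ProjSpace 1 k) (_root_.Twist.twistProjSpace 1 k 0) 1) :=
    Groth.Agent.S0844.result k 1 0 1 (by simp) (by norm_num)
  exact ((hequiv k (X := CohB1.ProjSpace 1 k) z 1).finrank_eq).symm.trans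
    (Module.finrank_zero_of_subsingleton (R := k) (M := Coh.HH (CohB1.ProjSpace 1 k) (_root_.Twist.twistProjSpace 1 k 0) 1))

/-- `P¹` has a rational point. -/
theorem exists_section_P1 : ∃ s : Spec (CommRingCat.of k) ⟶ CohB1.ProjSpace 1 k,
    s ≫ CohB1.ProjSpace.toSpec 1 k = 𝟙 _ := by
  refine ⟨Spec.map (CommRingCat.ofHom (MvPolynomial.eval fun _ : {j : Fin (1 + 1) // j ≠ 0} => (0 : k))) ≫
    ProjSpace.chart 1 k 0, ?_⟩
  rw [Category.assoc, ProjSpace.chart_toSpec, ← Spec.map_comp, ← CommRingCat.ofHom_comp, ← Spec.map_id]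
  congr 1
  ext r
  simp

end Groth.Agent.CurveCoh17
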