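import Groth.Agent.Lib.CurveCoh17.P1Genus
import Groth.Agent.Lib.CurveCoh17.GenusBC
import Groth.Agent.Lib.Curve17.FrobTwist

/-!
# Morphisms to the projective line given by pencils
-/

set_option linter.style.haveILetI false
set_option autoImplicit false
set_option maxHeartbeats 1000000

universe u

open CategoryTheory TopologicalSpace Opposite CategoryTheory.Limits AlgebraicGeometry

namespace Groth.Agent.CurveCoh17

open Groth.Agent.M1 Groth.Agent.M2

variable {k : Type u} [Field k] {X : Scheme.{u}} [X.Over (Spec (CommRingCat.of k))]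

attribute [local instance] stalkMod

/-- The morphism to `P¹` of a base point free pencil of which one member is not empty. -/
theorem exists_map_P1 [IsIntegral X] [IsProper (X ↘ Spec (CommRingCat.of k))]
    (hdim : topologicalKrullDim X = 1) {L : X.Modules} (hL : PicF.IsInvertible L)
    (s t : Γ(L, (⊤ : X.Opens))) (x₀ : X)
    (hspan : ∀ x : X, Submodule.span (X.presheaf.stalk x)
        ({(L.presheaf.germ ⊤ x trivial s : L.presheaf.stalk x), L.presheaf.germ ⊤ x trivial t} :
          Set (L.presheaf.stalk x)) = ⊤)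
    (hs : s ≠ 0)
    (hsm : (L.presheaf.germ ⊤ x₀ trivial s : L.presheaf.stalk x₀) ∈
        IsLocalRing.maximalIdeal (X.presheaf.stalk x₀) • (⊤ : Submodule (X.presheaf.stalk x₀) (L.presheaf.stalk x₀))) :
    ∃ r : X ⟶ CohB1.ProjSpace 1 k, r ≫ CohB1.ProjSpace.toSpec 1 k = X ↘ Spec (CommRingCat.of k) ∧
      IsFinite r ∧ Flat r ∧ r (genericPoint X) =
        (haveI := RegExt.isIntegral_projSpace 1 k; genericPoint (CohB1.ProjSpace 1 k)) ∧
      Nonempty ((Scheme.Modules.pullback r).obj (Twist.twistProjSpace 1 k 1) ≅ L) ∧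
      (r.residueDegree (genericPoint X) : ℤ) *
        @Curv2.deg k _ (CohB1.ProjSpace 1 k) ⟨CohB1.ProjSpace.toSpec 1 k⟩ (Twist.twistProjSpace 1 k 1) 1 =
          Curv2.deg k X L 1 := by
  classical
  have hX : CurveLike k X := VB17.curveLike hdim
  haveI := hX.noetherian
  have h1 := (isInvertible_iff_isFinLocFreeOfRank_one L).1 hL
  obtain ⟨r, hr, τ, hτ⟩ := Groth.Agent.S3572.result 1 (X ↘ Spec (CommRingCat.of k)) L hL ![s, t] fun x => by
    refine top_le_iff.1 ((hspan x).ge.trans (Submodule.span_mono ?_))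
    rintro a (rfl | rfl)
    · exact ⟨0, rfl⟩
    · exact ⟨1, rfl⟩
  let pY := CohB1.ProjSpace.toSpec 1 k
  letI : (CohB1.ProjSpace 1 k).Over (Spec (CommRingCat.of k)) := ⟨pY⟩
  haveI := RegExt.isIntegral_projSpace 1 k
  haveI : IsProper pY := ProjSpace.isProper_toSpec 1 k
  haveI : IsProper ((CohB1.ProjSpace 1 k) ↘ Spec (CommRingCat.of k)) := ProjSpace.isProper_toSpec 1 k
  haveI : SmoothOfRelativeDimension 1 pY := ProjSpace.smoothOfRelativeDimension_toSpec 1 k
  haveI : Smooth pY := inferInstance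
  have hdimY : topologicalKrullDim (CohB1.ProjSpace 1 k) = 1 := by rw [Groth.Agent.S10829.result k 1]; rfl
  -- the map is not constant
  let c : Fin (1 + 1) → k := ![1, 0]
  have hv : τ.hom.app ⊤ (Curve17.vSec (X ↘ Spec (CommRingCat.of k)) r c) = s := by
    refine (map_sum (τ.hom.app ⊤).hom _ _).trans ?_
    rw [Fin.sum_univ_two]
    refine Eq.trans (congrArg₂ (· + ·) ((Scheme.Modules.Hom.app_smul τ.hom _ _).trans (congrArg _ (hτ 0)))
      ((Scheme.Modules.Hom.app_smul τ.hom _ _).trans (congrArg _ (hτ 1)))) ?_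
    show ProjUP.toGlobal _ (1 : k) • (s : Γ(L, (⊤ : X.Opens))) + ProjUP.toGlobal _ (0 : k) • (t : Γ(L, (⊤ : X.Opens))) = s
    rw [map_one, map_zero, one_smul, zero_smul, add_zero]
  have hmem : ∀ P : X, Curve17.linForm c ∈ (r P).asHomogeneousIdeal.toIdeal ↔
      (L.presheaf.germ ⊤ P trivial s : L.presheaf.stalk P) ∈
        IsLocalRing.maximalIdeal (X.presheaf.stalk P) • (⊤ : Submodule (X.presheaf.stalk P) (L.presheaf.stalk P)) := fun P => by
    refine (Curve17.germ_vSec_mem_iff (X ↘ Spec (CommRingCat.of k)) r P hr c).symm.trans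
      ((mem_smul_top_congr τ P _).symm.trans (Iff.of_eq ?_))
    congr 1
    exact ((M1.germ_naturality τ.hom ⊤ P trivial _).trans (congrArg _ hv))
  have hgenr : Curve17.linForm c ∉ (r (genericPoint X)).asHomogeneousIdeal.toIdeal := by
    rw [hmem]
    intro h
    have hbot : IsLocalRing.maximalIdeal (X.presheaf.stalk (genericPoint X)) = ⊥ :=
      IsLocalRing.isField_iff_maximalIdeal_eq.1 (Field.toIsField X.functionField)
    rw [hbot, Submodule.bot_smul, Submodule.mem_bot] at h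
    exact hs (eq_zero_of_germ_eq_zero h1 s h)
  have hnc : (Set.range r.base).Nontrivial :=
    ⟨r x₀, ⟨x₀, rfl⟩, r (genericPoint X), ⟨_, rfl⟩, fun h => hgenr (h ▸ (hmem x₀).2 hsm)⟩
  have hξ : r (genericPoint X) = genericPoint (CohB1.ProjSpace 1 k) := Curve17.map_genericPoint hdimY.le r hnc
  haveI : IsProper (r ≫ pY) := by rw [hr]; infer_instance
  haveI : IsProper r := IsProper.of_comp r pY
  haveI : IsFinite r := AmpleFin18.isFinite_of_nonconstant hdim.le hdimY r hξ
  have h := Groth.Agent.S7640.result k X (CohB1.ProjSpace 1 k) hdim hdimY r hr hξ 1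
    (Twist.twistProjSpace 1 k 1) ((isInvertible_iff_isFinLocFreeOfRank_one _).1
      (Twist.isInvertible_twistProjSpace 1 k 1))
  haveI : Flat r := Groth.Agent.S0220.result k X (CohB1.ProjSpace 1 k) (X ↘ Spec (CommRingCat.of k)) pY hdim hdimY
    (fun y => ⟨SmoothReg17.isDomain_stalk pY y, SmoothReg17.isIntegrallyClosed_stalk pY y⟩) r hr hnc
  exact ⟨r, hr, inferInstance, inferInstance, hξ, ⟨τ⟩, by rw [← h, deg_iso τ]⟩

/-- `deg O(1) = 1` on the projective line. -/
theorem deg_twistP1 (k : Type u) [Field k] :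
    @Curv2.deg k _ (CohB1.ProjSpace 1 k) ⟨CohB1.ProjSpace.toSpec 1 k⟩ (Twist.twistProjSpace 1 k 1) 1 = 1 := by
  letI : (CohB1.ProjSpace 1 k).Over (Spec (CommRingCat.of k)) := ⟨CohB1.ProjSpace.toSpec 1 k⟩
  haveI := RegExt.isIntegral_projSpace 1 k
  haveI : IsProper ((CohB1.ProjSpace 1 k) ↘ Spec (CommRingCat.of k)) := ProjSpace.isProper_toSpec 1 k
  haveI : Smooth ((CohB1.ProjSpace 1 k) ↘ Spec (CommRingCat.of k)) := ProjSpace.smooth_toSpec 1 k
  have hdimY : topologicalKrullDim (CohB1.ProjSpace 1 k) = 1 := by rw [Groth.Agent.S10829.result k 1]; rfl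
  obtain ⟨σ, hσ⟩ := exists_section_P1 k
  obtain ⟨hc, hres⟩ := section_point_props σ hσ
  have hX : CurveLike k (CohB1.ProjSpace 1 k) := VB17.curveLike hdimY
  obtain ⟨D, hD, hd, -⟩ := hX.exists_deg_one_of_point hdimY hc (VB17.pid_stalk (k := k) hdimY.le _) hres
  obtain ⟨s, t, x₀, hspan, hs, hsm⟩ := hX.exists_pencil_of_deg_one hD hd (hX.two_le_h0 (genus_P1 k) hD hd)
  obtain ⟨r, -, -, -, -, -, h⟩ := exists_map_P1 (k := k) hdimY hD s t x₀ hspan hs hsm
  rw [hd] at h
  rcases Int.eq_one_or_neg_one_of_mul_eq_one' h with ⟨-, h2⟩ | ⟨h1, -⟩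
  · exact h2
  · omega

end Groth.Agent.CurveCoh17
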