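import Groth.Agent.Lib.CubeField.SameDivisor
import Groth.Agent.Lib.WeakAss18.Basic
import Groth.Agent.Lib.FlatH4.GenPt
import Groth.Prelude.Def_TorSh
import Mathlib.RingTheory.KrullDimension.Zero

/-!
# Sections of torsion-free modules on reduced schemes are determined at the maximal points
-/

set_option autoImplicit false
universe u

open CategoryTheory Limits AlgebraicGeometry TopologicalSpace

namespace Groth.Agent.GenericZero

open Groth.Agent.M1

/-- In a reduced Noetherian ring an ideal in no minimal prime contains a non-zero-divisor. -/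
theorem exists_mem_nonZeroDivisors {R : Type u} [CommRing R] [IsNoetherianRing R] [_root_.IsReduced R] (I : Ideal R)
    (h : ∀ P ∈ minimalPrimes R, ¬ I ≤ P) : ∃ r ∈ I, r ∈ nonZeroDivisors R := by
  have hfin : (minimalPrimes R).Finite := minimalPrimes.finite_of_isNoetherianRing R
  have hns : ¬ ((I : Set R) ⊆ ⋃ P ∈ minimalPrimes R, (P : Set R)) := by
    intro hs
    obtain ⟨P, hP, hle⟩ := (Ideal.subset_union_prime_finite hfin ⊤ ⊤ fun P hP _ _ => hP.1.1).1 hs
    exact h P hP hle
  obtain ⟨r, hrI, hr⟩ := Set.not_subset.1 hns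
  refine ⟨r, hrI, mem_nonZeroDivisors_iff_right.2 fun x hx => ?_⟩
  have hnil : x ∈ sInf (minimalPrimes R) := Submodule.mem_sInf.2 fun P hP =>
    (hP.1.1.mem_or_mem (hx ▸ P.zero_mem : x * r ∈ P)).resolve_right fun hrP => hr (Set.mem_biUnion hP hrP)
  have hsinf : sInf (minimalPrimes R) = nilradical R := by
    rw [minimalPrimes, Ideal.sInf_minimalPrimes]
    rfl
  rw [hsinf, mem_nilradical] at hnil
  exact hnil.eq_zero

variable {X : Scheme.{u}}

/-- A minimal prime of a local ring gives a maximal point. -/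
theorem exists_maxPt_of_minimalPrime {x : X} {P : Ideal (X.presheaf.stalk x)} (hP : P ∈ minimalPrimes (X.presheaf.stalk x)) :
    ∃ (z : X) (h : z ⤳ x), FlatH4.IsMaxPt z ∧ ∀ r, IsUnit (X.presheaf.stalkSpecializes h r) ↔ r ∉ P := by
  haveI := hP.1.1
  obtain ⟨z, h, hz⟩ := CubeField.exists_point_of_prime P
  refine ⟨z, h, fun w hw => CubeField.eq_of_isUnit_iff (hw.trans h) h fun r => ?_, hz⟩
  let Q : Ideal (X.presheaf.stalk x) :=
    (IsLocalRing.maximalIdeal (X.presheaf.stalk w)).comap (X.presheaf.stalkSpecializes (hw.trans h)).hom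
  have hQP : Q ≤ P := fun r hr => by
    by_contra hn
    have hu := ((hz r).2 hn).map (X.presheaf.stalkSpecializes hw).hom
    rw [← CommRingCat.comp_apply, TopCat.Presheaf.stalkSpecializes_comp] at hu
    exact (IsLocalRing.mem_maximalIdeal _).1 hr hu
  have hPQ : P ≤ Q := hP.2 ⟨Ideal.IsPrime.comap _, bot_le⟩ hQP
  rw [hz r]
  have hiff : r ∈ Q ↔ ¬ IsUnit (X.presheaf.stalkSpecializes (hw.trans h) r) := IsLocalRing.mem_maximalIdeal _
  exact ⟨fun hu hr => hiff.1 (hPQ hr) hu, fun hr => not_not.1 fun hu => hr (hQP (hiff.2 hu))⟩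

/-- At a maximal point of a reduced scheme the local ring is a field. -/
theorem isField_stalk_of_maxPt [AlgebraicGeometry.IsReduced X] {z : X} (hz : FlatH4.IsMaxPt z) :
    IsField (X.presheaf.stalk z) := by
  haveI : Ring.KrullDimLE 0 (X.presheaf.stalk z) := by
    rw [Ring.krullDimLE_iff, ringKrullDim_stalk_eq_coheight, Order.coheight_eq_zero.2 fun g hg => (hz g hg).le]
    simp
  exact Ring.KrullDimLE.isField_of_isReduced

/-- A section of a torsion-free quasi-coherent module on a reduced scheme vanishes if it does so at the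
maximal points. -/
theorem eq_zero_of_maxPt [AlgebraicGeometry.IsReduced X] [IsLocallyNoetherian X] {F : X.Modules} [Coh.IsQCoh F]
    (htF : TorSh.IsTorsionFree F) {U : X.Opens} (s : Γ(F, U))
    (h : ∀ (z : X) (hz : z ∈ U), FlatH4.IsMaxPt z → F.presheaf.germ U z hz s = 0) : s = 0 := by
  refine M1.section_ext _ _ fun y hy => ?_
  rw [map_zero]
  by_contra ha
  let ann : Ideal (X.presheaf.stalk y) := LinearMap.ker (LinearMap.toSpanSingleton (X.presheaf.stalk y)
    (F.presheaf.stalk y) (F.presheaf.germ U y hy s))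
  obtain ⟨r, hr, hrnzd⟩ := exists_mem_nonZeroDivisors ann fun P hP hle => by
    obtain ⟨z, hzy, hzmax, hzu⟩ := exists_maxPt_of_minimalPrime hP
    obtain ⟨V, hV, hyV, hVU⟩ := exists_isAffineOpen_mem_and_subset (x := y) hy
    have hzV : z ∈ V := hzy.mem_open V.2 hyV
    have h0 : F.presheaf.germ V z hzV (mres F hVU s) = 0 := by
      rw [germ_mres]; exact h z (hVU hzV) hzmax
    obtain ⟨c, hc, hcs⟩ := exists_smul_eq_zero_of_germ_eq_zero F hV hzV (mres F hVU s) h0
    have hmem : X.presheaf.germ V y hyV c ∈ ann := by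
      show X.presheaf.germ V y hyV c • F.presheaf.germ U y hy s = 0
      rw [← germ_mres F hVU hyV s, ← germ_smul, hcs, map_zero]
    refine (hzu (X.presheaf.germ V y hyV c)).1 ?_ (hle hmem)
    rwa [TopCat.Presheaf.germ_stalkSpecializes_apply]
  haveI := htF y
  exact ha ((Module.IsTorsionFree.isSMulRegular (M := F.presheaf.stalk y)
    (isRegular_iff_mem_nonZeroDivisors.2 hrnzd)) ((show r • F.presheaf.germ U y hy s = 0 from hr).trans (smul_zero _).symm))

end Groth.Agent.GenericZero
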