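import Groth.Agent.Lib.CurveCoh17.Hyper
import Groth.Agent.Lib.CurveCoh17.PairDeg
import Groth.Agent.Lib.VB17.Duality
import Groth.Agent.Lib.Weight4.MultRank

/-!
# Invertible modules of large degree, and the rank of a finite flat map of curves at the generic point
-/

set_option linter.style.haveILetI false
set_option autoImplicit false
set_option maxHeartbeats 800000

universe u

open CategoryTheory TopologicalSpace Opposite CategoryTheory.Limits AlgebraicGeometry

namespace Groth.Agent.CurveCoh17

open Groth.Agent.M1 Groth.Agent.M2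

variable {k : Type u} [Field k] {X : Scheme.{u}} [X.Over (Spec (CommRingCat.of k))]

/-- A regular curve has invertible modules of arbitrarily large degree. -/
theorem hasBigDeg_of_regCurve (hX : VB17.RegCurve k X) (hdim : topologicalKrullDim X = 1) :
    VB17.HasBigDeg k X := fun b => by
  haveI := hX.integral
  haveI := hX.like.noetherian
  obtain ⟨x, hx⟩ : ∃ x : X, IsClosed ({x} : Set X) := by
    by_contra hno
    push Not at hno
    have hall : ∀ x : X, x = genericPoint X := fun x =>
      by_contra fun h => hno x (AmpleFin18.isClosed_of_ne_genericPoint hdim.le h)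
    haveI : Subsingleton X := ⟨fun a b => (hall a).trans (hall b).symm⟩
    exact hno (genericPoint X) Set.subsingleton_of_subsingleton.isClosed
  set Z := Scheme.IdealSheafData.vanishingIdeal (⟨{x}, hx⟩ : Closeds X)
  obtain ⟨h1, hd⟩ : PicF.IsInvertible (ClSub.idealMod Z) ∧ Curv2.deg k X (ClSub.idealMod Z) 1 < 0 := by
    have hO : FlatMod.IsFinLocFreeOfRank 1 (Coh.structureModule X) :=
      (isInvertible_iff_isFinLocFreeOfRank_one _).1 (PicLoc.isInvertible_structureModule X)
    haveI : Mono (ClSub.idealModι Z) := (shortExact_idealMod Z).mono_f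
    obtain ⟨r', hr', hI⟩ := VB17.exists_rank_of_mono hX.pid hO (isCoh_idealMod Z) (ClSub.idealModι Z)
    have hne := genericPoint_ne_of_isClosed hdim hx
    have hsurj : Function.Surjective (stalkLin (ClSub.idealModι Z) (genericPoint X)) := fun a =>
      (exact_iff_stalk_eq_zero _).1 (shortExact_idealMod Z).exact _ a
        ((suppIn_quotMod_point hx).zero _ (by simpa using hne) _)
    have : r' = 1 := by
      rw [← VB17.finrank_stalk hI (genericPoint X), ← VB17.finrank_stalk hO (genericPoint X)]
      exact (LinearEquiv.ofBijective _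
        ⟨(mono_iff_stalk (ClSub.idealModι Z)).1 inferInstance _, hsurj⟩).finrank_eq
    subst this
    refine ⟨(isInvertible_iff_isFinLocFreeOfRank_one _).2 hI, ?_⟩
    obtain ⟨hle, heq⟩ := VB17.deg_le_of_mono hX.like hI hO (ClSub.idealModι Z)
    rw [deg_structureModule] at hle heq
    refine lt_of_le_of_ne hle fun h0 => ?_
    haveI := heq h0
    obtain ⟨a, ha⟩ := (quot_point_props hx).2
    obtain ⟨w, rfl⟩ := (epi_iff_stalk (ClSub.toSubscheme Z)).1 (shortExact_idealMod Z).epi_g x a
    obtain ⟨v, rfl⟩ := surjective_stalkLin_of_isIso (ClSub.idealModι Z) x w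
    apply ha
    refine (stalkLin_comp (ClSub.idealModι Z) (ClSub.toSubscheme Z) x v).symm.trans ?_
    rw [show ClSub.idealModι Z ≫ ClSub.toSubscheme Z = 0 from kernel.condition _]
    show (stalkAb x).map (0 : ClSub.idealMod Z ⟶ ClSub.quotMod Z) v = 0
    rw [Functor.map_zero]
    rfl
  obtain ⟨D, hD, ⟨e⟩⟩ := exists_inverse h1
  have hdD : 1 ≤ Curv2.deg k X D 1 := by
    rw [hX.like.deg_of_tensor_iso h1 hD e]; omega
  refine ⟨CohB1.tensorPow D b.toNat, isInvertible_tensorPow hD _, ?_⟩
  rw [hX.like.deg_tensorPow hD]
  exact (Int.self_le_toNat b).trans (le_mul_of_one_le_right (Int.natCast_nonneg _) hdD)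

omit [X.Over (Spec (CommRingCat.of k))] in
/-- The rank of a finite flat map of integral schemes at the generic point is the residue degree, when
only the generic point maps to the generic point. -/
theorem finrank_genericPoint_eq_residueDegree {Y : Scheme.{u}} [IsIntegral X] [IsIntegral Y] (f : X ⟶ Y)
    [IsFinite f] [Flat f] (e : f (genericPoint X) = genericPoint Y)
    (huniq : ∀ x, f x = genericPoint Y → x = genericPoint X) :
    f.finrank (genericPoint Y) = f.residueDegree (genericPoint X) := by
  have h := Weight.fibreIntegral_wt_eq_finrank f (genericPoint Y)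
  unfold MoreMor.fibreIntegral at h
  haveI : Subsingleton {x : X // f x = genericPoint Y} :=
    ⟨fun a b => Subtype.ext ((huniq _ a.2).trans (huniq _ b.2).symm)⟩
  rw [finsum_eq_single _ (⟨genericPoint X, e⟩ : {x : X // f x = genericPoint Y})
    (fun z hz => absurd (Subsingleton.elim _ _) hz),
    Weight.fibreIntegral_term f (genericPoint X) (f.quasiFiniteAt _)] at h
  have hY : IsField (Y.presheaf.stalk (f (genericPoint X))) := by
    rw [e]; exact Field.toIsField Y.functionField
  have hlen : Weight.lenFib (f.stalkMap (genericPoint X)).hom = 1 := by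
    refine Weight.lenFib_eq_one_of_map_eq _ ?_
    rw [IsLocalRing.isField_iff_maximalIdeal_eq.1 hY, Ideal.map_bot,
      IsLocalRing.isField_iff_maximalIdeal_eq.1 (Field.toIsField X.functionField)]
  rw [hlen] at h
  have h' : (f.finrank (genericPoint Y) : ℤ) = (f.residueDegree (genericPoint X) : ℤ) := by
    rw [← h]; simp; rfl
  exact_mod_cast h'

end Groth.Agent.CurveCoh17
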