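import Groth.Agent.Lib.CurveCoh17.Integral
import Groth.Prelude.Def_ClSub2
import Groth.Agent.Lib.VB17.Setup
import Groth.Agent.Lib.VarDim.Scheme
import Mathlib.AlgebraicGeometry.ZariskisMainTheorem

/-!
# Proper birational maps to curves are finite
-/

set_option linter.style.haveILetI false
set_option autoImplicit false

universe u

open CategoryTheory TopologicalSpace CategoryTheory.Limits AlgebraicGeometry

namespace Groth.Agent.CurveCoh17

/-- A dense open contains the maximal points. -/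
theorem mem_of_dense_of_maximal {X : Scheme.{u}} [IsNoetherian X] {U : X.Opens} (hU : Dense (U : Set X))
    {g : X} (hg : ∀ y, y ⤳ g → y = g) : g ∈ U := by
  let G := {g' : X | ∀ y, y ⤳ g' → y = g'} \ {g}
  have hclosed : IsClosed (⋃ g' ∈ G, closure ({g'} : Set X)) :=
    ((finite_maximal (X := X)).subset Set.sdiff_subset).isClosed_biUnion fun _ _ => isClosed_closure
  have hgV : g ∈ (⋃ g' ∈ G, closure ({g'} : Set X))ᶜ := fun h => by
    obtain ⟨g', hg', hgg'⟩ := Set.mem_iUnion₂.1 h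
    exact hg'.2 (hg g' (specializes_iff_mem_closure.2 hgg'))
  obtain ⟨y, hy, hyU⟩ := hU.inter_open_nonempty _ hclosed.isOpen_compl ⟨g, hgV⟩
  obtain ⟨g', hg'y, hg'⟩ := exists_maximal_generization y
  by_cases h : g' = g
  · subst h; exact hg'y.mem_open U.2 hyU
  · exact absurd (Set.mem_iUnion₂.2 ⟨g', ⟨hg', h⟩, specializes_iff_mem_closure.1 hg'y⟩) hy

/-- Over an open over which `f` is a closed immersion, `O → f_* O` is surjective on stalks. -/
theorem surjective_stalkLin_unitToPush {X Y : Scheme.{u}} (f : Y ⟶ X) (U : X.Opens) [IsClosedImmersion (f ∣_ U)]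
    {x : X} (hx : x ∈ U) : Function.Surjective (stalkLin (ClSub.unitToPush f) x) := fun a => by
  let P := (Scheme.Modules.pushforward f).obj (Coh.structureModule Y)
  obtain ⟨V, hxV, t, rfl⟩ := P.presheaf.exists_germ_eq a
  obtain ⟨_, ⟨W, hW, rfl⟩, hxW, hWV⟩ :=
    X.isBasis_affineOpens.exists_subset_of_mem_open (show x ∈ (V ⊓ U : X.Opens) from ⟨hxV, hx⟩) (V ⊓ U).2
  have hWU : W ≤ U := fun y hy => (hWV hy).2
  have hWV' : W ≤ V := fun y hy => (hWV hy).1
  have e : U.ι ''ᵁ (U.ι ⁻¹ᵁ W) = W := by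
    rw [Scheme.Hom.image_preimage_eq_opensRange_inf, Scheme.Opens.opensRange_ι]
    exact inf_eq_right.2 hWU
  have haff : IsAffineOpen (U.ι ⁻¹ᵁ W) := (U.ι.isAffineOpen_iff_of_isOpenImmersion).1 (e.symm ▸ hW)
  have hs1 : Function.Surjective (f.app (U.ι ''ᵁ (U.ι ⁻¹ᵁ W))) := by
    have h1 := Scheme.Hom.app_surjective (f ∣_ U) _ haff
    rw [morphismRestrict_app] at h1
    intro b
    obtain ⟨c, hc⟩ := h1 (Y.presheaf.map (eqToHom (image_morphismRestrict_preimage f U (U.ι ⁻¹ᵁ W))).op b)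
    exact ⟨c, (ConcreteCategory.bijective_of_isIso (Y.presheaf.map
      (eqToHom (image_morphismRestrict_preimage f U (U.ι ⁻¹ᵁ W))).op)).1 hc⟩
  rw [e] at hs1
  obtain ⟨c, hc⟩ := hs1 (M1.mres P hWV' t)
  refine ⟨(Coh.structureModule X).presheaf.germ W x hxW c, ?_⟩
  rw [stalkLin_apply, M1.germ_naturality (ClSub.unitToPush f) W x hxW c]
  refine (congrArg (P.presheaf.germ W x hxW) hc).trans ?_
  exact P.presheaf.germ_res_apply (homOfLE hWV') x hxW t

/-- On a reduced scheme a map which is an isomorphism over a dense open is injective on functions. -/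
theorem injective_app_of_dense {X Y : Scheme.{u}} [IsNoetherian X] [AlgebraicGeometry.IsReduced X] (f : Y ⟶ X)
    (U : X.Opens) (hU : Dense (U : Set X)) [IsIso (f ∣_ U)] (W : X.Opens) : Function.Injective (f.app W) := by
  refine (injective_iff_map_eq_zero (f.app W).hom).2 fun c hc => ?_
  refine (basicOpen_eq_bot_iff c).1 ?_
  ext y
  simp only [TopologicalSpace.Opens.coe_bot, Set.mem_empty_iff_false, iff_false]
  intro hy
  obtain ⟨g, hgy, hg⟩ := exists_maximal_generization y
  have hgb : g ∈ X.basicOpen c := hgy.mem_open (X.basicOpen c).2 hy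
  have hgW : g ∈ W := X.basicOpen_le c hgb
  have hgU : g ∈ U := mem_of_dense_of_maximal hU hg
  let c' : Γ(X, U.ι ''ᵁ (U.ι ⁻¹ᵁ W)) :=
    X.presheaf.map (homOfLE (Scheme.Hom.image_preimage_le U.ι W)).op c
  have h0 : ((f ∣_ U).app (U.ι ⁻¹ᵁ W)) c' = 0 := by
    rw [morphismRestrict_app]
    have h1 : f.app (U.ι ''ᵁ (U.ι ⁻¹ᵁ W)) c' = 0 := by
      refine (ConcreteCategory.congr_hom
        (f.naturality (homOfLE (Scheme.Hom.image_preimage_le U.ι W)).op) c).trans ?_
      show (Y.presheaf.map _).hom (f.app W c) = 0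
      exact (congrArg (Y.presheaf.map _).hom hc).trans (map_zero (Y.presheaf.map _).hom)
    show (Y.presheaf.map _).hom (f.app (U.ι ''ᵁ (U.ι ⁻¹ᵁ W)) c') = 0
    exact (congrArg (Y.presheaf.map _).hom h1).trans (map_zero (Y.presheaf.map _).hom)
  have hc0 : c' = 0 :=
    (ConcreteCategory.bijective_of_isIso ((f ∣_ U).app (U.ι ⁻¹ᵁ W))).1 (h0.trans (map_zero _).symm)
  have hgW' : g ∈ U.ι ''ᵁ (U.ι ⁻¹ᵁ W) := ⟨⟨g, hgU⟩, hgW, rfl⟩
  have hz : X.presheaf.germ W g hgW c = 0 := by
    rw [← X.presheaf.germ_res_apply (homOfLE (Scheme.Hom.image_preimage_le U.ι W)) g hgW' c]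
    exact (congrArg _ hc0).trans (map_zero _)
  exact not_isUnit_zero (hz ▸ (X.mem_basicOpen c g hgW).1 hgb)

variable {k : Type u} [Field k] {X X' : Scheme.{u}} (q : X ⟶ Spec (CommRingCat.of k)) [IsProper q]
  (f : X' ⟶ X) [IsProper f]

include q in
/-- A proper map to a curve which is an isomorphism over a dense open with dense preimage is finite,
with source of dimension at most one. -/
theorem isFinite_of_birational (hdim : topologicalKrullDim X ≤ 1) (U : X.Opens)
    (hU' : Dense ((f ⁻¹ᵁ U : X'.Opens) : Set X')) [IsIso (f ∣_ U)] :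
    IsFinite f ∧ topologicalKrullDim X' ≤ 1 := by
  haveI := LocallyOfFiniteType.isLocallyNoetherian (f ≫ q)
  haveI : CompactSpace X' := QuasiCompact.compactSpace_of_compactSpace (f ≫ q)
  haveI : IsNoetherian X' := {}
  have hdim' : topologicalKrullDim X' ≤ 1 := by
    rw [VarDim.dim_eq_iSup_sdim (f ≫ q)]
    refine iSup_le fun z => ?_
    obtain ⟨g, hgz, hg⟩ := exists_maximal_generization z
    have hgU : g ∈ f ⁻¹ᵁ U := mem_of_dense_of_maximal hU' hg
    have e1 : VarDim.sdim (f ≫ q) g = VarDim.sdim q (f g) := by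
      have a := VarDim.sdim_comp_of_surjective (f ≫ q) (f ⁻¹ᵁ U).ι ⟨g, hgU⟩
      have b := VarDim.sdim_comp_of_surjective q ((f ∣_ U) ≫ U.ι) ⟨g, hgU⟩
      rw [morphismRestrict_ι] at b
      simp only [Category.assoc] at b
      exact a.symm.trans b
    have hle : VarDim.sdim (f ≫ q) z ≤ VarDim.sdim q (f g) := by
      rw [← e1]
      rcases eq_or_ne g z with rfl | hne
      · exact le_rfl
      · exact (VarDim.sdim_lt_of_specializes (f ≫ q) hgz hne).le
    refine le_trans (le_trans (show ((VarDim.sdim (f ≫ q) z : ℕ) : WithBot ℕ∞) ≤ (VarDim.sdim q (f g) : ℕ) by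
      exact_mod_cast hle) ?_) hdim
    rw [VarDim.dim_eq_iSup_sdim q]
    exact le_iSup (fun x : X => ((VarDim.sdim q x : ℕ) : WithBot ℕ∞)) (f g)
  refine ⟨?_, hdim'⟩
  haveI : LocallyQuasiFinite f := locallyQuasiFinite_iff_finite_preimage_singleton.2 fun x => by
    by_cases hx : x ∈ U
    · refine Set.Subsingleton.finite fun a ha b hb => ?_
      have hinj : Function.Injective (f ∣_ U) := (f ∣_ U).homeomorph.injective
      have hU0 : ∀ a : X', f a = x → a ∈ f ⁻¹ᵁ U := fun a ha => show f a ∈ U from ha ▸ hx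
      have h2 : (⟨a, hU0 a ha⟩ : (f ⁻¹ᵁ U : X'.Opens)) = ⟨b, hU0 b hb⟩ := hinj (Subtype.ext (by
        rw [morphismRestrict_base, Set.restrictPreimage]
        exact (show f a = x from ha).trans (show f b = x from hb).symm))
      exact congrArg Subtype.val h2
    · obtain ⟨S, hS, -⟩ := exists_finset_closedPoints hdim' (C := ((f ⁻¹ᵁ U : X'.Opens) : Set X')ᶜ)
        (f ⁻¹ᵁ U).isOpen.isClosed_compl fun g hg hgC => hgC (mem_of_dense_of_maximal hU' hg)
      refine S.finite_toSet.subset fun a ha => ?_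
      rw [hS]
      exact fun haU => hx ((show f a = x from ha) ▸ haU)
  exact IsFinite.of_isProper_of_locallyQuasiFinite f

end Groth.Agent.CurveCoh17
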