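import Groth.Agent.Lib.CurveCoh17.RegPoint
import Groth.Agent.Lib.HopfBilin17.Basic

/-!
# Clifford's inequality from the pairing `H⁰(F) × H¹(F)^∨ → H¹(O)^∨`
-/

set_option linter.style.haveILetI false
set_option autoImplicit false

universe u

open CategoryTheory TopologicalSpace Opposite CategoryTheory.Limits AlgebraicGeometry

namespace Groth.Agent.CurveCoh17

open Groth.Agent.M1 Groth.Agent.M2

variable {k : Type u} [Field k] [IsAlgClosed k] {X : Scheme.{u}} [X.Over (Spec (CommRingCat.of k))] {F : X.Modules}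

theorem CurveLike.h0_add_h1_le (hX : CurveLike k X) (hF : RkOne F) (hs : Nontrivial (Coh.HH X F 0))
    (h1 : Nontrivial (Coh.HH X F 1)) :
    Module.finrank k (Coh.HH X F 0) + Module.finrank k (Coh.HH X F 1) ≤ Curv2.genus k X + 1 := by
  haveI := hX.noetherian
  haveI := hX.fin _ (isCoh_structureModule (X := X)) 1
  haveI := hX.fin F hF.coh 0
  haveI := hX.fin F hF.coh 1
  let β : Coh.HH X F 0 →ₗ[k] Module.Dual k (Coh.HH X F 1) →ₗ[k]
      Module.Dual k (Coh.HH X (Coh.structureModule X) 1) :=
    LinearMap.mk₂ k (fun z φ => φ.comp (cupH1 k F z))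
      (fun z w φ => by rw [map_add, LinearMap.comp_add])
      (fun c z φ => by rw [map_smul, LinearMap.comp_smul])
      (fun z φ ψ => LinearMap.add_comp _ _ _)
      (fun c z φ => LinearMap.smul_comp _ _ _)
  have h := HopfBilin.finrank_add_le (k := k) β fun z φ hz hφ h0 => by
    obtain ⟨t, -, -, -, -, hsurj, -⟩ := hX.section_numerics hF (hh0_ne_zero hz)
    refine hφ (LinearMap.ext fun η => ?_)
    obtain ⟨x, hx⟩ := hsurj η
    rw [← hx]
    exact LinearMap.congr_fun h0 x
  rw [Subspace.dual_finrank_eq, Subspace.dual_finrank_eq] at h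
  exact h

/-- Clifford: `2 h⁰(F) ≤ deg F + h⁰(O) + 1` for special effective `F`. -/
theorem CurveLike.clifford (hX : CurveLike k X) (hF : RkOne F) (hs : Nontrivial (Coh.HH X F 0))
    (h1 : Nontrivial (Coh.HH X F 1)) :
    2 * (Module.finrank k (Coh.HH X F 0) : ℤ) ≤
      Curv2.deg k X F 1 + Module.finrank k (Coh.HH X (Coh.structureModule X) 0) + 1 := by
  have h := hX.h0_add_h1_le hF hs h1
  have hrr := hX.rr hF.coh
  omega

end Groth.Agent.CurveCoh17
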