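import Groth.Agent.Lib.CurveCoh17.AffPush
import Groth.Agent.Lib.CurveCoh17.Euler
import Groth.Agent.Lib.CurveCoh17.Degree
import Groth.Prelude.Def_ClSub2

/-!
# Direct images of the structure sheaf of a scheme split into two open pieces
-/

set_option linter.style.haveILetI false
set_option autoImplicit false

universe u

open CategoryTheory TopologicalSpace Opposite CategoryTheory.Limits AlgebraicGeometry

namespace Groth.Agent.CurveCoh17

variable {X W A B : Scheme.{u}}

/-- `p_* O_W ⟶ (a ≫ p)_* O_A`, restriction along `a`. -/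
noncomputable def pushRes (p : W ⟶ X) (a : A ⟶ W) :
    (Scheme.Modules.pushforward p).obj (Coh.structureModule W) ⟶
      (Scheme.Modules.pushforward (a ≫ p)).obj (Coh.structureModule A) :=
  ⟨PresheafOfModules.homMk
    { app := fun U => AddCommGrpCat.ofHom
        ((a.app (p ⁻¹ᵁ U.unop)).hom :
          Γ(W, p ⁻¹ᵁ U.unop) →+* Γ(A, a ⁻¹ᵁ (p ⁻¹ᵁ U.unop))).toAddMonoidHom
      naturality := fun U V i => by
        ext s
        exact congr($(a.naturality ((Opens.map p.base).map i.unop).op) s) }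
    (fun U r s => map_mul (a.app (p ⁻¹ᵁ U.unop)).hom (p.app U.unop r) s)⟩

theorem pushRes_app (p : W ⟶ X) (a : A ⟶ W) (U : X.Opens) (s : Γ(W, p ⁻¹ᵁ U)) :
    (pushRes p a).app U s = a.app (p ⁻¹ᵁ U) s := rfl

variable (a : A ⟶ W) (b : B ⟶ W) [IsOpenImmersion a] [IsOpenImmersion b]

theorem eq_of_app_eq (hcov : ∀ w : W, w ∈ Set.range a ∨ w ∈ Set.range b) {U : W.Opens}
    (s t : Γ(W, U)) (ha : a.app U s = a.app U t) (hb : b.app U s = b.app U t) : s = t := by
  refine TopCat.Presheaf.section_ext W.sheaf U s t fun x hx => ?_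
  rcases hcov x with ⟨z, rfl⟩ | ⟨z, rfl⟩
  · refine (ConcreteCategory.bijective_of_isIso (a.stalkMap z)).1 ?_
    erw [Scheme.Hom.germ_stalkMap_apply, Scheme.Hom.germ_stalkMap_apply, ha]
  · refine (ConcreteCategory.bijective_of_isIso (b.stalkMap z)).1 ?_
    erw [Scheme.Hom.germ_stalkMap_apply, Scheme.Hom.germ_stalkMap_apply, hb]

omit [IsOpenImmersion b] in
theorem exists_on_range {U : W.Opens} (sa : Γ(A, a ⁻¹ᵁ U)) :
    ∃ t : Γ(W, U ⊓ a.opensRange), a.app (U ⊓ a.opensRange) t =
      A.presheaf.map (homOfLE (show a ⁻¹ᵁ (U ⊓ a.opensRange) ≤ a ⁻¹ᵁ U from fun _ hz => hz.1)).op sa :=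
  haveI := a.isIso_app (U ⊓ a.opensRange) inf_le_right
  (ConcreteCategory.bijective_of_isIso (a.app (U ⊓ a.opensRange))).2 _

theorem exists_app_eq (hcov : ∀ w : W, w ∈ Set.range a ∨ w ∈ Set.range b)
    (hdisj : Disjoint (Set.range a) (Set.range b)) {U : W.Opens} (sa : Γ(A, a ⁻¹ᵁ U)) (sb : Γ(B, b ⁻¹ᵁ U)) :
    ∃ s : Γ(W, U), a.app U s = sa ∧ b.app U s = sb := by
  obtain ⟨ta, hta⟩ := exists_on_range a sa
  obtain ⟨tb, htb⟩ := exists_on_range b sb
  let V : Bool → W.Opens := fun c => cond c (U ⊓ a.opensRange) (U ⊓ b.opensRange)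
  have hle : ∀ c, V c ≤ U := fun c => by cases c <;> exact inf_le_left
  let sf : ∀ c, Γ(W, V c) := fun c => Bool.rec tb ta c
  have hcover : U ≤ iSup V := fun x hx => by
    rcases hcov x with h | h
    · exact Opens.mem_iSup.2 ⟨true, hx, h⟩
    · exact Opens.mem_iSup.2 ⟨false, hx, h⟩
  obtain ⟨g, hg, -⟩ := W.sheaf.existsUnique_gluing' V U (fun c => homOfLE (hle c)) hcover sf fun c d => by
    refine TopCat.Presheaf.section_ext W.sheaf (V c ⊓ V d) _ _ fun x hx => ?_
    cases c <;> cases d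
    · rfl
    · exact absurd hx.1.2 (Set.disjoint_left.1 hdisj hx.2.2)
    · exact absurd hx.2.2 (Set.disjoint_left.1 hdisj hx.1.2)
    · rfl
  have hga : W.presheaf.map (homOfLE (hle true)).op g = ta := hg true
  have hgb : W.presheaf.map (homOfLE (hle false)).op g = tb := hg false
  refine ⟨g, ?_, ?_⟩
  · refine TopCat.Presheaf.section_ext A.sheaf _ _ _ fun z hz => ?_
    have hz' : z ∈ a ⁻¹ᵁ (U ⊓ a.opensRange) := ⟨hz, z, rfl⟩
    have h1 := congrArg (A.presheaf.germ _ z hz') hta
    rw [← hga, TopCat.Presheaf.germ_res_apply] at h1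
    erw [← Scheme.Hom.germ_stalkMap_apply a (U ⊓ a.opensRange) z hz'] at h1
    erw [TopCat.Presheaf.germ_res_apply W.presheaf (homOfLE (hle true)) (a z) hz' g,
      Scheme.Hom.germ_stalkMap_apply] at h1
    exact h1
  · refine TopCat.Presheaf.section_ext B.sheaf _ _ _ fun z hz => ?_
    have hz' : z ∈ b ⁻¹ᵁ (U ⊓ b.opensRange) := ⟨hz, z, rfl⟩
    have h1 := congrArg (B.presheaf.germ _ z hz') htb
    rw [← hgb, TopCat.Presheaf.germ_res_apply] at h1
    erw [← Scheme.Hom.germ_stalkMap_apply b (U ⊓ b.opensRange) z hz'] at h1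
    erw [TopCat.Presheaf.germ_res_apply W.presheaf (homOfLE (hle false)) (b z) hz' g,
      Scheme.Hom.germ_stalkMap_apply] at h1
    exact h1

variable (p : W ⟶ X)

/-- Extension by zero from the piece `a`. -/
theorem exists_pushExt (hcov : ∀ w : W, w ∈ Set.range a ∨ w ∈ Set.range b)
    (hdisj : Disjoint (Set.range a) (Set.range b)) :
    ∃ ε : (Scheme.Modules.pushforward (a ≫ p)).obj (Coh.structureModule A) ⟶
        (Scheme.Modules.pushforward p).obj (Coh.structureModule W),
      ε ≫ pushRes p a = 𝟙 _ ∧ ε ≫ pushRes p b = 0 := by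
  choose e he₁ he₂ using fun (U : X.Opens) (s : Γ(A, a ⁻¹ᵁ (p ⁻¹ᵁ U))) =>
    exists_app_eq a b hcov hdisj (U := p ⁻¹ᵁ U) s 0
  let φ : ∀ U : X.Opens, Γ(A, a ⁻¹ᵁ (p ⁻¹ᵁ U)) →+ Γ(W, p ⁻¹ᵁ U) := fun U => AddMonoidHom.mk' (e U) fun x y =>
    eq_of_app_eq a b hcov _ _ (by rw [map_add, he₁, he₁, he₁]) (by rw [map_add, he₂, he₂, he₂, add_zero])
  let ε : (Scheme.Modules.pushforward (a ≫ p)).obj (Coh.structureModule A) ⟶
        (Scheme.Modules.pushforward p).obj (Coh.structureModule W) :=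
    ⟨PresheafOfModules.homMk
      { app := fun U => AddCommGrpCat.ofHom (φ U.unop)
        naturality := fun U V i => by
          ext s
          refine eq_of_app_eq a b hcov _ _ ?_ ?_
          · refine (he₁ V.unop _).trans ?_
            refine Eq.trans ?_ (congr($(a.naturality ((Opens.map p.base).map i.unop).op) (e U.unop s))).symm
            exact (congrArg _ (he₁ U.unop s)).symm
          · refine (he₂ V.unop _).trans ?_
            refine Eq.trans ?_ (congr($(b.naturality ((Opens.map p.base).map i.unop).op) (e U.unop s))).symm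
            show (0 : Γ(B, b ⁻¹ᵁ (p ⁻¹ᵁ V.unop))) = (B.presheaf.map _).hom ((b.app (p ⁻¹ᵁ U.unop)).hom (e U.unop s))
            rw [he₂ U.unop s, map_zero] }
      (fun U r s => eq_of_app_eq a b hcov _ _
        ((he₁ U.unop _).trans (((map_mul (a.app (p ⁻¹ᵁ U.unop)).hom (p.app U.unop r) (e U.unop s)).trans
          (congrArg ((a.app (p ⁻¹ᵁ U.unop)).hom (p.app U.unop r) * ·) (he₁ U.unop s))).symm))
        ((he₂ U.unop _).trans (((map_mul (b.app (p ⁻¹ᵁ U.unop)).hom (p.app U.unop r) (e U.unop s)).trans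
          (congrArg ((b.app (p ⁻¹ᵁ U.unop)).hom (p.app U.unop r) * ·) (he₂ U.unop s))).trans
          (mul_zero _)).symm))⟩
  refine ⟨ε, ?_, ?_⟩
  · apply Scheme.Modules.hom_ext
    intro U
    ext s
    exact he₁ U s
  · apply Scheme.Modules.hom_ext
    intro U
    ext s
    exact he₂ U s

/-- For a scheme split into two open pieces, `p_* O_W` is an extension of the two direct images. -/
theorem exists_splitting_push (hcov : ∀ w : W, w ∈ Set.range a ∨ w ∈ Set.range b)
    (hdisj : Disjoint (Set.range a) (Set.range b)) :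
    ∃ S : ShortComplex X.Modules, S.ShortExact ∧
      S.X₁ = (Scheme.Modules.pushforward (b ≫ p)).obj (Coh.structureModule B) ∧
      S.X₂ = (Scheme.Modules.pushforward p).obj (Coh.structureModule W) ∧
      S.X₃ = (Scheme.Modules.pushforward (a ≫ p)).obj (Coh.structureModule A) := by
  obtain ⟨εa, ha₁, ha₂⟩ := exists_pushExt a b p hcov hdisj
  obtain ⟨εb, hb₁, hb₂⟩ := exists_pushExt b a p (fun w => (hcov w).symm) hdisj.symm
  refine ⟨ShortComplex.mk εb (pushRes p a) hb₂, ShortComplex.Splitting.shortExact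
    { r := pushRes p b, s := εa, f_r := hb₁, s_g := ha₁, id := ?_ }, rfl, rfl, rfl⟩
  apply Scheme.Modules.hom_ext
  intro U
  ext s
  show εb.app U ((pushRes p b).app U s) + εa.app U ((pushRes p a).app U s) = s
  have h1 : ∀ x, (pushRes p a).app U (εa.app U x) = x := fun x =>
    congr($(congrArg (fun f => Scheme.Modules.Hom.app f U) ha₁) x)
  have h2 : ∀ x, (pushRes p b).app U (εb.app U x) = x := fun x =>
    congr($(congrArg (fun f => Scheme.Modules.Hom.app f U) hb₁) x)
  have h3 : ∀ x, (pushRes p b).app U (εa.app U x) = 0 := fun x =>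
    congr($(congrArg (fun f => Scheme.Modules.Hom.app f U) ha₂) x)
  have h4 : ∀ x, (pushRes p a).app U (εb.app U x) = 0 := fun x =>
    congr($(congrArg (fun f => Scheme.Modules.Hom.app f U) hb₂) x)
  refine eq_of_app_eq a b hcov _ _ ?_ ?_
  · show (pushRes p a).app U _ = (pushRes p a).app U s
    rw [map_add, h4, h1, zero_add]
  · show (pushRes p b).app U _ = (pushRes p b).app U s
    rw [map_add, h2, h3, add_zero]

end Groth.Agent.CurveCoh17
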