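import Groth.Agent.Lib.CurveCoh17.Pencil2
import Groth.Agent.Lib.CurveCoh17.GenusBC
import Groth.Agent.Lib.Curve17.FrobTwist
import Mathlib.FieldTheory.PurelyInseparable.Basic

/-!
# Double covers of the projective line by curves of positive genus are separable
-/

set_option linter.style.haveILetI false
set_option autoImplicit false
set_option maxHeartbeats 800000

universe u

open CategoryTheory TopologicalSpace Opposite CategoryTheory.Limits AlgebraicGeometry

namespace Groth.Agent.CurveCoh17

open Groth.Agent.M1 Groth.Agent.M2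

variable {k : Type u} [Field k] {X : Scheme.{u}} [X.Over (Spec (CommRingCat.of k))]

/-- A smooth proper curve purely inseparably covering the line has genus zero. -/
theorem genus_zero_of_purelyInsep [IsIntegral X] [IsProper (X ↘ Spec (CommRingCat.of k))]
    [Smooth (X ↘ Spec (CommRingCat.of k))] (hdim : topologicalKrullDim X = 1)
    [IsIntegral (CohB1.ProjSpace 1 k)] (r : X ⟶ CohB1.ProjSpace 1 k)
    (hr : r ≫ CohB1.ProjSpace.toSpec 1 k = X ↘ Spec (CommRingCat.of k))
    (e : r (genericPoint X) = genericPoint (CohB1.ProjSpace 1 k))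
    (hpi : letI := (Curve17.genMap r e).hom.toAlgebra
      IsPurelyInseparable (CohB1.ProjSpace 1 k).functionField X.functionField) :
    Curv2.genus k X = 0 := by
  haveI : IsProper (CohB1.ProjSpace.toSpec 1 k) := ProjSpace.isProper_toSpec 1 k
  have hdimY : topologicalKrullDim (CohB1.ProjSpace 1 k) = 1 := by rw [Groth.Agent.S10829.result k 1]; rfl
  haveI : Smooth (CohB1.ProjSpace.toSpec 1 k) := ProjSpace.smooth_toSpec 1 k
  let p := ringExpChar k
  obtain ⟨n, i, hi⟩ := Curve17.exists_iso_pullback_iterateFrobenius p (X ↘ Spec (CommRingCat.of k))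
    (CohB1.ProjSpace.toSpec 1 k) hdim hdimY
    (fun y => SmoothReg17.isIntegrallyClosed_stalk (CohB1.ProjSpace.toSpec 1 k) y) r hr e hpi
  haveI : IsNoetherian X := VB17.isNoetherian_of_over (k := k)
  let Z := pullback (X ↘ Spec (CommRingCat.of k)) (Spec.map (CommRingCat.ofHom (iterateFrobenius k p n)))
  letI : Z.Over (Spec (CommRingCat.of k)) := ⟨pullback.snd _ _⟩
  letI : (CohB1.ProjSpace 1 k).Over (Spec (CommRingCat.of k)) := ⟨CohB1.ProjSpace.toSpec 1 k⟩
  have h1 : Curv2.genus k (CohB1.ProjSpace 1 k) = Curv2.genus k Z := genus_eq_of_iso i.hom hi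
  have h2 : Curv2.genus k Z = Curv2.genus k X :=
    @finrank_HH_of_isPullback k _ X Z _ _ _ k _ (iterateFrobenius k p n).toAlgebra _ (pullback.fst _ _)
      (IsPullback.of_hasPullback _ _) 1
  rw [← h2, ← h1, genus_P1 k]

/-- A double cover of the line by a smooth proper curve of positive genus is separable. -/
theorem separable_of_degree_two [IsIntegral X] [IsProper (X ↘ Spec (CommRingCat.of k))]
    [Smooth (X ↘ Spec (CommRingCat.of k))] (hdim : topologicalKrullDim X = 1) (hg : Curv2.genus k X ≠ 0)
    [IsIntegral (CohB1.ProjSpace 1 k)] (r : X ⟶ CohB1.ProjSpace 1 k)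
    (hr : r ≫ CohB1.ProjSpace.toSpec 1 k = X ↘ Spec (CommRingCat.of k))
    (e : r (genericPoint X) = genericPoint (CohB1.ProjSpace 1 k))
    (hd : r.residueDegree (genericPoint X) = 2) :
    (letI := (Curve17.genMap r e).hom.toAlgebra;
      FiniteDimensional (CohB1.ProjSpace 1 k).functionField X.functionField ∧
        Algebra.IsSeparable (CohB1.ProjSpace 1 k).functionField X.functionField) ∧
    (letI := (r.residueFieldMap (genericPoint X)).hom.toAlgebra;
      Algebra.IsSeparable ((CohB1.ProjSpace 1 k).residueField (r (genericPoint X)))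
        (X.residueField (genericPoint X))) := by
  let Y := CohB1.ProjSpace 1 k
  let ξ := genericPoint X
  have hKY : IsField (Y.presheaf.stalk (r ξ)) := by
    rw [e]; exact Field.toIsField Y.functionField
  have bij : ∀ (Z : Scheme.{u}) (z : Z), IsField (Z.presheaf.stalk z) → Function.Bijective (Z.residue z) :=
    fun Z z h => ⟨by
      refine (injective_iff_map_eq_zero _).2 fun a ha => ?_
      by_contra hne
      have hu : IsUnit a := by
        letI := h.toField
        exact isUnit_iff_ne_zero.2 hne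
      have h0 := hu.map (Z.residue z).hom
      rw [show (Z.residue z).hom a = 0 from ha] at h0
      exact not_isUnit_zero h0, IsLocalRing.residue_surjective⟩
  let σ := Y.presheaf.stalkSpecializes (specializes_of_eq e)
  haveI : IsIso σ := ⟨Y.presheaf.stalkSpecializes (specializes_of_eq e.symm), by simp [σ], by simp [σ]⟩
  let e₁ : Y.functionField ≃+* Y.residueField (r ξ) :=
    (asIso σ).commRingCatIsoToRingEquiv.trans (RingEquiv.ofBijective (Y.residue (r ξ)).hom (bij _ _ hKY))
  let e₂ : X.functionField ≃+* X.residueField ξ :=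
    RingEquiv.ofBijective (X.residue ξ).hom (bij _ _ (Field.toIsField X.functionField))
  letI : Algebra Y.functionField X.functionField := (Curve17.genMap r e).hom.toAlgebra
  letI : Algebra (Y.residueField (r ξ)) (X.residueField ξ) := (r.residueFieldMap ξ).hom.toAlgebra
  have he : RingHom.comp (algebraMap (Y.residueField (r ξ)) (X.residueField ξ)) e₁.toRingHom =
      e₂.toRingHom.comp (algebraMap Y.functionField X.functionField) := by
    refine RingHom.ext fun a => ?_
    exact ConcreteCategory.congr_hom (Scheme.residue_residueFieldMap r ξ) (σ a)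
  have hfin : Module.finrank Y.functionField X.functionField = 2 :=
    (Algebra.finrank_eq_of_equiv_equiv e₁ e₂ he).trans hd
  haveI : FiniteDimensional Y.functionField X.functionField := Module.finite_of_finrank_eq_succ hfin
  have hsep : Algebra.IsSeparable Y.functionField X.functionField := by
    by_contra hns
    refine hg (genus_zero_of_purelyInsep hdim r hr e ?_)
    rw [← Field.finSepDegree_eq_finrank_iff, hfin] at hns
    have hdvd := Field.finSepDegree_dvd_finrank Y.functionField X.functionField
    rw [hfin] at hdvd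
    refine (isPurelyInseparable_iff_finSepDegree_eq_one _ _).2 ?_
    rcases (Nat.dvd_prime Nat.prime_two).1 hdvd with h | h
    · exact h
    · exact absurd h hns
  exact ⟨⟨inferInstance, hsep⟩, Algebra.IsSeparable.of_equiv_equiv e₁ e₂ he⟩

attribute [local instance] stalkMod

/-- If all sections of `L` vanish at a closed point they come from `I_x ⊗ L`. -/
theorem h0_le_twist_of_vanish [IsIntegral X] (hX : CurveLike k X) {L : X.Modules} (hL : PicF.IsInvertible L)
    {x : X} (hx : IsClosed ({x} : Set X)) (e : L.presheaf.stalk x ≃ₗ[X.presheaf.stalk x] (Fin 1 → X.presheaf.stalk x))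
    (hmax : ∀ s : Γ(L, (⊤ : X.Opens)),
      e (L.presheaf.germ ⊤ x trivial s) 0 ∈ IsLocalRing.maximalIdeal (X.presheaf.stalk x)) :
    Module.finrank k (Coh.HH X L 0) ≤ Module.finrank k (Coh.HH X
      (CohB1.tensorMod (ClSub.idealMod (Scheme.IdealSheafData.vanishingIdeal (⟨{x}, hx⟩ : Closeds X))) L) 0) := by
  haveI := hX.noetherian
  let Z := Scheme.IdealSheafData.vanishingIdeal (⟨{x}, hx⟩ : Closeds X)
  have hZ : topologicalKrullDim (Z.support : Set X) ≤ 0 := by
    rw [show (Z.support : Set X) = ({x} : Set X) by simp [Z]]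
    haveI : DiscreteTopology ({x} : Set X) := Subsingleton.discreteTopology
    exact topologicalKrullDim_zero_of_discreteTopology _
  obtain ⟨hrk, -, -⟩ := hX.twist_data hL Z hZ
  obtain ⟨hkill, -⟩ := quot_point_props hx
  obtain ⟨S, hsupp⟩ := exists_suppIn_quotMod Z hZ
  have h1 := (isInvertible_iff_isFinLocFreeOfRank_one L).1 hL
  -- the map `H⁰(L) → H⁰(O_Z ⊗ L)` vanishes
  let S₀ := (ShortComplex.mk (ClSub.idealModι Z) (ClSub.toSubscheme Z) (kernel.condition _)).map (tensorR L)
  have hS₀ : S₀.ShortExact := twistSES hL Z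
  have hgz : ∀ w : Coh.HH X S₀.X₂ 0, hmap k S₀.g 0 w = 0 := by
    intro w
    refine (hh0 S₀.X₃).injective ?_
    rw [map_zero, hh0_hmap]
    refine (hsupp.tensor L).section_ext _ _ fun y hy _ => ?_
    refine Eq.trans ?_ (map_zero _).symm
    by_cases hyx : y = x
    · subst hyx
      obtain ⟨t, ht⟩ : ∃ t : Γ(L, (⊤ : X.Opens)), (tensorLUnit L).inv.app ⊤ t = hh0 S₀.X₂ w :=
        ⟨(tensorLUnit L).hom.app ⊤ (hh0 S₀.X₂ w), by
          show ((tensorLUnit L).hom ≫ (tensorLUnit L).inv).app ⊤ (hh0 S₀.X₂ w) = _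
          rw [(tensorLUnit L).hom_inv_id]; rfl⟩
      let ψ := stalkLin ((tensorLUnit L).inv ≫ S₀.g) y
      have hz : ψ (L.presheaf.germ ⊤ y trivial t) = S₀.X₃.presheaf.germ ⊤ y trivial (S₀.g.app ⊤ (hh0 S₀.X₂ w)) := by
        show (stalkAb y).map _ (L.presheaf.germ ⊤ y trivial t) = _
        rw [germ_naturality, ← ht]
        rfl
      refine hz.symm.trans ?_
      have ht' : (L.presheaf.germ ⊤ y trivial t : L.presheaf.stalk y) =
          e (L.presheaf.germ ⊤ y trivial t) 0 • e.symm 1 := by
        apply e.injective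
        funext i
        rw [Fin.fin_one_eq_zero i, map_smul, LinearEquiv.apply_symm_apply, Pi.smul_apply, Pi.one_apply, smul_eq_mul, mul_one]
      rw [ht', map_smul]
      refine (stalkEquiv (ClSub.quotMod Z) L y).injective ?_
      refine ((stalkEquiv (ClSub.quotMod Z) L y).map_smul _ _).trans (Eq.trans ?_ (map_zero _).symm)
      induction stalkEquiv (ClSub.quotMod Z) L y (ψ (e.symm 1)) using TensorProduct.induction_on with
      | zero => exact smul_zero _
      | tmul p q => rw [TensorProduct.smul_tmul', hkill _ (hmax t), TensorProduct.zero_tmul]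
      | add p q hp hq => rw [smul_add, hp, hq, add_zero]
    · have : SuppIn (ClSub.quotMod Z) ({x} : Finset X) := ⟨fun z hz => by rw [Finset.mem_singleton.1 hz]; exact hx,
        fun z hz a => eq_zero_stalk_push Z.subschemeι _ (fun hr => hz (by
          rw [Scheme.IdealSheafData.range_subschemeι] at hr
          rw [Finset.mem_singleton]
          simpa [Z] using hr)) a⟩
      exact (this.tensor L).zero y (by simpa using hyx) _
  have hcohL := isCoh_of_ofRank h1
  haveI := hX.fin L hcohL 0
  haveI := hX.fin _ hrk.coh 0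
  haveI := hX.fin _ hrk.coh 1
  have hle : Module.finrank k (Coh.HH X L 0) ≤ Module.finrank k (Coh.HH X (CohB1.tensorMod (ClSub.idealMod Z) L) 0) := by
    rw [← (hequiv k (tensorLUnit L) 0).finrank_eq]
    exact LinearMap.finrank_le_finrank_of_surjective (f := hmap k S₀.f 0)
      fun w => (exact_hmap_hmap k hS₀ 0 w).1 (hgz w)
  exact hle

/-- An invertible module of positive degree has a closed point where a given nonzero section vanishes. -/
theorem exists_vanish_of_deg_pos [IsIntegral X] (hX : CurveLike k X) {L : X.Modules} (hL : PicF.IsInvertible L)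
    (hd : 0 < Curv2.deg k X L 1) {s : Γ(L, (⊤ : X.Opens))} (hs : s ≠ 0) :
    ∃ x₀ : X, (L.presheaf.germ ⊤ x₀ trivial s : L.presheaf.stalk x₀) ∈
      IsLocalRing.maximalIdeal (X.presheaf.stalk x₀) • (⊤ : Submodule (X.presheaf.stalk x₀) (L.presheaf.stalk x₀)) := by
  haveI := hX.noetherian
  by_contra hno
  push Not at hno
  have h1 := (isInvertible_iff_isFinLocFreeOfRank_one L).1 hL
  haveI := ((rkOne_of_invertible hX.dim hL).sec s hs).1
  haveI : Epi (secHom s) := (epi_iff_stalk _).2 fun x a => by
    obtain ⟨e⟩ := nonempty_stalk_equiv h1 x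
    have hu : IsUnit (e (L.presheaf.germ ⊤ x trivial s) 0) := by
      by_contra hn
      refine hno x ?_
      have hdec : (L.presheaf.germ ⊤ x trivial s : L.presheaf.stalk x) =
          e (L.presheaf.germ ⊤ x trivial s) 0 • e.symm 1 := by
        apply e.injective
        funext i
        rw [Fin.fin_one_eq_zero i, map_smul, LinearEquiv.apply_symm_apply, Pi.smul_apply, Pi.one_apply, smul_eq_mul,
          mul_one]
      rw [hdec]
      exact Submodule.smul_mem_smul ((IsLocalRing.mem_maximalIdeal _).2 hn) trivial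
    obtain ⟨u, hu'⟩ := hu
    refine ⟨(e a 0 * ↑u⁻¹) • ((Coh.structureModule X).presheaf.germ ⊤ x trivial (one ⊤) :
      (Coh.structureModule X).presheaf.stalk x), ?_⟩
    show stalkLin (secHom s) x _ = a
    rw [map_smul, show stalkLin (secHom s) x ((Coh.structureModule X).presheaf.germ ⊤ x trivial (one ⊤)) =
      (L.presheaf.germ ⊤ x trivial s : L.presheaf.stalk x) from
        (M1.germ_naturality (secHom s) ⊤ x trivial _).trans (congrArg _ (secHom_app_one s))]
    apply e.injective
    funext i
    rw [Fin.fin_one_eq_zero i, map_smul, Pi.smul_apply, smul_eq_mul, ← hu', mul_assoc, Units.inv_mul, mul_one]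
  haveI : IsIso (secHom s) := isIso_of_mono_of_epi _
  rw [← deg_iso (asIso (secHom s)), deg_structureModule] at hd
  omega

/-- A degree two module with two sections on a curve of positive genus gives a double cover of the line. -/
theorem exists_double_cover [IsIntegral X] [IsProper (X ↘ Spec (CommRingCat.of k))]
    [IsIntegral (CohB1.ProjSpace 1 k)] (hdim : topologicalKrullDim X = 1)
    (h0 : Module.finrank k (Coh.HH X (Coh.structureModule X) 0) = 1) (hg : Curv2.genus k X ≠ 0) {L : X.Modules}
    (hL : PicF.IsInvertible L) (hdeg : Curv2.deg k X L 1 = 2) (h2 : Module.finrank k (Coh.HH X L 0) = 2)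
    (hpid : ∀ x : X, IsPrincipalIdealRing (X.presheaf.stalk x)) :
    ∃ r : X ⟶ CohB1.ProjSpace 1 k, r ≫ CohB1.ProjSpace.toSpec 1 k = X ↘ Spec (CommRingCat.of k) ∧
      IsFinite r ∧ Flat r ∧ r (genericPoint X) = genericPoint (CohB1.ProjSpace 1 k) ∧
      r.residueDegree (genericPoint X) = 2 := by
  have hX : CurveLike k X := VB17.curveLike hdim
  haveI := hX.noetherian
  have h1 := (isInvertible_iff_isFinLocFreeOfRank_one L).1 hL
  haveI := hX.fin L (isCoh_of_ofRank h1) 0
  let b := Module.finBasisOfFinrankEq k (Coh.HH X L 0) h2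
  have hs : hh0 L (b 0) ≠ 0 := hh0_ne_zero (b.ne_zero 0)
  obtain ⟨x₀, hx₀⟩ := exists_vanish_of_deg_pos hX hL (by omega) hs
  have hspan : ∀ x : X, Submodule.span (X.presheaf.stalk x)
      ({(L.presheaf.germ ⊤ x trivial (hh0 L (b 0)) : L.presheaf.stalk x), L.presheaf.germ ⊤ x trivial (hh0 L (b 1))} :
        Set (L.presheaf.stalk x)) = ⊤ := by
    intro x
    obtain ⟨e⟩ := nonempty_stalk_equiv h1 x
    have hgen : ∀ v : Γ(L, (⊤ : X.Opens)), IsUnit (e (L.presheaf.germ ⊤ x trivial v) 0) → ∀ a : L.presheaf.stalk x,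
        a ∈ Submodule.span (X.presheaf.stalk x) {(L.presheaf.germ ⊤ x trivial v : L.presheaf.stalk x)} := by
      intro v hu a
      obtain ⟨u, hu'⟩ := hu
      refine Submodule.mem_span_singleton.2 ⟨e a 0 * ↑u⁻¹, e.injective (funext fun i => ?_)⟩
      rw [Fin.fin_one_eq_zero i, map_smul, Pi.smul_apply, smul_eq_mul, ← hu', mul_assoc, Units.inv_mul, mul_one]
    by_cases hu0 : IsUnit (e (L.presheaf.germ ⊤ x trivial (hh0 L (b 0))) 0)
    · exact top_le_iff.1 fun a _ => Submodule.span_mono (by simp) (hgen _ hu0 a)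
    by_cases hu1 : IsUnit (e (L.presheaf.germ ⊤ x trivial (hh0 L (b 1))) 0)
    · exact top_le_iff.1 fun a _ => Submodule.span_mono (by simp) (hgen _ hu1 a)
    exfalso
    have hx : IsClosed ({x} : Set X) := AmpleFin18.isClosed_of_ne_genericPoint hdim.le fun h => by
      subst h
      refine hs (eq_zero_of_germ_eq_zero h1 _ (e.injective (funext fun i => ?_)))
      rw [Fin.fin_one_eq_zero i]
      refine Eq.trans ?_ (congrFun (map_zero e) 0).symm
      show _ = (0 : X.presheaf.stalk _)
      by_contra hne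
      letI : Field (X.presheaf.stalk (genericPoint X)) := inferInstanceAs (Field X.functionField)
      exact hu0 (isUnit_iff_ne_zero.2 hne)
    have hmax : ∀ v : Γ(L, (⊤ : X.Opens)),
        e (L.presheaf.germ ⊤ x trivial v) 0 ∈ IsLocalRing.maximalIdeal (X.presheaf.stalk x) := fun v => by
      have hlin := congrArg (h0germ k L x) (b.sum_repr ((hh0 L).symm v)).symm
      rw [Fin.sum_univ_two, map_add, map_smul, map_smul] at hlin
      change (L.presheaf.germ ⊤ x trivial (hh0 L ((hh0 L).symm v)) : L.presheaf.stalk x) = _ at hlin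
      rw [AddEquiv.apply_symm_apply] at hlin
      rw [hlin, map_add, Pi.add_apply]
      refine Ideal.add_mem _ ?_ ?_
      · show e (stalkRingMap k x _ • _) 0 ∈ _
        rw [map_smul, Pi.smul_apply, smul_eq_mul]
        exact Ideal.mul_mem_left _ _ ((IsLocalRing.mem_maximalIdeal _).2 hu0)
      · show e (stalkRingMap k x _ • _) 0 ∈ _
        rw [map_smul, Pi.smul_apply, smul_eq_mul]
        exact Ideal.mul_mem_left _ _ ((IsLocalRing.mem_maximalIdeal _).2 hu1)
    set Z := Scheme.IdealSheafData.vanishingIdeal (⟨{x}, hx⟩ : Closeds X)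
    have hZ : topologicalKrullDim (Z.support : Set X) ≤ 0 := by
      rw [show (Z.support : Set X) = ({x} : Set X) by simp [Z]]
      haveI : DiscreteTopology ({x} : Set X) := Subsingleton.discreteTopology
      exact topologicalKrullDim_zero_of_discreteTopology _
    obtain ⟨hrk, -, hdI⟩ := hX.twist_data hL Z hZ
    have hIL : PicF.IsInvertible (CohB1.tensorMod (ClSub.idealMod Z) L) :=
      isInvertible_tensor (isInvertible_pointIdeal_of_pid hdim hx (hpid x)) hL
    have hle := h0_le_twist_of_vanish (k := k) hX hL hx e hmax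
    rw [h2] at hle
    replace hle : 2 ≤ Module.finrank k (Coh.HH X (CohB1.tensorMod (ClSub.idealMod Z) L) 0) := hle
    haveI : Nontrivial (Coh.HH X (CohB1.tensorMod (ClSub.idealMod Z) L) 0) :=
      Module.nontrivial_of_finrank_pos (R := k) (by omega)
    obtain ⟨z, hz⟩ := exists_ne (0 : Coh.HH X (CohB1.tensorMod (ClSub.idealMod Z) L) 0)
    obtain ⟨t, -, hte, hth, -, -, -⟩ := hX.section_numerics hrk (hh0_ne_zero hz)
    rw [h0] at hth
    have hdt : Curv2.deg k X (CohB1.tensorMod (ClSub.idealMod Z) L) 1 = t := by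
      rw [Curv2.deg, hte]; push_cast; ring
    haveI := hX.fin _ (isCoh_quotMod Z) 0
    obtain ⟨c, a₀, ha₀⟩ : ∃ (_ : Unit) (a : (ClSub.quotMod Z).presheaf.stalk x), a ≠ 0 :=
      ⟨(), (quot_point_props hx).2⟩
    have hpos : 0 < Module.finrank k (Coh.HH X (ClSub.quotMod Z) 0) := by
      refine Nat.pos_of_ne_zero fun h0' => ha₀ ?_
      haveI : Subsingleton (Coh.HH X (ClSub.quotMod Z) 0) := Module.finrank_zero_iff.1 h0'
      obtain ⟨w, hw⟩ := ((suppIn_quotMod_point hx).h0Equiv k).surjective (fun y =>
        (show ((y : X) = x) from Finset.mem_singleton.1 y.2).symm ▸ a₀)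
      have := congrFun hw ⟨x, Finset.mem_singleton_self x⟩
      rw [Subsingleton.elim w 0, map_zero] at this
      exact this.symm
    rw [hdeg, hdt] at hdI
    have ht1 : t = 1 := by omega
    subst ht1
    obtain ⟨i, hi⟩ := exists_iso_P1 (k := k) hdim hIL (by rw [hdt]; rfl) (by omega)
    letI : (CohB1.ProjSpace 1 k).Over (Spec (CommRingCat.of k)) := ⟨CohB1.ProjSpace.toSpec 1 k⟩
    exact hg ((genus_eq_of_iso i.hom hi).trans (genus_P1 k))
  obtain ⟨r, hr, hfin, hflat, hξ, -, h⟩ := exists_map_P1 (k := k) hdim hL _ _ x₀ hspan hs hx₀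
  rw [hdeg, deg_twistP1, mul_one] at h
  exact ⟨r, hr, hfin, hflat, hξ, by exact_mod_cast h⟩

end Groth.Agent.CurveCoh17
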