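import Groth.Agent.Lib.CurveCoh17.Section
import Groth.Agent.Lib.CurveCoh17.Equality
import Groth.Agent.Lib.CurveCoh17.VeryAmple
import Groth.Agent.Lib.CurveCoh17.EtaleEuler
import Groth.Agent.Lib.AmpleFin18.PushEuler
import Groth.Agent.Lib.Curve17.ProjSep
import Groth.Agent.Lib.RegExt.P1
import Groth.Agent.Lib.VB17.Proper
import Groth.Agent.S3572
import Groth.Agent.S7640
import Groth.Agent.S10829
import Groth.Agent.S0220
import Groth.Agent.S11574

/-!
# A curve with a pencil of degree one is the projective line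
-/

set_option linter.style.haveILetI false
set_option autoImplicit false

universe u

open CategoryTheory TopologicalSpace Opposite CategoryTheory.Limits AlgebraicGeometry

namespace Groth.Agent.CurveCoh17

open Groth.Agent.M1 Groth.Agent.M2

variable {k : Type u} [Field k] {X : Scheme.{u}} [X.Over (Spec (CommRingCat.of k))]

attribute [local instance] stalkMod

/-- A pencil of degree one: two generating sections, one of which vanishes somewhere. -/
theorem CurveLike.exists_pencil_of_deg_one [IsIntegral X] (hX : CurveLike k X) {L : X.Modules}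
    (hL : PicF.IsInvertible L) (hdeg : Curv2.deg k X L 1 = 1)
    (h2 : 2 ≤ Module.finrank k (Coh.HH X L 0)) :
    ∃ s t : Γ(L, (⊤ : X.Opens)), ∃ x₀ : X,
      (∀ x : X, Submodule.span (X.presheaf.stalk x)
        ({(L.presheaf.germ ⊤ x trivial s : L.presheaf.stalk x), L.presheaf.germ ⊤ x trivial t} :
          Set (L.presheaf.stalk x)) = ⊤) ∧
      s ≠ 0 ∧
      (L.presheaf.germ ⊤ x₀ trivial s : L.presheaf.stalk x₀) ∈
        IsLocalRing.maximalIdeal (X.presheaf.stalk x₀) • (⊤ : Submodule (X.presheaf.stalk x₀) (L.presheaf.stalk x₀)) := by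
  classical
  haveI := hX.noetherian
  have h1 := (isInvertible_iff_isFinLocFreeOfRank_one L).1 hL
  haveI : Nontrivial (Coh.HH X L 0) := Module.nontrivial_of_finrank_pos (R := k) (by omega)
  obtain ⟨z₀, hz₀⟩ := exists_ne (0 : Coh.HH X L 0)
  set s := hh0 L z₀ with hs_def
  have hs : s ≠ 0 := hh0_ne_zero hz₀
  have hrk := rkOne_of_invertible hX.dim hL
  obtain ⟨t, ht, hte, -, -, -, -⟩ := hX.section_numerics hrk hs
  have ht1 : t = 1 := by
    rw [Curv2.deg, hte] at hdeg
    push_cast at hdeg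
    omega
  obtain ⟨hm, S, hS⟩ := hrk.sec s hs
  haveI := hm
  have hT := secSC_shortExact s
  set Q := cokernel (secHom s)
  set π := cokernel.π (secHom s)
  rw [ht1] at ht
  obtain ⟨z, hz0, hz⟩ := finrank_eq_one_iff'.1 ht.symm
  obtain ⟨x₀, hx₀⟩ : ∃ i : S, hS.h0Equiv k z i ≠ 0 := by
    by_contra hno
    push Not at hno
    exact hz0 ((hS.h0Equiv k).injective ((funext hno).trans (map_zero _).symm))
  have hfam : ∀ a : ∀ x : S, Q.presheaf.stalk (x : X), ∃ c : k, ∀ i, c • hS.h0Equiv k z i = a i := fun a => by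
    obtain ⟨c, hc⟩ := hz ((hS.h0Equiv k).symm a)
    refine ⟨c, fun i => ?_⟩
    have := congrArg (hS.h0Equiv k) hc
    rw [map_smul, LinearEquiv.apply_symm_apply] at this
    exact congrFun this i
  have hzero : ∀ x : X, x ≠ (x₀ : X) → ∀ b : Q.presheaf.stalk x, b = 0 := fun x hne b => by
    by_cases hxS : x ∈ S
    · obtain ⟨c, hc⟩ := hfam (Pi.single ⟨x, hxS⟩ b)
      have h0 : c • hS.h0Equiv k z x₀ = 0 := by
        rw [hc x₀, Pi.single_eq_of_ne (fun h => hne (congrArg Subtype.val h).symm)]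
      rcases eq_or_ne c 0 with rfl | hc0
      · have := hc ⟨x, hxS⟩
        rw [Pi.single_eq_same, zero_smul] at this
        exact this.symm
      · exact absurd ((isUnit_iff_ne_zero.2 hc0).smul_eq_zero.1 h0) hx₀
    · exact hS.zero x hxS b
  set g := hS.h0Equiv k z x₀
  have hspan : ∀ b : Q.presheaf.stalk (x₀ : X), ∃ c : k, stalkRingMap k (x₀ : X) c • g = b := fun b => by
    obtain ⟨c, hc⟩ := hfam (Pi.single x₀ b)
    exact ⟨c, (hc x₀).trans (Pi.single_eq_same _ _)⟩
  have hunit : ∀ c : k, c ≠ 0 → IsUnit (stalkRingMap k (x₀ : X) c) := fun c hc =>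
    (isUnit_iff_ne_zero.2 hc).map _
  have hkill : ∀ r ∈ IsLocalRing.maximalIdeal (X.presheaf.stalk (x₀ : X)), r • g = 0 := fun r hr => by
    obtain ⟨c, hc⟩ := hspan (r • g)
    rcases eq_or_ne c 0 with rfl | hc0
    · rw [← hc, map_zero, zero_smul]
    · exfalso
      have hu : IsUnit (stalkRingMap k (x₀ : X) c - r) := by
        by_contra hn
        refine (IsLocalRing.mem_maximalIdeal _).1 ?_ (hunit c hc0)
        simpa using Ideal.add_mem _ ((IsLocalRing.mem_maximalIdeal _).2 hn) hr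
      exact hx₀ (hu.smul_eq_zero.1 (by rw [sub_smul, hc, sub_self]))
  have hres : ∀ r : X.presheaf.stalk (x₀ : X), ∃ c : k,
      r - stalkRingMap k (x₀ : X) c ∈ IsLocalRing.maximalIdeal (X.presheaf.stalk (x₀ : X)) := fun r => by
    obtain ⟨c, hc⟩ := hspan (r • g)
    refine ⟨c, (IsLocalRing.mem_maximalIdeal _).2 fun hu => hx₀ (hu.smul_eq_zero.1 ?_)⟩
    rw [sub_smul, hc, sub_self]
  -- `h⁰(O) = 1`
  have hO := PicLoc.isInvertible_structureModule X
  have h1O := (isInvertible_iff_isFinLocFreeOfRank_one _).1 hO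
  set o : Coh.HH X (Coh.structureModule X) 0 := (hh0 _).symm (one (⊤ : X.Opens))
  have hconst : ∀ a : Coh.HH X (Coh.structureModule X) 0, ∃ c : k, c • o = a := fun a => by
    obtain ⟨c, hc⟩ := hres (X.presheaf.germ ⊤ (x₀ : X) trivial (hh0 (Coh.structureModule X) a : Γ(X, ⊤)))
    refine ⟨c, ?_⟩
    by_contra hne
    set w := hh0 (Coh.structureModule X) (a - c • o) with hw
    have hw0 : w ≠ 0 := hh0_ne_zero (sub_ne_zero.2 fun h => hne h.symm)
    obtain ⟨t', -, hte', -, -, -, hiso⟩ := hX.section_numerics (rkOne_of_invertible hX.dim hO) hw0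
    haveI := hiso (by omega)
    obtain ⟨q, hq⟩ := surjective_stalkLin_of_isIso (secHom w) (x₀ : X)
      ((Coh.structureModule X).presheaf.germ ⊤ (x₀ : X) trivial (one ⊤))
    obtain ⟨b, -, hb⟩ := stalkLin_secHom w (x₀ : X) q
    rw [hb] at hq
    have hgw : X.presheaf.germ ⊤ (x₀ : X) trivial (w : Γ(X, ⊤)) ∈
        IsLocalRing.maximalIdeal (X.presheaf.stalk (x₀ : X)) := by
      rw [hw, map_sub, show c • o = (Coh.toGlobal (X ↘ Spec (CommRingCat.of k)) c) • o from rfl, hh0_smul,
        AddEquiv.apply_symm_apply]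
      show X.presheaf.germ ⊤ (x₀ : X) trivial
        ((show Γ(X, ⊤) from hh0 (Coh.structureModule X) a) - (show Γ(X, ⊤) from Coh.toGlobal (X ↘ Spec (CommRingCat.of k)) c) * (1 : Γ(X, ⊤))) ∈ _
      rw [mul_one, map_sub]
      exact hc
    obtain ⟨e₁⟩ := nonempty_stalk_equiv_structureModule (x₀ : X)
    set g₁ := ((Coh.structureModule X).presheaf.germ ⊤ (x₀ : X) trivial (one ⊤) :
      (Coh.structureModule X).presheaf.stalk (x₀ : X)) with hg₁
    have hwm : ((Coh.structureModule X).presheaf.germ ⊤ (x₀ : X) trivial w : (Coh.structureModule X).presheaf.stalk (x₀ : X)) =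
        (X.presheaf.germ ⊤ (x₀ : X) trivial (w : Γ(X, ⊤))) • g₁ := by
      rw [hg₁, ← M1.germ_smul]
      exact congrArg _ (mul_one (show Γ(X, ⊤) from w)).symm
    rw [hwm, ← mul_smul] at hq
    have hu : IsUnit (1 - b * X.presheaf.germ ⊤ (x₀ : X) trivial (w : Γ(X, ⊤))) := by
      by_contra hn
      refine (IsLocalRing.mem_maximalIdeal (1 : X.presheaf.stalk (x₀ : X))).1 ?_ isUnit_one
      simpa using Ideal.add_mem _ ((IsLocalRing.mem_maximalIdeal _).2 hn) (Ideal.mul_mem_left _ b hgw)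
    have hg0 : g₁ = 0 := hu.smul_eq_zero.1 (by rw [sub_smul, one_smul, hq, sub_self])
    have hall : ∀ q' : (Coh.structureModule X).presheaf.stalk (x₀ : X), q' = 0 := fun q' => by
      obtain ⟨b', hb', -⟩ := stalkLin_secHom w (x₀ : X) q'
      rw [hb']
      exact (congrArg (b' • ·) hg0).trans (smul_zero b')
    have hone := congrFun ((congrArg e₁ (hall (e₁.symm 1))).trans (map_zero _)) 0
    rw [LinearEquiv.apply_symm_apply] at hone
    exact one_ne_zero (α := X.presheaf.stalk (x₀ : X)) hone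
  -- a second section
  haveI := hX.fin L (isCoh_of_ofRank h1) 0
  obtain ⟨w, hw⟩ : ∃ w : Coh.HH X L 0, ∀ c : k, c • z₀ ≠ w := by
    by_contra hno
    push Not at hno
    have := finrank_le_one z₀ hno
    omega
  set t₁ := hh0 L w with ht₁
  have hπw : hmap k π 0 w ≠ 0 := fun h => by
    obtain ⟨a, ha⟩ := (exact_hmap_hmap k hT 0 w).1 h
    obtain ⟨c, rfl⟩ := hconst a
    refine hw c ?_
    rw [← ha, map_smul]
    congr 1
    refine (hh0 L).injective ?_
    rw [hh0_hmap, AddEquiv.apply_symm_apply]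
    exact (secHom_app_one s).symm
  have hπg : stalkLin π (x₀ : X) (L.presheaf.germ ⊤ (x₀ : X) trivial t₁) ≠ 0 := fun h => hπw ((hh0 Q).injective (by
    rw [map_zero, hh0_hmap]
    refine hS.section_ext _ _ fun y _ hy => ?_
    rw [map_zero]
    by_cases hne : y = (x₀ : X)
    · subst hne
      exact (M1.germ_naturality π _ _ hy _).symm.trans h
    · exact hzero y hne _))
  obtain ⟨e⟩ := nonempty_stalk_equiv h1 (x₀ : X)
  have hgen : ∀ v : Γ(L, (⊤ : X.Opens)), ∀ a : L.presheaf.stalk (x₀ : X),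
      IsUnit (e (L.presheaf.germ ⊤ (x₀ : X) trivial v) 0) →
      ∃ c : X.presheaf.stalk (x₀ : X), c • (L.presheaf.germ ⊤ (x₀ : X) trivial v : L.presheaf.stalk (x₀ : X)) = a := by
    intro v a hu
    obtain ⟨u, hu'⟩ := hu
    refine ⟨e a 0 * ↑u⁻¹, e.injective (funext fun i => ?_)⟩
    rw [Fin.fin_one_eq_zero i, map_smul, Pi.smul_apply, smul_eq_mul, ← hu', mul_assoc, Units.inv_mul, mul_one]
  have hdec : ∀ a : L.presheaf.stalk (x₀ : X), a = e a 0 • e.symm 1 := fun a => by
    apply e.injective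
    funext i
    rw [Fin.fin_one_eq_zero i, map_smul, LinearEquiv.apply_symm_apply, Pi.smul_apply, Pi.one_apply, smul_eq_mul,
      mul_one]
  have hπ0 : ∀ a : L.presheaf.stalk (x₀ : X), e a 0 ∈ IsLocalRing.maximalIdeal (X.presheaf.stalk (x₀ : X)) →
      stalkLin π (x₀ : X) a = 0 := fun a ha => by
    rw [hdec a, map_smul]
    obtain ⟨c, hc⟩ := hspan (stalkLin π (x₀ : X) (e.symm 1))
    rw [← hc, smul_smul, mul_comm, ← smul_smul, hkill _ ha, smul_zero]
  have hunit₁ : IsUnit (e (L.presheaf.germ ⊤ (x₀ : X) trivial t₁) 0) := by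
    by_contra hn
    exact hπg (hπ0 _ ((IsLocalRing.mem_maximalIdeal _).2 hn))
  have hsm : e (L.presheaf.germ ⊤ (x₀ : X) trivial s) 0 ∈ IsLocalRing.maximalIdeal (X.presheaf.stalk (x₀ : X)) := by
    by_contra hn
    rw [IsLocalRing.mem_maximalIdeal, mem_nonunits_iff, not_not] at hn
    refine hπg ?_
    obtain ⟨c, hc⟩ := hgen s (L.presheaf.germ ⊤ (x₀ : X) trivial t₁) hn
    rw [← hc, map_smul]
    refine (congrArg (c • ·) ?_).trans (smul_zero c)
    refine (M1.germ_naturality π ⊤ (x₀ : X) trivial s).trans ?_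
    have h00 : π.app ⊤ s = 0 := by
      have h := congrArg (fun f => Scheme.Modules.Hom.app f (⊤ : X.Opens) (one ⊤)) (cokernel.condition (secHom s))
      simp only [Scheme.Modules.Hom.comp_app, CategoryTheory.comp_apply, secHom_app_one] at h
      exact h
    rw [h00, map_zero]
  refine ⟨s, t₁, x₀, fun x => ?_, hs, ?_⟩
  · by_cases hne : x = (x₀ : X)
    · subst hne
      refine top_le_iff.1 fun a _ => ?_
      obtain ⟨c, rfl⟩ := hgen t₁ a hunit₁
      exact Submodule.smul_mem _ c (Submodule.subset_span (Set.mem_insert_of_mem _ rfl))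
    · refine top_le_iff.1 fun a _ => ?_
      obtain ⟨b, hb⟩ := (exact_iff_stalk_eq_zero (secSC s)).1 hT.exact x a (hzero x hne _)
      obtain ⟨c, -, hc⟩ := stalkLin_secHom s x b
      rw [← hb]
      exact hc ▸ Submodule.smul_mem _ c (Submodule.subset_span (Set.mem_insert _ _))
  · rw [hdec (L.presheaf.germ ⊤ (x₀ : X) trivial s)]
    exact Submodule.smul_mem_smul hsm trivial

/-- An integral proper curve with an invertible module of degree one and two sections is `P¹`. -/
theorem exists_iso_P1 [IsIntegral X] [IsProper (X ↘ Spec (CommRingCat.of k))]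
    (hdim : topologicalKrullDim X = 1) {L : X.Modules} (hL : PicF.IsInvertible L)
    (hdeg : Curv2.deg k X L 1 = 1) (h2 : 2 ≤ Module.finrank k (Coh.HH X L 0)) :
    ∃ e : X ≅ CohB1.ProjSpace 1 k, e.hom ≫ CohB1.ProjSpace.toSpec 1 k = X ↘ Spec (CommRingCat.of k) := by
  have hX : CurveLike k X := VB17.curveLike hdim
  haveI := hX.noetherian
  have h1 := (isInvertible_iff_isFinLocFreeOfRank_one L).1 hL
  obtain ⟨s, t, x₀, hspan, hs, hsm⟩ := hX.exists_pencil_of_deg_one hL hdeg h2
  obtain ⟨r, hr, τ, hτ⟩ := Groth.Agent.S3572.result 1 (X ↘ Spec (CommRingCat.of k)) L hL ![s, t] fun x => by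
    refine top_le_iff.1 ((hspan x).ge.trans (Submodule.span_mono ?_))
    rintro a (rfl | rfl)
    · exact ⟨0, rfl⟩
    · exact ⟨1, rfl⟩
  let pY := CohB1.ProjSpace.toSpec 1 k
  letI : (CohB1.ProjSpace 1 k).Over (Spec (CommRingCat.of k)) := ⟨pY⟩
  haveI := RegExt.isIntegral_projSpace 1 k
  haveI : IsProper pY := ProjSpace.isProper_toSpec 1 k
  haveI : IsProper ((CohB1.ProjSpace 1 k) ↘ Spec (CommRingCat.of k)) := ProjSpace.isProper_toSpec 1 k
  haveI : SmoothOfRelativeDimension 1 pY := ProjSpace.smoothOfRelativeDimension_toSpec 1 k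
  haveI : Smooth pY := inferInstance
  have hdimY : topologicalKrullDim (CohB1.ProjSpace 1 k) = 1 := by rw [Groth.Agent.S10829.result k 1]; rfl
  -- the map is not constant
  let c : Fin (1 + 1) → k := ![1, 0]
  have hv : τ.hom.app ⊤ (Curve17.vSec (X ↘ Spec (CommRingCat.of k)) r c) = s := by
    refine (map_sum (τ.hom.app ⊤).hom _ _).trans ?_
    rw [Fin.sum_univ_two]
    refine Eq.trans (congrArg₂ (· + ·) ((Scheme.Modules.Hom.app_smul τ.hom _ _).trans (congrArg _ (hτ 0)))
      ((Scheme.Modules.Hom.app_smul τ.hom _ _).trans (congrArg _ (hτ 1)))) ?_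
    show ProjUP.toGlobal _ (1 : k) • (s : Γ(L, (⊤ : X.Opens))) + ProjUP.toGlobal _ (0 : k) • (t : Γ(L, (⊤ : X.Opens))) = s
    rw [map_one, map_zero, one_smul, zero_smul, add_zero]
  have hmem : ∀ P : X, Curve17.linForm c ∈ (r P).asHomogeneousIdeal.toIdeal ↔
      (L.presheaf.germ ⊤ P trivial s : L.presheaf.stalk P) ∈
        IsLocalRing.maximalIdeal (X.presheaf.stalk P) • (⊤ : Submodule (X.presheaf.stalk P) (L.presheaf.stalk P)) := fun P => by
    refine (Curve17.germ_vSec_mem_iff (X ↘ Spec (CommRingCat.of k)) r P hr c).symm.trans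
      ((mem_smul_top_congr τ P _).symm.trans (Iff.of_eq ?_))
    congr 1
    exact ((M1.germ_naturality τ.hom ⊤ P trivial _).trans (congrArg _ hv))
  have hgenr : Curve17.linForm c ∉ (r (genericPoint X)).asHomogeneousIdeal.toIdeal := by
    rw [hmem]
    intro h
    have hbot : IsLocalRing.maximalIdeal (X.presheaf.stalk (genericPoint X)) = ⊥ :=
      IsLocalRing.isField_iff_maximalIdeal_eq.1 (Field.toIsField X.functionField)
    rw [hbot, Submodule.bot_smul, Submodule.mem_bot] at h
    exact hs (eq_zero_of_germ_eq_zero h1 s h)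
  have hnc : (Set.range r.base).Nontrivial :=
    ⟨r x₀, ⟨x₀, rfl⟩, r (genericPoint X), ⟨_, rfl⟩, fun h => hgenr (h ▸ (hmem x₀).2 hsm)⟩
  have hξ : r (genericPoint X) = genericPoint (CohB1.ProjSpace 1 k) := Curve17.map_genericPoint hdimY.le r hnc
  haveI : IsProper (r ≫ pY) := by rw [hr]; infer_instance
  haveI : IsProper r := IsProper.of_comp r pY
  haveI : IsFinite r := AmpleFin18.isFinite_of_nonconstant hdim.le hdimY r hξ
  -- degree one
  have hd : r.residueDegree (genericPoint X) = 1 := by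
    have h := Groth.Agent.S7640.result k X (CohB1.ProjSpace 1 k) hdim hdimY r hr hξ 1
      (Twist.twistProjSpace 1 k 1) ((isInvertible_iff_isFinLocFreeOfRank_one _).1
        (Twist.isInvertible_twistProjSpace 1 k 1))
    rw [deg_iso τ, hdeg] at h
    have h' : (r.residueDegree (genericPoint X) : ℤ) = 1 :=
      Int.eq_one_of_mul_eq_one_right (Int.natCast_nonneg _) h.symm
    exact_mod_cast h'
  haveI : Flat r := Groth.Agent.S0220.result k X (CohB1.ProjSpace 1 k) (X ↘ Spec (CommRingCat.of k)) pY hdim hdimY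
    (fun y => ⟨SmoothReg17.isDomain_stalk pY y, SmoothReg17.isIntegrallyClosed_stalk pY y⟩) r hr hnc
  haveI : LocallyOfFinitePresentation r := by
    haveI : IsLocallyNoetherian (CohB1.ProjSpace 1 k) := LocallyOfFiniteType.isLocallyNoetherian pY
    exact LocallyOfFinitePresentation.iff_locallyOfFiniteType.2 inferInstance
  obtain ⟨n, hn⟩ := VB17.exists_rank_of_isFinLocFree (isFinLocFree_pushO r)
  obtain rfl : n = 1 := (VB17.finrank_stalk hn (r (genericPoint X))).symm.trans
    ((AmpleFin18.finrank_pushO_genericPoint hdim.le hdimY r hξ rfl).trans hd)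
  haveI := isIso_of_rank_one r hn
  exact ⟨asIso r, hr⟩

end Groth.Agent.CurveCoh17
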