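import Groth.Agent.Lib.CurveCoh17.Equality
import Groth.Agent.Lib.RelAmple18.Generated
import Groth.Agent.Lib.TensorMod.Dual

/-!
# The base-point-free pencil trick, in the weak form of an existence statement
-/

set_option linter.style.haveILetI false
set_option autoImplicit false
set_option maxHeartbeats 800000

universe u

open CategoryTheory TopologicalSpace Opposite CategoryTheory.Limits AlgebraicGeometry TensorProduct

namespace Groth.Agent.CurveCoh17

open Groth.Agent.M1 Groth.Agent.M2

variable {k : Type u} [Field k] {X : Scheme.{u}} [X.Over (Spec (CommRingCat.of k))]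

attribute [local instance] stalkMod

/-- A globally generated invertible module with two-dimensional sections is generated by two of them. -/
theorem exists_pencil {D : X.Modules} (hD : PicF.IsInvertible D) (hg : Curv2.IsGloballyGenerated D)
    (h2 : Module.finrank k (Coh.HH X D 0) = 2) :
    ∃ s₁ s₂ : Γ(D, (⊤ : X.Opens)), ∀ (x : X) (e : D.presheaf.stalk x ≃ₗ[X.presheaf.stalk x] (Fin 1 → X.presheaf.stalk x)),
      IsUnit (e (D.presheaf.germ ⊤ x trivial s₁) 0) ∨ IsUnit (e (D.presheaf.germ ⊤ x trivial s₂) 0) := by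
  haveI : Module.Finite k (Coh.HH X D 0) := Module.finite_of_finrank_pos (by omega)
  let b := Module.finBasisOfFinrankEq k (Coh.HH X D 0) h2
  refine ⟨hh0 D (b 0), hh0 D (b 1), fun x e => ?_⟩
  obtain ⟨t, ht⟩ := RA.exists_gen_of_isGloballyGenerated hD hg x
  obtain ⟨r, hr⟩ := ((Amp.mem_genLocus_iff hD t).1 ht).2 (e.symm 1)
  have hu : IsUnit (e (D.presheaf.germ ⊤ x trivial (Amp.gval t)) 0) := by
    refine IsUnit.of_mul_eq_one r ?_
    have := congrFun (congrArg e hr) 0
    simp only [map_smul, Pi.smul_apply, LinearEquiv.apply_symm_apply, Pi.one_apply, smul_eq_mul] at this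
    rw [mul_comm]; exact this
  have hlin : (D.presheaf.germ ⊤ x trivial (Amp.gval t) : D.presheaf.stalk x) =
      b.repr ((hh0 D).symm (Amp.gval t)) 0 • (D.presheaf.germ ⊤ x trivial (hh0 D (b 0)) : D.presheaf.stalk x) +
      b.repr ((hh0 D).symm (Amp.gval t)) 1 • (D.presheaf.germ ⊤ x trivial (hh0 D (b 1)) : D.presheaf.stalk x) := by
    have h := congrArg (h0germ k D x) (b.sum_repr ((hh0 D).symm (Amp.gval t))).symm
    rw [Fin.sum_univ_two, map_add, map_smul, map_smul] at h
    change (D.presheaf.germ ⊤ x trivial (hh0 D ((hh0 D).symm (Amp.gval t))) : D.presheaf.stalk x) = _ at h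
    rw [AddEquiv.apply_symm_apply] at h
    exact h
  by_contra hno
  push Not at hno
  rw [hlin, map_add] at hu
  refine (IsLocalRing.mem_maximalIdeal _).1 (Ideal.add_mem _ ?_ ?_) (by simpa using hu)
  · show e (stalkRingMap k x _ • _) 0 ∈ _
    rw [map_smul, Pi.smul_apply, smul_eq_mul]
    exact Ideal.mul_mem_left _ _ ((IsLocalRing.mem_maximalIdeal _).2 hno.1)
  · show e (stalkRingMap k x _ • _) 0 ∈ _
    rw [map_smul, Pi.smul_apply, smul_eq_mul]
    exact Ideal.mul_mem_left _ _ ((IsLocalRing.mem_maximalIdeal _).2 hno.2)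

theorem exists_one_tmul {H : X.Modules} {x : X} (g : (CohB1.tensorMod (Coh.structureModule X) H).presheaf.stalk x) :
    ∃ h : H.presheaf.stalk x, stalkEquiv (Coh.structureModule X) H x g =
      ((Coh.structureModule X).presheaf.germ ⊤ x trivial (one ⊤) : (Coh.structureModule X).presheaf.stalk x) ⊗ₜ h := by
  induction stalkEquiv (Coh.structureModule X) H x g using TensorProduct.induction_on with
  | zero => exact ⟨0, (TensorProduct.tmul_zero _ _).symm⟩
  | tmul p q =>
    obtain ⟨c, hc, -⟩ := stalkLin_secHom (one ⊤ : Γ(Coh.structureModule X, (⊤ : X.Opens))) x p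
    exact ⟨c • q, by rw [hc, TensorProduct.smul_tmul]⟩
  | add p q hp hq =>
    obtain ⟨a, ha⟩ := hp
    obtain ⟨b, hb⟩ := hq
    exact ⟨a + b, by rw [TensorProduct.tmul_add, ha, hb]⟩

/-- With a base-point-free pencil, `h⁰(H ⊗ D) < 2 h⁰(H)` gives a nonzero map `D → H`. -/
theorem exists_hom_of_pencil {D H : X.Modules} (hD : PicF.IsInvertible D) (hH : PicF.IsInvertible H)
    (hg : Curv2.IsGloballyGenerated D) (h2 : Module.finrank k (Coh.HH X D 0) = 2)
    [Module.Finite k (Coh.HH X H 0)] [Module.Finite k (Coh.HH X (CohB1.tensorMod D H) 0)]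
    (hlt : Module.finrank k (Coh.HH X (CohB1.tensorMod D H) 0) < 2 * Module.finrank k (Coh.HH X H 0)) :
    ∃ f : D ⟶ H, f ≠ 0 := by
  obtain ⟨s₁, s₂, hs⟩ := exists_pencil hD hg h2
  let O := Coh.structureModule X
  let P := CohB1.tensorMod O H
  let m : Γ(D, (⊤ : X.Opens)) → (P ⟶ CohB1.tensorMod D H) := fun s => tensorMap (secHom s) (𝟙 H)
  haveI : Module.Finite k (Coh.HH X P 0) := Module.Finite.equiv (hequiv k (tensorLUnit H) 0).symm
  let φ : (Coh.HH X P 0 × Coh.HH X P 0) →ₗ[k] Coh.HH X (CohB1.tensorMod D H) 0 :=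
    (hmap k (m s₁) 0).coprod (hmap k (m s₂) 0)
  obtain ⟨⟨a, b⟩, hab, hne⟩ : ∃ p ∈ LinearMap.ker φ, p ≠ 0 := by
    refine (Submodule.ne_bot_iff _).1 (LinearMap.ker_ne_bot_of_finrank_lt ?_)
    rw [Module.finrank_prod, (hequiv k (tensorLUnit H) 0).finrank_eq]
    omega
  let π : (O ⊞ O : X.Modules) ⟶ D := biprod.desc (secHom s₁) (secHom s₂)
  let θ : (O ⊞ O : X.Modules) ⟶ P := biprod.desc (secHom (-hh0 P b)) (secHom (hh0 P a))
  haveI : Epi π := by
    refine (epi_iff_stalk π).2 fun x d => ?_
    obtain ⟨e⟩ := nonempty_stalk_equiv ((isInvertible_iff_isFinLocFreeOfRank_one D).1 hD) x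
    have key : ∀ s : Γ(D, (⊤ : X.Opens)), IsUnit (e (D.presheaf.germ ⊤ x trivial s) 0) →
        ∃ c, stalkLin (secHom s) x c = d := fun s hu =>
      surjective_stalk_secHom s x (fun a => ⟨e a 0 * hu.unit⁻¹.1, e.injective (funext fun i => by
        rw [Fin.fin_one_eq_zero i, map_smul, Pi.smul_apply, smul_eq_mul, mul_assoc, IsUnit.val_inv_mul, mul_one])⟩) d
    rcases hs x e with hu | hu
    · obtain ⟨c, hc⟩ := key s₁ hu
      exact ⟨stalkLin biprod.inl x c, by
        rw [← stalkLin_apply, ← stalkLin_comp, show biprod.inl ≫ π = secHom s₁ from biprod.inl_desc _ _, hc]⟩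
    · obtain ⟨c, hc⟩ := key s₂ hu
      exact ⟨stalkLin biprod.inr x c, by
        rw [← stalkLin_apply, ← stalkLin_comp, show biprod.inr ≫ π = secHom s₂ from biprod.inr_desc _ _, hc]⟩
  have hkill : kernel.ι π ≫ θ = 0 := by
    have hst : ∀ (x : X) (c : (O ⊞ O : X.Modules).presheaf.stalk x), stalkLin π x c = 0 → stalkLin θ x c = 0 := by
      intro x c hc
      obtain ⟨e⟩ := nonempty_stalk_equiv ((isInvertible_iff_isFinLocFreeOfRank_one D).1 hD) x
      obtain ⟨e'⟩ := nonempty_stalk_equiv ((isInvertible_iff_isFinLocFreeOfRank_one P).1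
        (isInvertible_tensor (PicLoc.isInvertible_structureModule X) hH)) x
      obtain ⟨e''⟩ := nonempty_stalk_equiv ((isInvertible_iff_isFinLocFreeOfRank_one _).1 (isInvertible_tensor hD hH)) x
      obtain ⟨p, hp₁, hp₂⟩ := stalkLin_secHom s₁ x (stalkLin (biprod.fst : (O ⊞ O : X.Modules) ⟶ O) x c)
      obtain ⟨q, hq₁, hq₂⟩ := stalkLin_secHom s₂ x (stalkLin (biprod.snd : (O ⊞ O : X.Modules) ⟶ O) x c)
      have hdec : c = stalkLin (biprod.inl : O ⟶ (O ⊞ O : X.Modules)) x (stalkLin biprod.fst x c) +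
          stalkLin (biprod.inr : O ⟶ (O ⊞ O : X.Modules)) x (stalkLin biprod.snd x c) := by
        have h := congrArg (fun f : (O ⊞ O : X.Modules) ⟶ (O ⊞ O : X.Modules) => (stalkAb x).map f c) (biprod.total (X := O) (Y := O))
        simp only [Functor.map_add, CategoryTheory.Functor.map_id, CategoryTheory.id_apply] at h
        rw [← stalkLin_comp, ← stalkLin_comp]
        exact h.symm
      have hgen : ∀ (t : Γ(P, (⊤ : X.Opens))) (r : X.presheaf.stalk x)
          (z : (O : X.Modules).presheaf.stalk x), z = r • (O.presheaf.germ ⊤ x trivial (one ⊤) : O.presheaf.stalk x) →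
          stalkLin (secHom t) x z = r • (P.presheaf.germ ⊤ x trivial t : P.presheaf.stalk x) := by
        intro t r z hz
        rw [hz, map_smul, stalkLin_apply, germ_naturality, secHom_app_one]
      let σ₁ := e (D.presheaf.germ ⊤ x trivial s₁) 0
      let σ₂ := e (D.presheaf.germ ⊤ x trivial s₂) 0
      let α := e' (P.presheaf.germ ⊤ x trivial (hh0 P a)) 0
      let β := e' (P.presheaf.germ ⊤ x trivial (hh0 P b)) 0
      have hco : ∀ {M : X.Modules} (f : M.presheaf.stalk x ≃ₗ[X.presheaf.stalk x] (Fin 1 → X.presheaf.stalk x))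
          (v : M.presheaf.stalk x), v = f v 0 • f.symm 1 := fun f v => by
        refine f.injective (funext fun i => ?_)
        rw [Fin.fin_one_eq_zero i, map_smul, LinearEquiv.apply_symm_apply, Pi.smul_apply, Pi.one_apply, smul_eq_mul,
          mul_one]
      have hpq : p * σ₁ + q * σ₂ = 0 := by
        have h := hc
        rw [hdec, map_add, ← stalkLin_comp biprod.inl π, ← stalkLin_comp biprod.inr π, biprod.inl_desc, biprod.inr_desc,
          hp₂, hq₂] at h
        have h' := congrFun (congrArg e h) 0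
        simpa [σ₁, σ₂] using h'
      obtain ⟨h₀, hh₀⟩ := exists_one_tmul (e'.symm 1)
      let G : (CohB1.tensorMod D H).presheaf.stalk x := (stalkEquiv D H x).symm (e.symm 1 ⊗ₜ h₀)
      have hm : ∀ s : Γ(D, (⊤ : X.Opens)), stalkLin (m s) x (e'.symm 1) =
          e (D.presheaf.germ ⊤ x trivial s) 0 • G := fun s => by
        apply (stalkEquiv D H x).injective
        rw [stalkEquiv_natural, hh₀, LinearMap.rTensor_tmul, map_smul, LinearEquiv.apply_symm_apply,
          stalkLin_apply, germ_naturality, secHom_app_one, TensorProduct.smul_tmul', ← hco e]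
      have hG : IsUnit (e'' G 0) := by
        obtain ⟨s, hu⟩ : ∃ s : Γ(D, (⊤ : X.Opens)), IsUnit (e (D.presheaf.germ ⊤ x trivial s) 0) :=
          (hs x e).elim (fun h => ⟨s₁, h⟩) (fun h => ⟨s₂, h⟩)
        obtain ⟨v, hv⟩ := surjective_stalk_tensorMap (secHom s) (𝟙 H) x
          (surjective_stalk_secHom s x fun a => ⟨e a 0 * hu.unit⁻¹.1, e.injective (funext fun i => by
            rw [Fin.fin_one_eq_zero i, map_smul, Pi.smul_apply, smul_eq_mul, mul_assoc, IsUnit.val_inv_mul, mul_one])⟩)
          (surjective_stalkLin_of_isIso _ x) (e''.symm 1)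
        rw [hco e' v, map_smul, hm s] at hv
        have hv' := congrFun (congrArg e'' hv) 0
        rw [map_smul, map_smul, Pi.smul_apply, Pi.smul_apply, LinearEquiv.apply_symm_apply, Pi.one_apply,
          smul_eq_mul, smul_eq_mul, ← mul_assoc, mul_comm] at hv'
        exact IsUnit.of_mul_eq_one _ hv'
      have hrel : α * σ₁ + β * σ₂ = 0 := by
        have h : ((CohB1.tensorMod D H).presheaf.germ ⊤ x trivial
            (hh0 _ (φ (a, b))) : (CohB1.tensorMod D H).presheaf.stalk x) = 0 := by
          rw [LinearMap.mem_ker.1 hab, map_zero, map_zero]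
        rw [LinearMap.coprod_apply, map_add, map_add, hh0_hmap, hh0_hmap, ← germ_naturality, ← germ_naturality,
          ← stalkLin_apply, ← stalkLin_apply] at h
        rw [hco e' (P.presheaf.germ ⊤ x trivial (hh0 P a)), hco e' (P.presheaf.germ ⊤ x trivial (hh0 P b)),
          map_smul, map_smul, hm, hm, smul_smul, smul_smul, ← add_smul] at h
        have h' := congrFun (congrArg e'' h) 0
        rw [map_smul, map_zero, Pi.smul_apply, Pi.zero_apply, smul_eq_mul] at h'
        exact hG.mul_left_eq_zero.1 h'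
      have hθ : stalkLin θ x c = (-(p * β) + q * α) • e'.symm 1 := by
        rw [hdec, map_add, ← stalkLin_comp biprod.inl θ, ← stalkLin_comp biprod.inr θ, biprod.inl_desc, biprod.inr_desc,
          hgen _ p _ hp₁, hgen _ q _ hq₁, map_neg, hco e' (P.presheaf.germ ⊤ x trivial (hh0 P a)),
          hco e' (P.presheaf.germ ⊤ x trivial (hh0 P b)), smul_neg, smul_smul, smul_smul, ← neg_smul, ← add_smul]
      rw [hθ]
      have hzero : -(p * β) + q * α = 0 := by
        rcases hs x e with hu | hu
        · exact hu.mul_left_eq_zero.1 (by linear_combination q * hrel - β * hpq)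
        · exact hu.mul_left_eq_zero.1 (by linear_combination α * hpq - p * hrel)
      rw [hzero, zero_smul]
    refine Scheme.Modules.hom_ext _ _ fun U => ?_
    ext c
    refine M1.section_ext _ _ fun x hx => ?_
    rw [← germ_naturality, Functor.map_comp, CategoryTheory.comp_apply, ← stalkLin_apply, ← stalkLin_apply]
    refine (hst x _ ?_).trans ?_
    · rw [← stalkLin_comp, kernel.condition]
      show (stalkAb x).map (0 : kernel π ⟶ D) _ = 0
      rw [Functor.map_zero]
      rfl
    · exact (map_zero _).symm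
  refine ⟨Abelian.epiDesc π θ hkill ≫ (tensorLUnit H).hom, fun h0 => hne ?_⟩
  have hθ : θ = 0 := by
    rw [← Abelian.comp_epiDesc π θ hkill]
    have : Abelian.epiDesc π θ hkill = 0 := by
      rw [← cancel_mono (tensorLUnit H).hom, h0, zero_comp]
    rw [this, comp_zero]
  have hb0 : secHom (-hh0 P b) = (0 : O ⟶ P) := by
    rw [← biprod.inl_desc (secHom (-hh0 P b)) (secHom (hh0 P a))]
    show biprod.inl ≫ θ = 0
    rw [hθ, comp_zero]
  have ha0 : secHom (hh0 P a) = (0 : O ⟶ P) := by
    rw [← biprod.inr_desc (secHom (-hh0 P b)) (secHom (hh0 P a))]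
    show biprod.inr ≫ θ = 0
    rw [hθ, comp_zero]
  have hz : ∀ t : Γ(P, (⊤ : X.Opens)), secHom t = (0 : O ⟶ P) → t = 0 := fun t ht => by
    rw [← secHom_app_one t, ht]; rfl
  exact Prod.ext ((hh0 P).injective ((hz _ ha0).trans (map_zero _).symm))
    ((hh0 P).injective ((neg_eq_zero.1 (hz _ hb0)).trans (map_zero _).symm))

end Groth.Agent.CurveCoh17
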