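import Groth.Agent.Lib.CurveCoh17.PairDeg
import Groth.Agent.Lib.CurveCoh17.EtaleEuler
import Groth.Agent.Lib.Trace12.Hom
import Groth.Agent.Lib.Curve17.Basic
import Groth.Agent.Lib.AmpleFin18.PushEuler
import Mathlib.RingTheory.Trace.Basic
import Mathlib.RingTheory.Localization.NormTrace
import Mathlib.RingTheory.Flat.TorsionFree

/-!
# The Euler characteristic of a finite generically separable cover of a regular curve

For `f : X → Y` finite with `K(X)/K(Y)` separable the trace pairing on `f_* O_X` is generically perfect, hence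
`deg f_* O_X ≤ 0`, i.e. `χ(O_X) ≤ n · χ(O_Y)`: Hurwitz's inequality without its ramification term.
-/

set_option linter.style.haveILetI false
set_option autoImplicit false
set_option maxHeartbeats 800000

universe u

open CategoryTheory TopologicalSpace Opposite CategoryTheory.Limits AlgebraicGeometry
open scoped TensorProduct nonZeroDivisors

namespace Groth.Agent.CurveCoh17

open Groth.Agent.M1 Groth.Agent.M2

/-- The trace form of a finite free extension of domains with separable fraction fields is nondegenerate. -/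
theorem eq_zero_of_trace_mul {A B K L : Type u} [CommRing A] [CommRing B] [IsDomain A] [IsDomain B] [Field K]
    [Field L] [Algebra A B] [Algebra A K] [Algebra A L] [Algebra B L] [Algebra K L] [IsScalarTower A B L]
    [IsScalarTower A K L] [IsFractionRing A K] [IsFractionRing B L] [Module.Free A B] [Module.Finite A B]
    [Algebra.IsSeparable K L] (t : B) (h : ∀ s : B, Algebra.trace A B (s * t) = 0) : t = 0 := by
  haveI : Algebra.IsIntegral A B := Algebra.IsIntegral.of_finite A B
  have hA : ∀ a : A, a ≠ 0 → algebraMap A B a ≠ 0 := fun a ha h0 => ha ((IsFractionRing.injective A K)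
    ((algebraMap K L).injective (by
      rw [← IsScalarTower.algebraMap_apply, IsScalarTower.algebraMap_apply A B L, h0, map_zero, map_zero, map_zero])))
  haveI hloc : IsLocalization (Algebra.algebraMapSubmonoid B A⁰) L := by
    refine { map_units := ?_, surj := ?_, exists_of_eq := ?_ }
    · rintro ⟨_, a, ha, rfl⟩
      refine isUnit_iff_ne_zero.2 fun h0 => hA a (nonZeroDivisors.ne_zero ha) ?_
      exact IsFractionRing.injective B L (h0.trans (map_zero _).symm)
    · intro z
      obtain ⟨⟨b, n⟩, hz⟩ := IsLocalization.surj B⁰ z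
      obtain ⟨a, ha, c, hc⟩ := (Algebra.IsIntegral.isIntegral (R := A) (n : B)).isAlgebraic.exists_nonzero_dvd n.2
      refine ⟨⟨b * c, ⟨algebraMap A B a, a, mem_nonZeroDivisors_of_ne_zero ha, rfl⟩⟩, ?_⟩
      show z * algebraMap B L (algebraMap A B a) = algebraMap B L (b * c)
      rw [hc, map_mul, map_mul, ← mul_assoc, hz]
    · intro x y hxy
      exact ⟨1, by rw [IsFractionRing.injective B L hxy]⟩
  haveI : FiniteDimensional K L := Module.Finite.of_isLocalization A B A⁰
  refine IsFractionRing.injective B L ?_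
  rw [map_zero]
  refine (traceForm_nondegenerate K L).1 (algebraMap B L t) fun l => ?_
  obtain ⟨⟨b, ⟨_, a, ha, rfl⟩⟩, hl⟩ := IsLocalization.surj (Algebra.algebraMapSubmonoid B A⁰) l
  have hu : algebraMap A K a ≠ 0 := fun h0 =>
    nonZeroDivisors.ne_zero ha (IsFractionRing.injective A K (h0.trans (map_zero _).symm))
  have hl' : l = (algebraMap A K a)⁻¹ • algebraMap B L b := by
    rw [← hl, ← IsScalarTower.algebraMap_apply A B L, IsScalarTower.algebraMap_apply A K L, mul_comm,
      ← Algebra.smul_def, smul_smul, inv_mul_cancel₀ hu, one_smul]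
  rw [Algebra.traceForm_apply, hl', mul_smul_comm, map_smul, ← map_mul, Algebra.trace_localization A A⁰, mul_comm,
    h b, map_zero, smul_zero]

variable {X Y : Scheme.{u}} (f : X ⟶ Y)

/-- A finite dominant morphism to a regular curve is flat. -/
theorem flat_of_pid [IsIntegral X] [IsIntegral Y] (hpid : ∀ y : Y, IsPrincipalIdealRing (Y.presheaf.stalk y))
    (hξ : f (genericPoint X) = genericPoint Y) : Flat f := by
  refine (Flat.iff_flat_stalkMap f).2 fun x => ?_
  haveI := hpid (f x)
  letI := (f.stalkMap x).hom.toAlgebra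
  show Module.Flat (Y.presheaf.stalk (f x)) (X.presheaf.stalk x)
  rw [Module.Flat.flat_iff_torsion_eq_bot_of_isBezout, eq_bot_iff]
  rintro z ⟨⟨r, hr⟩, hrz⟩
  refine (Submodule.mem_bot _).2 ((mul_eq_zero.1 hrz).resolve_left fun h0 => ?_)
  exact nonZeroDivisors.ne_zero hr (Curve17.stalkMap_injective f hξ x (h0.trans (map_zero (f.stalkMap x).hom).symm))

/-- Multiplication of functions upstairs. -/
noncomputable def mulBiMap : BiMap (pushO f) (pushO f) (pushO f) where
  f U s t := @HMul.hMul Γ(X, f ⁻¹ᵁ U) Γ(X, f ⁻¹ᵁ U) Γ(X, f ⁻¹ᵁ U) _ s t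
  add_left U s s' t := add_mul (R := Γ(X, f ⁻¹ᵁ U)) s s' t
  smul_left U r s t := mul_assoc (G := Γ(X, f ⁻¹ᵁ U)) _ s t
  add_right U s t t' := mul_add (R := Γ(X, f ⁻¹ᵁ U)) s t t'
  smul_right U r s t := mul_left_comm (G := Γ(X, f ⁻¹ᵁ U)) s _ t
  compat {U V} h s t := (map_mul (X.presheaf.map (homOfLE (f.preimage_mono h)).op).hom
    (show Γ(X, f ⁻¹ᵁ U) from s) (show Γ(X, f ⁻¹ᵁ U) from t)).symm

variable {k : Type u} [Field k] [X.Over (Spec (CommRingCat.of k))] [Y.Over (Spec (CommRingCat.of k))]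

/-- `χ(O_X) ≤ n χ(O_Y)` for a finite generically separable cover of degree `n`. -/
theorem euler_le_mul_of_separable [IsIntegral X] [IsIntegral Y] (hY : VB17.RegCurve k Y)
    (hdY : topologicalKrullDim Y = 1) [IsFinite f]
    (hf : f ≫ (Y ↘ Spec (CommRingCat.of k)) = X ↘ Spec (CommRingCat.of k))
    (e : f (genericPoint X) = genericPoint Y)
    (hsep : letI := ((Y.presheaf.stalkSpecializes (specializes_of_eq e) ≫ f.stalkMap (genericPoint X)).hom).toAlgebra
      Algebra.IsSeparable Y.functionField X.functionField) :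
    ∃ n : ℕ, 0 < n ∧ Curv2.euler k X (Coh.structureModule X) ≤ n * Curv2.euler k Y (Coh.structureModule Y) := by
  haveI := hY.like.noetherian
  haveI := flat_of_pid f hY.pid e
  haveI : LocallyOfFinitePresentation f := {
    finitePresentation_appLE := fun {U} hU {V} hV le =>
      haveI := IsLocallyNoetherian.component_noetherian (X := Y) ⟨U, hU⟩
      RingHom.FinitePresentation.of_finiteType.mp (f.finiteType_appLE hU hV le) }
  have hA : FlatMod.IsFinLocFree (RelSpec.QCAlg.directImage f).toModule := isFinLocFree_pushO f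
  obtain ⟨n, hn⟩ := VB17.exists_rank_of_isFinLocFree (isFinLocFree_pushO f)
  let τ : pushO f ⟶ Coh.structureModule Y := Trace12.traceHom (RelSpec.QCAlg.directImage f) hA
  let β : CohB1.tensorMod (pushO f) (pushO f) ⟶ Coh.structureModule Y := mkHom (mulBiMap f) ≫ τ
  set η := genericPoint Y with hη
  have hnd : ∀ b, (∀ a, bil β η a b = 0) → b = 0 := by
    intro b hb
    obtain ⟨V, hV, t₀, rfl⟩ := (pushO f).presheaf.exists_germ_eq b
    obtain ⟨U, hU, hηU, hUV, hbas⟩ :=
      Trace12.exists_affine_hasBas (RelSpec.QCAlg.directImage f) hA (show η ∈ V from hV)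
    rw [← germ_mres (pushO f) hUV hηU t₀] at hb ⊢
    set t : Γ(pushO f, U) := mres (pushO f) hUV t₀
    suffices h : (t : Γ(X, f ⁻¹ᵁ U)) = 0 by
      rw [show t = (0 : Γ(pushO f, U)) from h]
      exact map_zero _
    haveI : Nonempty U := ⟨⟨η, hηU⟩⟩
    have hξU : genericPoint X ∈ f ⁻¹ᵁ U := show f (genericPoint X) ∈ U from e ▸ hηU
    haveI : Nonempty ((f ⁻¹ᵁ U : X.Opens) : Scheme.{u}) := ⟨⟨genericPoint X, hξU⟩⟩
    have hW : IsAffineOpen (f ⁻¹ᵁ U) := hU.preimage f
    haveI := functionField_isFractionRing_of_isAffineOpen Y U hU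
    haveI := functionField_isFractionRing_of_isAffineOpen X (f ⁻¹ᵁ U) hW
    letI : Algebra Γ(Y, U) Γ(X, f ⁻¹ᵁ U) := (f.app U).hom.toAlgebra
    let φ : Y.presheaf.stalk η ⟶ X.presheaf.stalk (genericPoint X) :=
      Y.presheaf.stalkSpecializes (specializes_of_eq e) ≫ f.stalkMap (genericPoint X)
    letI : Algebra Y.functionField X.functionField := φ.hom.toAlgebra
    haveI : Algebra.IsSeparable Y.functionField X.functionField := hsep
    letI : Algebra Γ(Y, U) X.functionField :=
      ((algebraMap Γ(X, f ⁻¹ᵁ U) X.functionField).comp (algebraMap Γ(Y, U) Γ(X, f ⁻¹ᵁ U))).toAlgebra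
    haveI : IsScalarTower Γ(Y, U) Γ(X, f ⁻¹ᵁ U) X.functionField := IsScalarTower.of_algebraMap_eq fun _ => rfl
    haveI : IsScalarTower Γ(Y, U) Y.functionField X.functionField := IsScalarTower.of_algebraMap_eq fun c => by
      show X.presheaf.germ (f ⁻¹ᵁ U) _ hξU (f.app U c) =
        f.stalkMap (genericPoint X) (Y.presheaf.stalkSpecializes (specializes_of_eq e) (Y.presheaf.germ U η hηU c))
      rw [TopCat.Presheaf.germ_stalkSpecializes_apply, Scheme.Hom.germ_stalkMap_apply]
    obtain ⟨hfree, hfin⟩ := Trace12.free_of_hasBas (RelSpec.QCAlg.directImage f) hbas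
    haveI : Module.Free Γ(Y, U) Γ(X, f ⁻¹ᵁ U) := hfree
    haveI : Module.Finite Γ(Y, U) Γ(X, f ⁻¹ᵁ U) := hfin
    refine eq_zero_of_trace_mul (A := Γ(Y, U)) (B := Γ(X, f ⁻¹ᵁ U)) (K := Y.functionField) (L := X.functionField) (show Γ(X, f ⁻¹ᵁ U) from t) fun s => ?_
    have h1 := hb ((pushO f).presheaf.germ U η hηU (s : Γ(pushO f, U)))
    rw [bil_apply, (LinearEquiv.symm_apply_eq _).2 (stalkEquiv_tsec _ _ η hηU _ _).symm, stalkLin_apply,
      germ_naturality] at h1
    have h2 : β.app U (tsec (pushO f) (pushO f) (s : Γ(pushO f, U)) t) =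
        Algebra.trace Γ(Y, U) Γ(X, f ⁻¹ᵁ U) (s * (show Γ(X, f ⁻¹ᵁ U) from t)) := by
      show (mkHom (mulBiMap f) ≫ τ).app U _ = _
      rw [Scheme.Modules.Hom.comp_app, CategoryTheory.comp_apply, mkHom_tsec]
      exact Trace12.traceHom_app_of_hasBas (RelSpec.QCAlg.directImage f) hA hbas _
    rw [h2] at h1
    have h3 : Y.presheaf.germ U η hηU (Algebra.trace Γ(Y, U) Γ(X, f ⁻¹ᵁ U) (s * (show Γ(X, f ⁻¹ᵁ U) from t))) = 0 := by
      obtain ⟨W, hW', i₁, i₂, he⟩ := (Coh.structureModule Y).presheaf.germ_eq η (U := U) (V := U) hηU hηU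
        (show Γ(Coh.structureModule Y, U) from Algebra.trace Γ(Y, U) Γ(X, f ⁻¹ᵁ U) (s * (show Γ(X, f ⁻¹ᵁ U) from t)))
        0 (h1.trans (map_zero _).symm)
      rw [map_zero] at he
      rw [← Y.presheaf.germ_res_apply i₁ η hW']
      exact (congrArg (Y.presheaf.germ W η hW') he).trans (map_zero _)
    exact germ_injective_of_isIntegral Y η hηU (h3.trans (map_zero _).symm)
  refine ⟨n, Nat.pos_of_ne_zero fun h0 => ?_, ?_⟩
  · subst h0
    obtain ⟨e₀⟩ := nonempty_stalk_equiv hn η
    have h1 : (pushO f).presheaf.germ ⊤ η trivial (1 : Γ(X, f ⁻¹ᵁ ⊤)) = 0 := e₀.injective (Subsingleton.elim _ _)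
    obtain ⟨W, hW', i₁, i₂, he⟩ := (pushO f).presheaf.germ_eq η (U := ⊤) (V := ⊤) trivial trivial
      (1 : Γ(X, f ⁻¹ᵁ ⊤)) 0 (h1.trans (map_zero _).symm)
    rw [map_zero] at he
    replace he : (X.presheaf.map (homOfLE (f.preimage_mono i₁.le)).op) (1 : Γ(X, f ⁻¹ᵁ ⊤)) = 0 := he
    rw [map_one] at he
    haveI : Nonempty ((f ⁻¹ᵁ W : X.Opens) : Scheme.{u}) := ⟨⟨genericPoint X, show f (genericPoint X) ∈ W from e ▸ hW'⟩⟩
    exact one_ne_zero he
  · have h := deg_add_nonpos hY hdY n hn hn β hnd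
    rw [Curv2.deg, euler_pushO f hf] at h
    omega

end Groth.Agent.CurveCoh17
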