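import Groth.Agent.Lib.CurveCoh17.Point
import Groth.Agent.Lib.RelAmple18.Generation
import Groth.Agent.Lib.RelAmple18.Generated

/-!
# Sections of an invertible module twisted down by a closed point
-/

set_option linter.style.haveILetI false
set_option autoImplicit false
set_option maxHeartbeats 800000

universe u

open CategoryTheory TopologicalSpace Opposite CategoryTheory.Limits AlgebraicGeometry

namespace Groth.Agent.CurveCoh17

open Groth.Agent.M1 Groth.Agent.M2

variable {k : Type u} [Field k] {X : Scheme.{u}} [X.Over (Spec (CommRingCat.of k))] {x : X}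
variable {L : X.Modules}

attribute [local instance] stalkMod Curv2.resAlgebra

/-- `I_x ⊗ L → L → O_x ⊗ L`. -/
noncomputable abbrev pointSC (hx : IsClosed ({x} : Set X)) (L : X.Modules) : ShortComplex X.Modules :=
  (ShortComplex.mk (ClSub.idealModι (Scheme.IdealSheafData.vanishingIdeal (⟨{x}, hx⟩ : Closeds X)))
    (ClSub.toSubscheme (Scheme.IdealSheafData.vanishingIdeal (⟨{x}, hx⟩ : Closeds X)))
    (kernel.condition _)).map (tensorR L)

/-- The restriction of global sections to the point. -/
noncomputable def atPoint (k : Type u) [Field k] [X.Over (Spec (CommRingCat.of k))]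
    (hx : IsClosed ({x} : Set X)) (L : X.Modules) :
    Coh.HH X L 0 →ₗ[k] Coh.HH X (pointSC hx L).X₃ 0 :=
  hmap k ((tensorLUnit L).inv ≫ (pointSC hx L).g) 0

theorem finrank_twist_point (hX : CurveLike k X) (hL : PicF.IsInvertible L) (hx : IsClosed ({x} : Set X)) :
    Module.finrank k (LinearMap.range (atPoint k hx L)) ≤ Module.finrank k (X.residueField x) ∧
    Module.finrank k (Coh.HH X L 0) =
      Module.finrank k (Coh.HH X (CohB1.tensorMod L
        (ClSub.idealMod (Scheme.IdealSheafData.vanishingIdeal (⟨{x}, hx⟩ : Closeds X)))) 0) +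
      Module.finrank k (LinearMap.range (atPoint k hx L)) := by
  haveI := hX.noetherian
  have h1 := (isInvertible_iff_isFinLocFreeOfRank_one L).1 hL
  set Z := Scheme.IdealSheafData.vanishingIdeal (⟨{x}, hx⟩ : Closeds X)
  have hS : (pointSC hx L).ShortExact := twistSES hL Z
  have hsupp := suppIn_quotMod_point hx
  have hfin := hX.fin _ (isCoh_quotMod Z) 0
  haveI : Module.Finite k (Coh.HH X (pointSC hx L).X₃ 0) := hsupp.finite_tensor hfin L (nonempty_stalk_equiv h1)
  refine ⟨?_, ?_⟩
  · refine (Submodule.finrank_le _).trans ?_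
    rw [← finrank_quotMod_point (k := k) hx]
    exact ((hsupp.finrank_tensor hfin L (nonempty_stalk_equiv h1)).trans (one_mul _)).le
  · haveI := hX.fin L (isCoh_of_ofRank h1) 0
    let f : Coh.HH X (pointSC hx L).X₁ 0 →ₗ[k] Coh.HH X L 0 :=
      hmap k ((pointSC hx L).f ≫ (tensorLUnit L).hom) 0
    have hf : Function.Injective f := by
      haveI : Mono ((pointSC hx L).f ≫ (tensorLUnit L).hom) := by haveI := hS.mono_f; exact mono_comp _ _
      exact hmap_f_injective k
        (S := ShortComplex.mk ((pointSC hx L).f ≫ (tensorLUnit L).hom) (cokernel.π _) (cokernel.condition _))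
        { exact := ShortComplex.exact_of_g_is_cokernel _ (cokernelIsCokernel _) }
    have hker : LinearMap.ker (atPoint k hx L) = LinearMap.range f := by
      ext w
      rw [LinearMap.mem_ker, LinearMap.mem_range]
      have hw : ∀ v, hmap k (tensorLUnit L).hom 0 (hmap k (tensorLUnit L).inv 0 v) = v :=
        fun v => (hequiv k (tensorLUnit L) 0).apply_symm_apply v
      have hw' : ∀ v, hmap k (tensorLUnit L).inv 0 (hmap k (tensorLUnit L).hom 0 v) = v :=
        fun v => (hequiv k (tensorLUnit L) 0).symm_apply_apply v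
      constructor
      · intro h
        rw [atPoint, hmap_comp] at h
        obtain ⟨a, ha⟩ := (exact_hmap_hmap k hS 0 _).1 h
        refine ⟨a, ?_⟩
        show hmap k _ 0 a = w
        rw [hmap_comp, ha]
        exact hw w
      · rintro ⟨a, rfl⟩
        show hmap k _ 0 (hmap k _ 0 a) = 0
        rw [hmap_comp, hmap_comp]
        refine (congrArg _ (hw' _)).trans ?_
        exact (exact_hmap_hmap k hS 0 _).2 ⟨a, rfl⟩
    rw [← LinearMap.finrank_range_add_finrank_ker (atPoint k hx L), hker, LinearMap.finrank_range_of_inj hf,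
      add_comm, (hequiv k (tensorComm L (ClSub.idealMod Z)) 0).finrank_eq]
    rfl

theorem atPoint_ne_zero_iff (hL : PicF.IsInvertible L) (hx : IsClosed ({x} : Set X)) :
    atPoint k hx L ≠ 0 ↔
      ∃ t : Γ(L, (⊤ : X.Opens)), Submodule.span (X.presheaf.stalk x)
        ({(L.presheaf.germ ⊤ x trivial t : L.presheaf.stalk x)} : Set (L.presheaf.stalk x)) = ⊤ := by
  have h1 := (isInvertible_iff_isFinLocFreeOfRank_one L).1 hL
  obtain ⟨e⟩ := nonempty_stalk_equiv h1 x
  set Z := Scheme.IdealSheafData.vanishingIdeal (⟨{x}, hx⟩ : Closeds X)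
  obtain ⟨hkill, a₀, ha₀⟩ := quot_point_props hx
  let ψ := stalkLin ((tensorLUnit L).inv ≫ (pointSC hx L).g) x
  have hψkill : ∀ r ∈ IsLocalRing.maximalIdeal (X.presheaf.stalk x), ∀ a, r • ψ a = 0 := fun r hr a => by
    refine (stalkEquiv (ClSub.quotMod Z) L x).injective ?_
    refine ((stalkEquiv (ClSub.quotMod Z) L x).map_smul _ _).trans (Eq.trans ?_ (map_zero _).symm)
    induction stalkEquiv (ClSub.quotMod Z) L x (ψ a) using TensorProduct.induction_on with
    | zero => exact smul_zero _
    | tmul p q => rw [TensorProduct.smul_tmul', hkill _ hr, TensorProduct.zero_tmul]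
    | add p q hp hq => rw [smul_add, hp, hq, add_zero]
  have hgerm : ∀ w : Coh.HH X L 0, ((pointSC hx L).X₃.presheaf.germ ⊤ x trivial (hh0 _ (atPoint k hx L w)) :
      (pointSC hx L).X₃.presheaf.stalk x) = ψ (L.presheaf.germ ⊤ x trivial (hh0 L w)) := fun w => by
    rw [atPoint, hh0_hmap]
    exact (germ_naturality _ _ _ _ _).symm
  constructor
  · intro hne
    by_contra hno
    push Not at hno
    refine hne (LinearMap.ext fun w => (hh0 _).injective ?_)
    rw [LinearMap.zero_apply, map_zero]
    refine ((suppIn_quotMod_point hx).tensor L).section_ext _ _ fun y hy _ => ?_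
    obtain rfl := Finset.mem_singleton.1 hy
    refine (hgerm w).trans (Eq.trans ?_ (map_zero _).symm)
    have hm : e (L.presheaf.germ ⊤ y trivial (hh0 L w)) 0 ∈ IsLocalRing.maximalIdeal (X.presheaf.stalk y) := by
      by_contra hu
      rw [IsLocalRing.mem_maximalIdeal, mem_nonunits_iff, not_not] at hu
      obtain ⟨v, hv⟩ := hu
      refine hno (hh0 L w) (top_le_iff.1 fun a _ => ?_)
      refine Submodule.mem_span_singleton.2 ⟨e a 0 * ↑v⁻¹, e.injective (funext fun i => ?_)⟩
      rw [Fin.fin_one_eq_zero i, map_smul, Pi.smul_apply, smul_eq_mul, ← hv, mul_assoc, Units.inv_mul, mul_one]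
    have ht : (L.presheaf.germ ⊤ y trivial (hh0 L w) : L.presheaf.stalk y) =
        e (L.presheaf.germ ⊤ y trivial (hh0 L w)) 0 • e.symm 1 := by
      apply e.injective
      funext i
      rw [Fin.fin_one_eq_zero i, map_smul, LinearEquiv.apply_symm_apply, Pi.smul_apply, Pi.one_apply, smul_eq_mul, mul_one]
    rw [ht, map_smul]
    exact hψkill _ hm _
  · rintro ⟨t, ht⟩ h0
    have hz : ψ (L.presheaf.germ ⊤ x trivial t) = 0 := by
      have h := hgerm ((hh0 L).symm t)
      rw [h0, LinearMap.zero_apply, map_zero, map_zero, AddEquiv.apply_symm_apply] at h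
      exact h.symm
    have hψ : ∀ a, ψ a = 0 := fun a => by
      obtain ⟨c, rfl⟩ := Submodule.mem_span_singleton.1 (ht ▸ Submodule.mem_top :
        a ∈ Submodule.span (X.presheaf.stalk x) ({(L.presheaf.germ ⊤ x trivial t : L.presheaf.stalk x)} : Set (L.presheaf.stalk x)))
      rw [map_smul, hz, smul_zero]
    haveI : Epi (pointSC hx L).g := (twistSES hL Z).epi_g
    haveI : Epi ((tensorLUnit L).inv ≫ (pointSC hx L).g) := @epi_comp _ _ _ _ _ _ inferInstance _ (twistSES hL Z).epi_g
    have hsurj : Function.Surjective ψ := (epi_iff_stalk ((tensorLUnit L).inv ≫ (pointSC hx L).g)).1 inferInstance x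
    obtain ⟨a, ha⟩ := hsurj ((stalkTensorPi (ClSub.quotMod Z) L x e).symm fun _ => a₀)
    rw [hψ a] at ha
    exact ha₀ (congrFun ((stalkTensorPi (ClSub.quotMod Z) L x e).symm.injective (ha.symm.trans (map_zero _).symm)) 0)

end Groth.Agent.CurveCoh17
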